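import Cfsg.Agent.Mrg.Omega.NO3S.MidB.TGEnd
import Cfsg.Agent.Mrg.Omega.NO3S.MidQ.Base
import Cfsg.Agent.Mrg.Omega.NO3S.MidB.Base
import Cfsg.Agent.Mrg.Omega.NO3S.MidB.Mod

-- merged: Cfsg.Agent.Mrg.Omega.NO3S.MidB.TGOne
section

/-!
# NO-3S, the `(R, B)`-frame, TYPE N, case (A1): (H2) (bb OMEGA #18317, TCARD 5, C1)

Let `h : TF S P V Z`.

* `TF.exists_comm'` : `Cr R A C`, `β ∈ W_R` moved by `W_C`: every `α ∈ A` is `[g, β]`, `g ∈ W_C`;
* `TF.exists_of_cr'` : (under `Sml`) `U_A = W_C C_{U_A}(W_R)`;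
* **`TF.h2`** : `Sml V Z → H2 V Z`;
* `TF.false_of_sml`.
-/

set_option autoImplicit false
set_option linter.unusedSectionVars false

namespace Cfsg.Agent.Omega.NO3S.MidB

open Subgroup Cfsg.Agent.Omega.NO3S.PT Cfsg.Agent.Omega.NoFF.Basic Cfsg.Agent.ZN
open Cfsg.Agent.Omega.NO3S.MidQ (Adj Com Cr UU ws_of kx_of isCj_iff adj_iff com_iff cr_iff UU_of isCj_symm isCj_trans
  com_cj UU_cj le_UU normalizer_le_UU isPGroup_sSup FlagCan PtCan ff mem_ff ff_cj TypN cw mem_cw cw_le cw_cj Jo jo_cj zu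
  H2)
open scoped Pointwise

variable {G : Type*} [Group G] {V Z X Y R L A A' B B' C : Subgroup G}

namespace TF

variable [Finite G] {S : Sylow 2 G} {P : Subgroup G} (h : TF S P V Z)
include h

/-- `w ↦ [w, β] ∈ A` for `w ∈ U_A`, `β ∈ W_R`, `A ~ R` -/
theorem comm_mul (hA : Adj V Z A R) {w w' β : G} (hw : w ∈ UU V Z A) (hw' : w' ∈ UU V Z A) (hβ : β ∈ ws V R) :
    w * w' * β * (w * w')⁻¹ * β⁻¹ = (w * β * w⁻¹ * β⁻¹) * (w' * β * w'⁻¹ * β⁻¹) := by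
  have hcen : ∀ w ∈ UU V Z A, ∀ a ∈ A, w * a = a * w := fun w hw a ha =>
    (mem_centralizer_iff.1 (h.UU_le_cent_pt hA.left hw) a ha).symm
  have hval : ∀ w ∈ UU V Z A, w * β * w⁻¹ * β⁻¹ ∈ A := fun w hw => h.comm_adj hA hw hβ
  have e1 : w * w' * β * (w * w')⁻¹ * β⁻¹ = w * (w' * β * w'⁻¹ * β⁻¹) * (β * w⁻¹ * β⁻¹) := by group
  rw [e1, hcen _ hw _ (hval _ hw'), mul_assoc]
  have e2 : w * (β * w⁻¹ * β⁻¹) = w * β * w⁻¹ * β⁻¹ := by group
  rw [e2]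
  exact h.ws_comm hA.left (h.pt_le_ws hA.left (hval _ hw')) (h.pt_le_ws hA.left (hval _ hw))

/-- **(0')** `(R, C)` critical with middle `A`, `β ∈ W_R` not centralised by `W_C`: `[W_C, β] = A` elementwise -/
theorem exists_comm' (hc : Cr V Z R A C) {β α : G} (hβ : β ∈ ws V R) (hmv : ¬ ∀ w ∈ ws V C, w * β = β * w)
    (hα : α ∈ A) : ∃ g ∈ ws V C, g * β * g⁻¹ * β⁻¹ = α := by
  have hβC : ∀ c ∈ C, β * c = c * β := fun c hcC =>
    (mem_centralizer_iff.1 (h.ws_le_cent hc.l hc.r hβ) c hcC).symm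
  obtain ⟨F, hF, hFβ⟩ : ∃ F, Adj V Z F C ∧ ¬ F ≤ centralizer ({β} : Set G) := by
    by_contra hno
    push Not at hno
    refine hmv fun w hw => ?_
    have h1 := h.ws_le_of (U := centralizer ({β} : Set G)) hc.r.right
      (fun c hcC => mem_centralizer_singleton_iff.2 (hβC c hcC).symm) hno hw
    exact mem_centralizer_singleton_iff.1 h1
  have hFW : F ≤ ws V C := h.adj_le_ws hF.symm
  have hval : ∀ w ∈ F, w * β * w⁻¹ * β⁻¹ ∈ A := fun w hw =>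
    h.comm_adj hc.l.symm (le_UU hc.r.symm (hFW hw)) hβ
  let f : F → A := fun w => ⟨w.1 * β * w.1⁻¹ * β⁻¹, hval w.1 w.2⟩
  have hf : Function.Injective f := by
    intro x y hxy
    have h1 : x.1 * β * x.1⁻¹ * β⁻¹ = y.1 * β * y.1⁻¹ * β⁻¹ := congrArg Subtype.val hxy
    have h2 : x.1 * β * x.1⁻¹ = y.1 * β * y.1⁻¹ := mul_right_cancel h1
    have h3 : β * (y.1⁻¹ * x.1) = y.1⁻¹ * x.1 * β := by
      calc β * (y.1⁻¹ * x.1) = y.1⁻¹ * (y.1 * β * y.1⁻¹) * x.1 := by group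
        _ = y.1⁻¹ * (x.1 * β * x.1⁻¹) * x.1 := by rw [h2]
        _ = y.1⁻¹ * x.1 * β := by group
    by_contra hne
    have h4 : y.1⁻¹ * x.1 ≠ 1 := fun e => hne (Subtype.ext (inv_mul_eq_one.1 e).symm)
    refine hFβ fun w hw => mem_centralizer_singleton_iff.2 ?_
    exact (h.t3 hF.symm (h.twoEl_ws hc.l.left hβ) hβC (mul_mem (inv_mem y.2) x.2) h4 h3 w hw).symm
  have hcard : Nat.card A ≤ Nat.card F := by
    rw [h.card_pt hF.left, h.card_pt hc.l.right]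
  obtain ⟨x, hx⟩ := (hf.bijective_of_nat_card_le hcard).2 ⟨α, hα⟩
  exact ⟨x.1, hFW x.2, congrArg Subtype.val hx⟩

/-- (A1): an element of `U_A` commuting with an element of `B#`, `A → B` at `R`, centralises `W_R` -/
theorem cent_of_sml (hS : Sml V Z) (hj : Jo V Z R A B) {x β : G} (hx : x ∈ UU V Z A) (hβ : β ∈ B) (hβ1 : β ≠ 1)
    (hxβ : x * β = β * x) : ∀ w ∈ ws V R, x * w = w * x := by
  refine hS R A B hj x hx ?_
  exact h.t3 hj.r.symm (h.twoEl_UU hx)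
    (fun y hy => (mem_centralizer_iff.1 (h.UU_le_cent_adj hj.l.symm hx) y hy).symm) hβ hβ1 hxβ

/-- `(R, C)` critical with middle `A`: some `B ~ R` is moved by `W_C` -/
theorem exists_mv (hc : Cr V Z R A C) : ∃ B β, Jo V Z R A B ∧ β ∈ B ∧ β ≠ 1 ∧ ¬ ∀ w ∈ ws V C, w * β = β * w := by
  obtain ⟨B, hB, hBC⟩ : ∃ B, Adj V Z B R ∧ ¬ B ≤ centralizer ((ws V C : Subgroup G) : Set G) := by
    by_contra hno
    push Not at hno
    refine hc.ne (h.ws_le_of hc.l.left ?_ hno)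
    exact le_centralizer_iff.1 (h.ws_le_cent hc.symm.l hc.symm.r)
  obtain ⟨β, hβ, hβC⟩ := SetLike.not_le_iff_exists.1 hBC
  have h1 : ¬ ∀ w ∈ ws V C, w * β = β * w := fun e => hβC (mem_centralizer_iff.2 e)
  refine ⟨B, β, ⟨hc.l.symm, hB, fun e => hBC (e.trans (centralizer_le (le_UU hc.r.symm)))⟩, hβ, ?_, h1⟩
  rintro rfl
  exact h1 fun w _ => by rw [mul_one, one_mul]

/-- `U_A = W_C C_{U_A}(W_R)` -/
theorem exists_of_cr' (hS : Sml V Z) (hc : Cr V Z R A C) {u : G} (hu : u ∈ UU V Z A) :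
    ∃ w ∈ ws V C, ∀ x ∈ ws V R, w⁻¹ * u * x = x * (w⁻¹ * u) := by
  obtain ⟨B, β, hj, hβ, hβ1, hmv⟩ := h.exists_mv hc
  have hβW := h.adj_le_ws hj.r.symm hβ
  obtain ⟨w, hw, hwβ⟩ := h.exists_comm' hc hβW hmv (h.comm_adj hj.l hu hβW)
  refine ⟨w, hw, h.cent_of_sml hS hj (mul_mem (inv_mem (le_UU hc.r.symm hw)) hu) hβ hβ1 ?_⟩
  have h4 : w * β * w⁻¹ = u * β * u⁻¹ := mul_right_cancel hwβ
  calc w⁻¹ * u * β = w⁻¹ * (u * β * u⁻¹) * u := by group
    _ = w⁻¹ * (w * β * w⁻¹) * u := by rw [h4]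
    _ = β * (w⁻¹ * u) := by group

/-- **(H2)** in case (A1) -/
theorem h2 (_hs : JSym V Z) (hS : Sml V Z) : H2 V Z := by
  intro C A hA
  obtain ⟨R, hc'⟩ := h.exists_crit hA.symm
  have hc : Cr V Z R A C := hc'.symm
  obtain ⟨B, β, hj, hβ, hβ1, hmv⟩ := h.exists_mv hc
  have hβW := h.adj_le_ws hj.r.symm hβ
  have hWU : ws V C ≤ UU V Z A := le_UU hc.r.symm
  let f : ws V C →* A :=
    { toFun := fun w => ⟨w.1 * β * w.1⁻¹ * β⁻¹, h.comm_adj hj.l (hWU w.2) hβW⟩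
      map_one' := Subtype.ext (by simp)
      map_mul' := fun w w' => Subtype.ext (h.comm_mul hj.l (hWU w.2) (hWU w'.2) hβW) }
  have hker : f.ker = (centralizer ((UU V Z A : Subgroup G) : Set G)).subgroupOf (ws V C) := by
    ext w
    rw [MonoidHom.mem_ker, mem_subgroupOf]
    constructor
    · intro h3
      have h4 : w.1 * β * w.1⁻¹ * β⁻¹ = 1 := congrArg Subtype.val h3
      rw [mul_inv_eq_one, mul_inv_eq_iff_eq_mul] at h4
      have h5 := h.cent_of_sml hS hj (hWU w.2) hβ hβ1 h4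
      refine mem_centralizer_iff.2 fun u hu => ?_
      obtain ⟨v, hv, hvu⟩ := h.exists_of_cr' hS hc.symm hu
      have h6 := hvu w.1 w.2
      have h7 := h5 v hv
      calc u * w.1 = v * (v⁻¹ * u * w.1) := by group
        _ = v * (w.1 * (v⁻¹ * u)) := by rw [h6]
        _ = v * w.1 * (v⁻¹ * u) := by group
        _ = w.1 * v * (v⁻¹ * u) := by rw [h7]
        _ = w.1 * u := by group
    · intro h3
      apply Subtype.ext
      show w.1 * β * w.1⁻¹ * β⁻¹ = 1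
      rw [mul_inv_eq_one, mul_inv_eq_iff_eq_mul]
      exact (mem_centralizer_iff.1 h3 β (le_UU hc.l hβW)).symm
  have hrange : f.range = ⊤ := by
    rw [eq_top_iff]
    rintro ⟨α, hα⟩ -
    obtain ⟨g, hg, hgα⟩ := h.exists_comm' hc hβW hmv hα
    exact ⟨⟨g, hg⟩, Subtype.ext hgα⟩
  have h6 := index_ker f
  rw [hker, hrange] at h6
  rw [relIndex, h6, card_top, h.card_pt hA.left]

/-- case (A1) is impossible -/
theorem false_of_sml (hs : JSym V Z) (hd : JDist V Z) (hS : Sml V Z) : False := h.false_of_h2 (h.h2 hs hS) hd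

end TF

end Cfsg.Agent.Omega.NO3S.MidB

end

-- merged: Cfsg.Agent.Mrg.Omega.NO3S.MidB.ToSLB
section

/-!
# TYPE N, case (A2): the blocks satisfy `SLB` (bb OMEGA #18317, TCARD 5 D)

* `TF.two_x`, `TF.two` : the stabiliser of `R` is transitive on the pairs of joined points;
* `TF.slb` : `SLB V Z Blk m` from `JSym`, `JVal`, `JTrans`, `JDich`, `Bg`.
-/

set_option autoImplicit false
set_option linter.unusedSectionVars false

namespace Cfsg.Agent.Omega.NO3S.MidB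

open Subgroup Cfsg.Agent.Omega.NO3S.PT Cfsg.Agent.Omega.NoFF.Basic Cfsg.Agent.ZN
open Cfsg.Agent.Omega.NO3S.MidQ (Adj Com Cr UU ws_of kx_of isCj_iff adj_iff com_iff cr_iff UU_of isCj_symm isCj_trans
  com_cj UU_cj le_UU normalizer_le_UU isPGroup_sSup FlagCan PtCan ff mem_ff ff_cj TypN cw mem_cw cw_le cw_cj Jo jo_cj zu
  Sb SLB)
open scoped Pointwise

variable {G : Type*} [Group G] {V Z X Y R L A A' B B' C E F H : Subgroup G}

/-- the elements of the product of two commuting subgroups -/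
theorem exists_mul_of_sup {H E : Subgroup G} (hc : ∀ a ∈ H, ∀ b ∈ E, a * b = b * a) {x : G} (hx : x ∈ H ⊔ E) :
    ∃ a ∈ H, ∃ b ∈ E, x = a * b := by
  let K : Subgroup G :=
    { carrier := {x | ∃ a ∈ H, ∃ b ∈ E, x = a * b}
      one_mem' := ⟨1, one_mem _, 1, one_mem _, (mul_one 1).symm⟩
      inv_mem' := by
        rintro _ ⟨a, ha, b, hb, rfl⟩
        refine ⟨a⁻¹, inv_mem ha, b⁻¹, inv_mem hb, ?_⟩
        rw [mul_inv_rev, hc _ (inv_mem ha) _ (inv_mem hb)]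
      mul_mem' := by
        rintro _ _ ⟨a, ha, b, hb, rfl⟩ ⟨c, hc', d, hd, rfl⟩
        refine ⟨a * c, mul_mem ha hc', b * d, mul_mem hb hd, ?_⟩
        rw [mul_assoc, ← mul_assoc b c d, ← hc _ hc' _ hb]
        simp only [mul_assoc] }
  have hK : H ⊔ E ≤ K := sup_le (fun x hx => ⟨x, hx, 1, one_mem _, (mul_one x).symm⟩)
    (fun x hx => ⟨1, one_mem _, x, hx, (one_mul x).symm⟩)
  exact hK hx

namespace TF

variable [Finite G] {S : Sylow 2 G} {P : Subgroup G} (h : TF S P V Z)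
include h

theorem jo_of_sb (hs : JSym V Z) (hv : JVal V Z) (ht : JTrans V Z) (h1 : Sb V Z (Bk V Z) R A B) : Jo V Z R A B := by
  obtain ⟨hA, hB, ⟨_, ⟨C, hC, rfl⟩, hAD, hBD⟩, hne⟩ := h1
  obtain ⟨a, ha, ha1⟩ := h.pt_ne_bot hA.left
  obtain ⟨b, hb, hb1⟩ := h.pt_ne_bot hB.left
  have h1 := h.eqv_of_le hs hv ht hC hA ha ha1 (hAD ha)
  have h2 := h.eqv_of_le hs hv ht hC hB hb hb1 (hBD hb)
  rcases (h.eqv_trans ht (h.eqv_symm hs h1) h2).2.2 with ⟨L, hL, hRL, hAL, hBL⟩ | hj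
  · exact absurd hBL (hne L hL hRL hAL)
  · exact hj

/-- joined points are not on a line with `R` -/
theorem jo_ne_line (hj : Jo V Z R A B) (hL : IsCj V L) (hRL : R ≤ L) (hAL : A ≤ L) : ¬ B ≤ L := fun e =>
  (h.jo_iff hj.l hj.r).1 hj (e.trans (h.line_le_cw hL hRL hAL))

theorem jo_of_eqv (he : Eqv V Z R A B) (hne : ∀ L, IsCj V L → R ≤ L → A ≤ L → ¬ B ≤ L) : Jo V Z R A B := by
  rcases he.2.2 with ⟨L, hL, hRL, hAL, hBL⟩ | hj
  · exact absurd hBL (hne L hL hRL hAL)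
  · exact hj

/-- a good subgroup containing a nontrivial element of a point contains the point -/
theorem good_le (hH : Good V Z R H) (hE : Adj V Z E R) {x : G} (hx : x ∈ E) (hx1 : x ≠ 1) (hxH : x ∈ H) : E ≤ H := by
  obtain ⟨F, hF, hFH, hxF⟩ := hH.2 x hxH (h.not_mem_R hE hx hx1)
  rwa [h.pts_eq hE.left hF.left hx hxF hx1]

/-- **(x)** -/
theorem two_x (hs : JSym V Z) (hv : JVal V Z) (ht : JTrans V Z) (hd : JDich V Z) (hj : Jo V Z R A B)
    (hj' : Jo V Z R A B') (hne : ∀ L, IsCj V L → R ≤ L → B ≤ L → ¬ B' ≤ L) (hH : Good V Z R (R ⊔ B ⊔ B'))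
    (hA : ¬ A ≤ R ⊔ B ⊔ B') : ∃ g : G, cj g R = R ∧ cj g A = A ∧ cj g B = B' := by
  have hR := hj.l.right
  obtain ⟨β, hβ, hβ1⟩ := h.pt_ne_bot hj.r.left
  obtain ⟨β', hβ', hβ1'⟩ := h.pt_ne_bot hj'.r.left
  have hAB : Eqv V Z R A B := ⟨hj.l, hj.r, Or.inr hj⟩
  have hAB' : Eqv V Z R A B' := ⟨hj.l, hj'.r, Or.inr hj'⟩
  have hBB : Jo V Z R B B' := h.jo_of_eqv (h.eqv_trans ht (h.eqv_symm hs hAB) hAB') hne
  -- the third point `Y`
  obtain ⟨k, hk, hy, hYle, hY, hjBY⟩ := h.jo_mul hv hBB hβ hβ' hβ1'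
  set Y := PT.cj k B' with hYdef
  have hRH : R ≤ R ⊔ B ⊔ B' := le_sup_of_le_left le_sup_left
  have hBH : B ≤ R ⊔ B ⊔ B' := le_sup_of_le_left le_sup_right
  have hBH' : B' ≤ R ⊔ B ⊔ B' := le_sup_right
  have hYH : Y ≤ R ⊔ B ⊔ B' := hYle.trans (sup_le hBH hBH')
  have hjYB : Jo V Z R Y B := hs _ _ _ hjBY
  have hAY : Eqv V Z R A Y := h.eqv_trans ht hAB ⟨hj.r, hY, Or.inr hjBY⟩
  have hyc : β * β' = β' * β := h.ws_comm hR (h.adj_le_ws hj.r.symm hβ) (h.adj_le_ws hj'.r.symm hβ')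
  have hβ2 : β * β = 1 := h.ws_sq hR (h.adj_le_ws hj.r.symm hβ)
  rcases hd R Y A B hjYB hj.l with h1 | h2
  · obtain ⟨g, hg, hgb⟩ := hv R Y B hjYB β hβ hβ1 (β * β') hy
    obtain ⟨g', hg', h3, h4⟩ := h1 g hg
    refine ⟨g', h.cj_UU_adj hg' hY, ?_, ?_⟩
    · refine cj_eq_iff.2 (centralizer_le_normalizer _ ?_)
      exact mem_centralizer_iff.2 fun i hi => (h4 i hi).symm
    · have h5 : g' * β * g'⁻¹ = β' := by
        rw [h3 β hβ]
        have e : g * β * g⁻¹ = g * β * g⁻¹ * β⁻¹ * β := by group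
        rw [e, hgb, hyc, mul_assoc, hβ2, mul_one]
      have h6 := conj_mem_cj (g := g') hβ
      rw [h5] at h6
      exact h.pts_eq (hj.r.left.cj g') hj'.r.left h6 hβ' hβ1'
  · exfalso
    obtain ⟨α, hα, hα1⟩ := h.pt_ne_bot hj.l.left
    obtain ⟨γ, hγ, hc⟩ := h2 α hα
    obtain ⟨L, hL, hYL, hRL⟩ := hY.line
    -- `α γ` is on the line `R Y`
    have hb : α * γ ∈ blk V Z R A := mul_mem (eqv_le_blk (h.eqv_refl hj.l) hα) (eqv_le_blk hAB hγ)
    have hL2 : α * γ ∈ R ⊔ B ⊔ B' := by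
      rcases (h.mem_blk hs hv ht hj.l).1 hb with h3 | ⟨E, hE, hbE⟩
      · exact hRH h3
      rcases (h.eqv_trans ht (h.eqv_symm hs hAY) hE).2.2 with ⟨M, hM, hRM, hYM, hEM⟩ | hjE
      · exact (h.line_le' hR hY.left hY.ne hM hRM hYM hRH hYH) (hEM hbE)
      · have h3 := h.inf_cw hjE hbE (mem_cw.2 ⟨h.adj_le_ws hE.2.1.symm hbE, fun u hu => hc u hu⟩)
        rw [h3]
        exact one_mem _
    have h3 : α ∈ R ⊔ B ⊔ B' := by
      have e : α = α * γ * γ⁻¹ := by group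
      rw [e]
      exact mul_mem hL2 (inv_mem (hBH hγ))
    exact hA (h.good_le hH hj.l hα hα1 h3)

/-- **two** -/
theorem two (hs : JSym V Z) (hv : JVal V Z) (ht : JTrans V Z) (hd : JDich V Z) (hB : Bg V Z) (hj : Jo V Z R A B)
    (hj' : Jo V Z R A' B') : ∃ g : G, cj g R = R ∧ cj g A = A' ∧ cj g B = B' := by
  -- wlog `A = A'`
  obtain ⟨g₀, h1, h2⟩ := h.exists_adj hj.l hj'.l
  have hj2 : Jo V Z R A' (PT.cj g₀ B) := by
    have := jo_cj (g := g₀).2 hj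
    rwa [h1, h2] at this
  suffices hgen : ∀ B B' : Subgroup G, Jo V Z R A' B → Jo V Z R A' B' →
      ∃ g : G, cj g R = R ∧ cj g A' = A' ∧ cj g B = B' by
    obtain ⟨g, h3, h4, h5⟩ := hgen _ _ hj2 hj'
    exact ⟨g * g₀, by rw [← cj_cj, h1, h3], by rw [← cj_cj, h2, h4], by rw [← cj_cj, h5]⟩
  clear hj2 h1 h2 g₀ hj hj'
  intro B B' hj hj'
  have hR := hj.l.right
  have hA := hj.l
  obtain ⟨k, hk, hk2⟩ := h.card_blk_jo hs hv ht hB hj
  have hZ := h.one_lt_card_pt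
  -- the good subgroups `R A B`
  have hg : ∀ B, Jo V Z R A' B → Good V Z R (R ⊔ A' ⊔ B) ∧ Nat.card ↥(R ⊔ A' ⊔ B) = Nat.card Z ^ 3 ∧
      R ⊔ A' ⊔ B ≤ blk V Z R A' := by
    intro B hj
    obtain ⟨L, hL, hAL, hRL⟩ := hA.line
    have h0 : R ≤ blk V Z R A' := R_le_blk
    obtain ⟨g1, -, c1⟩ := h.good_sup hs hv ht h.good_R h0 hA (h.eqv_refl hA) (fun e => by
      obtain ⟨a, ha, ha1⟩ := h.pt_ne_bot hA.left
      exact h.not_mem_R hA ha ha1 (e ha))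
    have h1 : R ⊔ A' ≤ blk V Z R A' := sup_le h0 (eqv_le_blk (h.eqv_refl hA))
    obtain ⟨g2, -, c2⟩ := h.good_sup hs hv ht g1 h1 hA ⟨hA, hj.r, Or.inr hj⟩ (fun e =>
      h.jo_ne_line hj hL hRL hAL (e.trans (sup_le hRL hAL)))
    refine ⟨g2, ?_, sup_le h1 (eqv_le_blk ⟨hA, hj.r, Or.inr hj⟩)⟩
    rw [c2, c1, h.card_pt hR]
    ring
  obtain ⟨hg1, hc1, hl1⟩ := hg B hj
  obtain ⟨hg2, hc2, hl2⟩ := hg B' hj'
  -- the point `E`
  obtain ⟨E, hE, hE1, hE2⟩ : ∃ E, Eqv V Z R A' E ∧ ¬ E ≤ R ⊔ A' ⊔ B ∧ ¬ E ≤ R ⊔ A' ⊔ B' := by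
    by_contra hcon
    have h3 : ∀ x ∈ blk V Z R A', x ∈ R ⊔ A' ⊔ B ∨ x ∈ R ⊔ A' ⊔ B' := by
      intro x hx
      rcases (h.mem_blk hs hv ht hA).1 hx with h4 | ⟨E, hE, hxE⟩
      · exact Or.inl (hg1.1 h4)
      · by_cases h5 : E ≤ R ⊔ A' ⊔ B
        · exact Or.inl (h5 hxE)
        · by_cases h6 : E ≤ R ⊔ A' ⊔ B'
          · exact Or.inr (h6 hxE)
          · exact absurd ⟨E, hE, h5, h6⟩ hcon
    -- a group is not the union of two proper subgroups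
    have h6 : ∀ K : Subgroup G, Nat.card K = Nat.card Z ^ 3 → ¬ blk V Z R A' ≤ K := by
      intro K hK hle
      have h7 := Subgroup.card_le_of_le hle
      rw [hk2, hK] at h7
      have h8 := (Nat.pow_le_pow_iff_right hZ).1 h7
      omega
    obtain ⟨x, hx, hx1⟩ := Set.not_subset.1 (h6 _ hc1)
    obtain ⟨y, hy, hy1⟩ := Set.not_subset.1 (h6 _ hc2)
    have hx2 := (h3 x hx).resolve_left hx1
    have hy2 := (h3 y hy).resolve_right hy1
    rcases h3 (x * y) (mul_mem hx hy) with h7 | h7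
    · exact hx1 ((Subgroup.mul_mem_cancel_right _ hy2).1 h7)
    · exact hy1 ((Subgroup.mul_mem_cancel_left _ hx2).1 h7)
  -- `E` is joined to `A`, `B`, `B'`
  obtain ⟨L, hL, hAL, hRL⟩ := hA.line
  have hLle : ∀ B, L ≤ R ⊔ A' ⊔ B := fun B =>
    (h.line_le' hR hA.left hA.ne hL hRL hAL le_sup_left le_sup_right).trans le_sup_left
  have hjE : Jo V Z R A' E := h.jo_of_eqv hE fun M hM hRM hAM hEM => by
    have e := h.line_unique hA.left hA.right hA.ne hM hL hAM hRM hAL hRL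
    exact hE1 ((e ▸ hEM : E ≤ L).trans (hLle B))
  -- the exchange
  have hex : ∀ B, Jo V Z R A' B → Good V Z R (R ⊔ A' ⊔ B) → ¬ E ≤ R ⊔ A' ⊔ B →
      (∀ M, IsCj V M → R ≤ M → B ≤ M → ¬ E ≤ M) ∧ Good V Z R (R ⊔ B ⊔ E) ∧ ¬ A' ≤ R ⊔ B ⊔ E := by
    intro B hj hgd hn
    have hBA : Eqv V Z R A' B := ⟨hA, hj.r, Or.inr hj⟩
    have hne : ∀ M, IsCj V M → R ≤ M → B ≤ M → ¬ E ≤ M := by
      intro M hM hRM hBM hEM
      exact hn (hEM.trans (h.line_le' hR hj.r.left hj.r.ne hM hRM hBM hgd.1 le_sup_right))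
    have h0 : R ≤ blk V Z R A' := R_le_blk
    obtain ⟨g1, -, c1⟩ := h.good_sup hs hv ht h.good_R h0 hA hBA (fun e => by
      obtain ⟨a, ha, ha1⟩ := h.pt_ne_bot hj.r.left
      exact h.not_mem_R hj.r ha ha1 (e ha))
    have h1 : R ⊔ B ≤ blk V Z R A' := sup_le h0 (eqv_le_blk hBA)
    obtain ⟨M, hM, hBM, hRM⟩ := hj.r.line
    obtain ⟨g2, -, c2⟩ := h.good_sup hs hv ht g1 h1 hA hE (fun e => hne M hM hRM hBM (e.trans (sup_le hRM hBM)))
    refine ⟨hne, g2, fun hAle => ?_⟩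
    obtain ⟨α, hα, hα1⟩ := h.pt_ne_bot hA.left
    -- `α = w e`
    have h3 : α ∈ R ⊔ B ⊔ E := hAle hα
    have hcomm : ∀ x ∈ R ⊔ B, ∀ y ∈ E, x * y = y * x := fun x hx y hy =>
      h.ws_comm hR (h.blk_le_ws hA (h1 hx)) (h.adj_le_ws hE.2.1.symm hy)
    obtain ⟨w, hw, e, he, rfl⟩ := exists_mul_of_sup hcomm h3
    by_cases he1 : e = 1
    · rw [he1, mul_one] at hα hα1
      have h4 := h.good_le g1 hA hα hα1 hw
      exact h.jo_ne_line (hs _ _ _ hj) hM hRM hBM (h4.trans (sup_le hRM hBM))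
    · have h5 : e ∈ R ⊔ A' ⊔ B := by
        have e1 : e = w⁻¹ * (w * e) := by group
        rw [e1]
        have h6 : A' ≤ R ⊔ A' ⊔ B := le_sup_of_le_left le_sup_right
        have h7 : R ⊔ B ≤ R ⊔ A' ⊔ B := sup_le (le_sup_of_le_left le_sup_left) le_sup_right
        exact mul_mem (inv_mem (h7 hw)) (h6 hα)
      exact hn (h.good_le hgd hE.2.1 he he1 h5)
  obtain ⟨n1, q1, a1⟩ := hex B hj hg1 hE1
  obtain ⟨n2, q2, a2⟩ := hex B' hj' hg2 hE2
  have hsw : R ⊔ B' ⊔ E = R ⊔ E ⊔ B' := by rw [sup_assoc, sup_comm B' E, ← sup_assoc]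
  obtain ⟨g, h1, h2, h3⟩ := h.two_x hs hv ht hd hj hjE n1 q1 a1
  obtain ⟨g', h4, h5, h6⟩ := h.two_x hs hv ht hd hjE hj' (fun M hM hRM hEM hBM => n2 M hM hRM hBM hEM)
    (hsw ▸ q2) (hsw ▸ a2)
  exact ⟨g' * g, by rw [← cj_cj, h1, h4], by rw [← cj_cj, h2, h5], by rw [← cj_cj, h3, h6]⟩

/-- **D of TCARD 5** -/
theorem slb (hs : JSym V Z) (hv : JVal V Z) (ht : JTrans V Z) (hd : JDich V Z) (hB : Bg V Z) :
    ∃ Blk m, SLB V Z Blk m :=
  h.slb_of hs hv ht hB fun _ _ _ _ _ h1 h2 =>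
    h.two hs hv ht hd hB (h.jo_of_sb hs hv ht h1) (h.jo_of_sb hs hv ht h2)

end TF

end Cfsg.Agent.Omega.NO3S.MidB

end

-- merged: Cfsg.Agent.Mrg.Omega.NO3S.MidQ.NTwoBig
section

/-!
# NO-3S, natural lines, TYPE N, blocks `SL_m`, `m ≥ 3`: section (A1), (5.2)–(6.2) (TEXT 426-2, THEOREM N2)

* `NT.m_le` : (5.2) `m = 3`;  `NT.big` : (5.3);  `NT.cent_ln` : `C_{B_a(r)}(W_b)` is the line `ar`;
* `NT.exists_w0` : (6.1);  `NT.w0_line` : (6.2).
-/

set_option autoImplicit false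
set_option linter.unusedSectionVars false

namespace Cfsg.Agent.Omega.NO3S.MidQ

open Subgroup Cfsg.Agent.Omega.NO3S.PT Cfsg.Agent.Omega.NoFF.Basic Cfsg.Agent.ZN
open scoped Pointwise

variable {G : Type*} [Group G] {V Z X Y L : Subgroup G} {Blk : Subgroup G → Set (Subgroup G)} {m : ℕ}

/-- `C_A(B)` -/
def cnz (A B : Subgroup G) : Subgroup G := A ⊓ centralizer (B : Set G)

theorem mem_cnz {A B : Subgroup G} {x : G} : x ∈ cnz A B ↔ x ∈ A ∧ ∀ y ∈ B, x * y = y * x := by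
  rw [cnz, mem_inf, mem_centralizer_iff]
  exact ⟨fun e => ⟨e.1, fun y hy => (e.2 y hy).symm⟩, fun e => ⟨e.1, fun y hy => (e.2 y hy).symm⟩⟩

theorem cnz_cj (A B : Subgroup G) (g : G) : cnz (cj g A) (cj g B) = cj g (cnz A B) := by
  rw [cnz, cnz, cj_inf, cj_centralizer]

theorem mem_cs {x y : G} : x ∈ centralizer ({y} : Set G) ↔ x * y = y * x := by
  rw [mem_centralizer_iff]
  constructor
  · intro e
    exact (e y rfl).symm
  · rintro e _ rfl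
    exact e.symm

namespace NT

variable [Finite G] {S : Sylow 2 G} {P : Subgroup G} (h : NT S P V Z Blk m) (h1 : AOne V Z Blk)
include h h1

/-- `a`, `a^w` are in one block at `r` on different lines -/
theorem path_sb {c p r a : Subgroup G} {w : G} (hp : Path V Z Blk c p r a w) : Sb V Z Blk r a (cj w a) := by
  have hcp := hp.cr.l
  have hpr := hp.cr.r.symm
  have har := hp.pa.r
  have hwc := h.bk_le hcp.symm hp.hw
  have hwr : ∀ x ∈ r, w * x = x * w := fun x hx =>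
    (mem_centralizer_iff.1 (h.ws_le_cent hcp hpr hwc) x hx).symm
  have hwp : ∀ x ∈ p, w * x = x * w := fun x hx => (mem_centralizer_iff.1 (h.ws_le_cent' hcp hwc) x hx).symm
  obtain ⟨L, hL, haL, hrL⟩ := har.line
  have hadj : Adj V Z (cj w a) r := by
    have := har.cj w
    rwa [cj_of_cent hwr] at this
  have hblk : cj w (bk Blk r a) = bk Blk r a := by
    rw [hp.pa.bk_eq h, ← h.bk_cj hpr, cj_of_cent hwp, cj_of_cent hwr]
  refine h.sb_mk' har hadj ?_ hL hrL haL fun e => ?_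
  · rw [← hblk]
    exact cj_le_cj.2 (h.le_bk har)
  · obtain ⟨α, hα, hα1⟩ := h.pt_ne_bot har.left
    have h2 : w * α * w⁻¹ * α⁻¹ ∈ p := h.UU_ws h.typ hpr (le_UU hcp hwc) (h.adj_le_ws' har hα)
    have h3 : w * α * w⁻¹ * α⁻¹ ∈ L := mul_mem (e (conj_mem_cj hα)) (inv_mem (haL hα))
    have h4 := h.line_inf hpr.left hL (fun e' => (hp.pa.symm h).ne L hL hrL haL e') h2 h3
    exact hα1 (hp.mv α hα (Mid.comm_eq h4))

theorem pow_le_of_path {c p r a : Subgroup G} {w : G} (hp : Path V Z Blk c p r a w) :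
    Nat.card Z ^ (m + 1) ≤ Nat.card Z ^ 4 := by
  have hcp := hp.cr.l
  have hpr := hp.cr.r.symm
  have har := hp.pa.r
  have hs := h.path_sb h1 hp
  have hwc := h.bk_le hcp.symm hp.hw
  obtain ⟨M, hM, hcM, hpM⟩ := hcp.line
  obtain ⟨γ, hγ, hγ1⟩ := h.pt_ne_bot hcp.left
  have hγp := h.adj_le_ws' hcp hγ
  have hwr : ∀ x ∈ r, w * x = x * w := fun x hx =>
    (mem_centralizer_iff.1 (h.ws_le_cent hcp hpr hwc) x hx).symm
  -- first
  have h2 : Nat.card (bk Blk a r) ≤ Nat.card r * Nat.card (bk Blk a r ⊓ centralizer ({γ} : Set G) : Subgroup G) := by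
    refine card_le_mul (fun y => y * γ * y⁻¹ * γ⁻¹) (fun y hy => ?_) fun y hy y' hy' e => ?_
    · exact h.mid_mem h.typ har hpr.symm (h.bk_le har.symm hy) hγp
    · exact mem_cs.2 (comm_inj e)
  -- second
  set Y := bk Blk a r ⊓ centralizer ({γ} : Set G) with hY
  have h3 : Nat.card Y ≤ Nat.card M * Nat.card (Y ⊓ centralizer ({w} : Set G) : Subgroup G) := by
    refine card_le_mul (fun y => y * w * y⁻¹ * w⁻¹) (fun y hy => ?_) fun y hy y' hy' e => ?_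
    · have hya := h.bk_le har.symm hy.1
      have hyc : cj y c = c := cj_of_cent (h.comm_pt hcp.left (h.two_ws har.left hya) hγ hγ1 (mem_cs.1 hy.2))
      have hyp : cj y p = p := cj_of_cent fun x hx =>
        (mem_centralizer_iff.1 (h.ws_le_cent har hpr.symm hya) x hx).symm
      have hblk : cj y (bk Blk c p) = bk Blk c p := by
        rw [← h.bk_cj hcp.symm, hyc, hyp]
      refine h.bk_UU h1 hp.cr hM hcM hpM ?_ ?_
      · refine mul_mem ?_ (inv_mem hp.hw)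
        rw [← hblk]
        exact conj_mem_cj hp.hw
      · have h4 := (mem_normalizer_iff.1 (h.ws_norm_UU hcp hpr hwc) y⁻¹).1 (inv_mem (le_UU har hya))
        have e : y * w * y⁻¹ * w⁻¹ = y * (w * y⁻¹ * w⁻¹) := by group
        rw [e]
        exact mul_mem (le_UU har hya) h4
    · exact mem_cs.2 (comm_inj e)
  have h4 : Nat.card (Y ⊓ centralizer ({w} : Set G) : Subgroup G) ≤ Nat.card r := by
    refine Subgroup.card_le_of_le ?_
    rintro y ⟨⟨hy, -⟩, hyw⟩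
    refine h.inf_bk (h.cr_of_sb h1 hs) hy ?_
    have e : bk Blk (cj w a) r = cj w (bk Blk a r) := by
      rw [← h.bk_cj har.symm, cj_of_cent hwr]
    rw [e, mem_cj, mul_assoc, mem_cs.1 hyw, inv_mul_cancel_left]
    exact hy
  rw [h.card_pt hpr.right] at h2 h4
  rw [h.card_ln hM] at h3
  rw [← h.card_bk har.symm]
  calc Nat.card (bk Blk a r) ≤ Nat.card Z * Nat.card Y := h2
    _ ≤ Nat.card Z * (Nat.card Z * Nat.card Z * Nat.card Z) :=
      Nat.mul_le_mul_left _ (h3.trans (Nat.mul_le_mul_left _ h4))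
    _ = Nat.card Z ^ 4 := by ring

/-- there are pairs in one block on different lines -/
theorem exists_sb0 : ∃ R A B, Sb V Z Blk R A B := by
  obtain ⟨L, hL, hZL⟩ := h.exists_line h.pl.isCj_self
  obtain ⟨Y, hY, hYL, hYZ⟩ := h.exists_second h.pl.isCj_self hL hZL
  have hA : Adj V Z Y Z := ⟨hY, h.pl.isCj_self, hYZ, L, hL, hYL, hZL⟩
  obtain ⟨B, hB⟩ := h.exists_sb hA
  exact ⟨_, _, _, hB⟩

/-- **(5.2)** -/
theorem m_eq : m = 3 := by
  obtain ⟨r, p, a, hs⟩ := h.exists_sb0 h1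
  obtain ⟨c, w, hp⟩ := h.exists_path h1 hs
  have h2 := (Nat.pow_le_pow_iff_right (h.two_le)).1 (h.pow_le_of_path h1 hp)
  have h3 := h.slb.three
  omega

/-- (5.3) on a path -/
theorem big' {c p r a : Subgroup G} {w : G} (hp : Path V Z Blk c p r a w) :
    ¬ Nat.card (ws V a) ≤ Nat.card Z * Nat.card (cnz (ws V a) (ws V (cj w a))) := by
  intro hle
  have hcp := hp.cr.l
  have hpr := hp.cr.r.symm
  have har := hp.pa.r
  have hs := h.path_sb h1 hp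
  have hcr := h.cr_of_sb h1 hs
  have hwc := h.bk_le hcp.symm hp.hw
  have hwU := le_UU hcp hwc
  have hw2 : w⁻¹ = w := h.ws_inv hcp.left hwc
  have hws : ws V (cj w a) = cj w (ws V a) := ws_cj V a w
  -- dihedral
  have key : ∀ y ∈ ws V a, y * (w * y * w⁻¹) = w * y * w⁻¹ * y := by
    intro y hy
    have hy2 : y⁻¹ = y := h.ws_inv har.left hy
    have hy' : w * y * w⁻¹ ∈ ws V (cj w a) := by rw [hws]; exact conj_mem_cj hy
    have hy3 : (w * y * w⁻¹)⁻¹ = w * y * w⁻¹ := h.ws_inv hs.r.left hy'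
    have h2 : y * (w * y * w⁻¹) ∈ UU V Z p := by
      have h3 := (mem_normalizer_iff.1 (h.ws_norm_UU har hpr.symm hy) w).1 hwU
      have e : y * (w * y * w⁻¹) = y * w * y⁻¹ * w⁻¹ := by rw [hy2]; group
      rw [e]
      exact mul_mem h3 (inv_mem hwU)
    have h3 := h.UU_sq h.typ hpr.left h2
    have h4 := h.mid_mem h.typ har hs.r.symm hy hy'
    have e : y * (w * y * w⁻¹) * y⁻¹ * (w * y * w⁻¹)⁻¹ = y * (w * y * w⁻¹) * (y * (w * y * w⁻¹)) := by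
      rw [hy3, hy2]; group
    have h5 := h.pt_inf hpr.left hpr.right hpr.ne h3 (e ▸ h4)
    rw [← e] at h5
    exact Mid.comm_eq h5
  -- a point `E ~ a` not centralised by `W_b`
  obtain ⟨β, hβ, v, hv, hβv⟩ := h.exists_bk hcr
  have hvb := h.bk_le hs.r.symm hv
  have hβa : β ∉ a := by
    intro e
    exact hβv (mem_centralizer_iff.1 (h.ws_le_cent hs.r har.symm hvb) β e)
  obtain ⟨E, hE, hEa, hβE⟩ := h.exists_pt har.symm hβ hβa
  have hE1 : ∀ x ∈ E, (∀ y ∈ ws V (cj w a), x * y = y * x) → x = 1 := by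
    intro x hx hxW
    by_contra hx1
    exact hβv (h.comm_pt hE.left (h.two_ws hs.r.left hvb) hx hx1 (hxW v hvb).symm β hβE).symm
  have hsplit := mul_of_card (A := E) (B := cnz (ws V a) (ws V (cj w a))) (K := ws V a)
    (h.adj_le_ws' hE) inf_le_left (fun x hx hx' => hE1 x hx (mem_cnz.1 hx').2) (by rwa [h.card_pt hE.left])
  -- the contradiction
  have hβa' : β ∈ ws V a := h.bk_le har.symm hβ
  set v' := w * β * w⁻¹ with hv'
  have hv'b : v' ∈ ws V (cj w a) := by rw [hws]; exact conj_mem_cj hβa'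
  have hcomm := key β hβa'
  have h2 : ∀ y ∈ ws V a, v' * y = y * v' := by
    obtain ⟨ε, hε, d, hd, e⟩ := hsplit β hβa'
    have hdv := (mem_cnz.1 hd).2 v' hv'b
    have hε1 : ε ≠ 1 := by
      rintro rfl
      rw [one_mul] at e
      exact hβv (by rw [e]; exact (mem_cnz.1 hd).2 v hvb)
    have h3 : v' * ε = ε * v' := by
      have h4 : ε * d * v' = v' * (ε * d) := by rw [← e]; exact hcomm
      have h5 : ε * v' * d = v' * ε * d := by
        calc ε * v' * d = ε * (v' * d) := by group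
          _ = ε * d * v' := by rw [← hdv]; group
          _ = v' * (ε * d) := h4
          _ = v' * ε * d := by group
      exact (mul_right_cancel h5).symm
    have h4 := h.comm_pt hE.left (h.two_ws hs.r.left hv'b) hε hε1 h3
    intro y hy
    obtain ⟨x, hx, d', hd', rfl⟩ := hsplit y hy
    calc v' * (x * d') = (v' * x) * d' := by group
      _ = x * (v' * d') := by rw [h4 x hx]; group
      _ = x * d' * v' := by rw [← (mem_cnz.1 hd').2 v' hv'b]; group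
  apply hβv
  have h3 : w⁻¹ * v * w ∈ ws V a := by rwa [hws, mem_cj] at hvb
  have h4 := h2 _ (by
    have : w⁻¹ * v * w = w⁻¹ * v * w := rfl
    exact h3)
  -- `v' = w β w⁻¹`, `w⁻¹ = w`
  have h5 : cj w (ws V (cj w a)) = ws V a := by
    rw [hws, cj_cj]
    have : w * w = 1 := by rw [← hw2, hw2]; exact h.ws_sq hcp.left hwc
    rw [this, cj_one]
  have h6 : w * v * w⁻¹ ∈ ws V a := by rw [← h5]; exact conj_mem_cj hvb
  have h7 := h2 _ h6
  have h8 : w⁻¹ * (v' * (w * v * w⁻¹)) * w = w⁻¹ * (w * v * w⁻¹ * v') * w := by rw [h7]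
  have e1 : w⁻¹ * (v' * (w * v * w⁻¹)) * w = β * v := by rw [hv']; group
  have e2 : w⁻¹ * (w * v * w⁻¹ * v') * w = v * β := by rw [hv']; group
  rw [← e1, ← e2, h8]

/-- **(5.3)** -/
theorem big {r a b : Subgroup G} (hs : Sb V Z Blk r a b) :
    ¬ Nat.card (ws V a) ≤ Nat.card Z * Nat.card (cnz (ws V a) (ws V b)) := by
  obtain ⟨c, w, hp⟩ := h.exists_path h1 (hs.symm h)
  obtain ⟨g, -, hg1, hg2⟩ := h.sb_move (h.path_sb h1 hp) hs
  have h2 := h.big' h1 hp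
  rwa [← card_cj g (cnz _ _), ← cnz_cj, ← ws_cj, ← ws_cj, hg1, hg2, ← card_cj g (ws V a), ← ws_cj, hg1] at h2

/-- **(5.3)**: `C_{B_a(r)}(W_b)` is the line `ar` -/
theorem cent_ln {r a b : Subgroup G} (hs : Sb V Z Blk r a b) (hL : IsCj V L) (hrL : r ≤ L) (haL : a ≤ L) {x : G}
    (hx : x ∈ bk Blk a r) (hxb : ∀ y ∈ ws V b, x * y = y * x) : x ∈ L := by
  by_contra hxL
  have har := hs.l
  obtain ⟨E, hE, hEa, hxE⟩ := h.exists_pt har.symm hx (fun e => hxL (haL e))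
  have hx1 : x ≠ 1 := fun e => hxL (e ▸ one_mem _)
  have hEC : ∀ y ∈ E, y ∈ cnz (ws V a) (ws V b) := by
    intro y hy
    refine mem_cnz.2 ⟨h.adj_le_ws' hE hy, fun v hv => ?_⟩
    exact (h.comm_pt hE.left (h.two_ws hs.r.left hv) hxE hx1 (hxb v hv).symm y hy).symm
  have hLC : ∀ y ∈ L, y ∈ cnz (ws V a) (ws V b) := by
    intro y hy
    obtain ⟨u, hu, v, hv, rfl⟩ := h.line_eq har.right har.left har.ne.symm hL hrL haL hy
    refine mul_mem (mem_cnz.2 ⟨h.adj_le_ws har hu, fun z hz => ?_⟩) (mem_cnz.2 ⟨h.pt_le_ws har.left hv, fun z hz => ?_⟩)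
    · exact mem_centralizer_iff.1 (h.ws_le_cent' hs.r hz) u hu
    · exact mem_centralizer_iff.1 (h.ws_le_cent hs.r har.symm hz) v hv
  have h2 : Nat.card E * Nat.card L ≤ Nat.card (bk Blk a r ⊓ cnz (ws V a) (ws V b) : Subgroup G) := by
    refine card_mul_le (fun y hy => ⟨hEa hy, hEC y hy⟩)
      (fun y hy => ⟨h.line_le_bk har.symm hL haL hrL hy, hLC y hy⟩) fun y hy hyL => ?_
    exact h.line_inf hE.left hL (fun e => hxL (e hxE)) hy hyL
  have h3 := card_dec (H := ws V a) (B := bk Blk a r) (C := cnz (ws V a) (ws V b)) fun y hy => by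
    obtain ⟨β, hβ, d, hd, rfl, h4⟩ := h.dec har.symm hy
    exact ⟨β, hβ, d, mem_cnz.2 ⟨hd, fun z hz => (h4 r har.symm (h.le_bk har.symm) z (le_UU hs.r hz)).symm⟩, rfl⟩
  apply h.big h1 hs
  rw [h.card_bk har.symm, h.m_eq h1] at h3
  rw [h.card_pt hE.left, h.card_ln hL] at h2
  set s := Nat.card Z with hs'
  set k := Nat.card (bk Blk a r ⊓ cnz (ws V a) (ws V b) : Subgroup G) with hk
  have hs0 : 0 < s := Nat.card_pos
  have hk0 : 0 < k := Nat.card_pos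
  have h4 : s ^ (3 + 1) ≤ s * k := by
    calc s ^ (3 + 1) = s * (s * (s * s)) := by ring
      _ ≤ s * k := Nat.mul_le_mul_left _ h2
  refine Nat.le_of_mul_le_mul_right (c := k) ?_ hk0
  calc Nat.card (ws V a) * k ≤ s ^ (3 + 1) * Nat.card (cnz (ws V a) (ws V b)) := h3
    _ ≤ s * k * Nat.card (cnz (ws V a) (ws V b)) := Nat.mul_le_mul_right _ h4
    _ = s * Nat.card (cnz (ws V a) (ws V b)) * k := by ring

/-- **(6.1)** -/
theorem exists_w0 {c p r a : Subgroup G} {w : G} (hp : Path V Z Blk c p r a w) :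
    ∃ g ∈ UU V Z p, (∀ x ∈ a, g * x = x * g) ∧ ∃ v ∈ ws V r, g * v ≠ v * g := by
  by_contra hcon
  push Not at hcon
  have hcp := hp.cr.l
  have hpr := hp.cr.r.symm
  have har := hp.pa.r
  obtain ⟨α, hα, hα1⟩ := h.pt_ne_bot har.left
  have h2 : Nat.card (ws V c) ≤ Nat.card p * Nat.card (ws V c ⊓ centralizer ({α} : Set G) : Subgroup G) := by
    refine card_le_mul (fun y => y * α * y⁻¹ * α⁻¹) (fun y hy => ?_) fun y hy y' hy' e => ?_
    · exact h.mid_mem h.typ hcp hpr hy (h.adj_le_ws' har hα)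
    · exact mem_cs.2 (comm_inj e)
  apply h.big h1 hp.cr
  refine h2.trans ?_
  rw [h.card_pt hpr.left]
  refine Nat.mul_le_mul_left _ (Subgroup.card_le_of_le ?_)
  rintro y ⟨hy, hyα⟩
  refine mem_cnz.2 ⟨hy, hcon y (le_UU hcp hy) (h.comm_pt har.left (h.two_ws hcp.left hy) hα hα1 (mem_cs.1 hyα))⟩

/-- **(6.2)** -/
theorem w0_line {r p a : Subgroup G} (hs : Sb V Z Blk r p a) (hL : IsCj V L) (hrL : r ≤ L) (haL : a ≤ L) {g : G}
    (hg : g ∈ UU V Z p) (hga : ∀ x ∈ a, g * x = x * g) {y : G} (hy : y ∈ bk Blk a r) :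
    y * g * y⁻¹ * g⁻¹ ∈ L := by
  obtain ⟨c, w, hp⟩ := h.exists_path h1 hs
  have hcp := hp.cr.l
  have hpr := hp.cr.r.symm
  have har := hp.pa.r
  have hwU := le_UU hcp (h.bk_le hcp.symm hp.hw)
  have hgr : ∀ x ∈ r, g * x = x * g := fun x hx =>
    (mem_centralizer_iff.1 (h.UU_le_cent_adj hpr.symm hg) x hx).symm
  have hblk : cj g (bk Blk a r) = bk Blk a r := by
    rw [← h.bk_cj har.symm, cj_of_cent hga, cj_of_cent hgr]
  have hya := h.bk_le har.symm hy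
  set f := y * g * y⁻¹ * g⁻¹ with hf
  have hf1 : f ∈ bk Blk a r := by
    have e : f = y * (g * y⁻¹ * g⁻¹) := by rw [hf]; group
    rw [e]
    refine mul_mem hy ?_
    rw [← hblk]
    exact conj_mem_cj (inv_mem hy)
  have hf2 : f ∈ UU V Z p :=
    mul_mem ((mem_normalizer_iff.1 (h.ws_norm_UU har hpr.symm hya) g).1 hg) (inv_mem hg)
  have hf3 := h.UU_comm h.typ hpr.left hf2 hwU
  have hs2 := h.path_sb h1 hp
  refine h.cent_ln h1 hs2 hL hrL haL hf1 fun v hv => ?_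
  have e : f = f * w * f⁻¹ * w⁻¹ * (w * f * w⁻¹) := by group
  have h3 : f * w * f⁻¹ * w⁻¹ * v = v * (f * w * f⁻¹ * w⁻¹) :=
    mem_centralizer_iff.1 (h.ws_le_cent hs2.r hpr.symm hv) _ hf3
  have h4 : w * f * w⁻¹ * v = v * (w * f * w⁻¹) := by
    refine h.ws_comm hs2.r.left ?_ hv
    rw [ws_cj]
    exact conj_mem_cj (h.bk_le har.symm hf1)
  rw [e]
  calc f * w * f⁻¹ * w⁻¹ * (w * f * w⁻¹) * v = f * w * f⁻¹ * w⁻¹ * (w * f * w⁻¹ * v) := by group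
    _ = f * w * f⁻¹ * w⁻¹ * v * (w * f * w⁻¹) := by rw [h4]; group
    _ = v * (f * w * f⁻¹ * w⁻¹ * (w * f * w⁻¹)) := by rw [h3]; group

end NT

end Cfsg.Agent.Omega.NO3S.MidQ

end

-- merged: Cfsg.Agent.Mrg.Omega.NO3S.MidQ.NTwoA1
section

section


/-!
# NO-3S, natural lines, TYPE N, blocks `SL_m`, `m ≥ 3`: section (A1), end (TEXT 426-2, THEOREM N2, (6.3), (6.4))

* `NT.card_cg` : `|C_{B_z(a)}(g)| = s³` for `g ∈ U_p ∩ C(a) - C(W_z)`;
* `NT.exists_del` : (6.3) for a flag `(z, L)` an element `δ` which centralises `L` and the blocks `B_x(L)`, `x ≠ z` on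
  `L`, and acts nontrivially on `B_z(L) / L`;
* `NT.not_AOne` : (6.4).
-/

set_option autoImplicit false
set_option linter.unusedSectionVars false

namespace Cfsg.Agent.Omega.NO3S.MidQ

open Subgroup Cfsg.Agent.Omega.NO3S.PT Cfsg.Agent.Omega.NoFF.Basic Cfsg.Agent.ZN
open scoped Pointwise

variable {G : Type*} [Group G] {V Z X Y L : Subgroup G} {Blk : Subgroup G → Set (Subgroup G)} {m : ℕ}

/-- `C_A(g)` -/
def cg (A : Subgroup G) (g : G) : Subgroup G := A ⊓ centralizer ({g} : Set G)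

theorem mem_cg {A : Subgroup G} {g x : G} : x ∈ cg A g ↔ x ∈ A ∧ x * g = g * x := by
  rw [cg, mem_inf, mem_cs]

/-- `g y = l y g`, `l` commutes with `g'`, etc. -/
theorem comm_act {g g' y k k' : G} (h1 : g * y * g⁻¹ = k * y) (h2 : g' * y * g'⁻¹ = k' * y) (h3 : g * k' = k' * g)
    (h4 : g' * k = k * g') (h5 : k * k' = k' * k) :
    g * g' * y * (g * g')⁻¹ = g' * g * y * (g' * g)⁻¹ := by
  have e1 : g * g' * y * (g * g')⁻¹ = g * (g' * y * g'⁻¹) * g⁻¹ := by group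
  have e2 : g' * g * y * (g' * g)⁻¹ = g' * (g * y * g⁻¹) * g'⁻¹ := by group
  rw [e1, e2, h1, h2]
  calc g * (k' * y) * g⁻¹ = (g * k') * y * g⁻¹ := by group
    _ = k' * (g * y * g⁻¹) := by rw [h3]; group
    _ = (k' * k) * y := by rw [h1]; group
    _ = k * (g' * y * g'⁻¹) := by rw [← h5, h2]; group
    _ = (k * g') * y * g'⁻¹ := by group
    _ = g' * (k * y) * g'⁻¹ := by rw [← h4]; group

namespace NT

variable [Finite G] {S : Sylow 2 G} {P : Subgroup G} (h : NT S P V Z Blk m) (h1 : AOne V Z Blk)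
include h h1

theorem pt_dich {p z : Subgroup G} (hpz : Adj V Z p z) {g : G} (hg : TwoEl g) {x : G} (hx : x ∈ p)
    (hxg : x * g ≠ g * x) : ∀ y ∈ p, y * g = g * y → y = 1 := by
  intro y hy e
  by_contra hy1
  exact hxg (h.comm_pt hpz.left hg hy hy1 e.symm x hx).symm

/-- `|C_{B_z(a)}(g)| = s³` -/
theorem card_cg {z p a : Subgroup G} (hs : Sb V Z Blk z p a) (hL : IsCj V L) (hzL : z ≤ L) (haL : a ≤ L) {g : G}
    (hg : g ∈ UU V Z p) (hga : ∀ x ∈ a, g * x = x * g) (hgW : ∃ v ∈ ws V z, g * v ≠ v * g) :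
    Nat.card (cg (bk Blk z a) g) = Nat.card Z ^ 3 ∧ L ≤ cg (bk Blk z a) g ∧ p ≤ cg (bk Blk z a) g := by
  have hpz := hs.l
  have haz := hs.r
  have hgz : ∀ x ∈ z, g * x = x * g := fun x hx =>
    (mem_centralizer_iff.1 (h.UU_le_cent_adj hpz.symm hg) x hx).symm
  have hgp : ∀ x ∈ p, g * x = x * g := fun x hx =>
    (mem_centralizer_iff.1 (h.UU_le_cent_pt hpz.left hg) x hx).symm
  have hLC : L ≤ cg (bk Blk z a) g := by
    intro y hy
    refine mem_cg.2 ⟨h.line_le_bk haz hL hzL haL hy, ?_⟩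
    obtain ⟨u, hu, v, hv, rfl⟩ := h.line_eq haz.right haz.left haz.ne.symm hL hzL haL hy
    calc u * v * g = u * (g * v) := by rw [hga v hv]; group
      _ = g * (u * v) := by rw [← mul_assoc, ← hgz u hu]; group
  have hpC : p ≤ cg (bk Blk z a) g := fun y hy => mem_cg.2 ⟨(hs.symm h).le_bk h hy, (hgp y hy).symm⟩
  refine ⟨?_, hLC, hpC⟩
  -- lower bound
  have h2 : Nat.card p * Nat.card L ≤ Nat.card (cg (bk Blk z a) g) :=
    card_mul_le hpC hLC fun y hy hyL =>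
      h.line_inf hpz.left hL ((hs.symm h).ne L hL hzL haL) hy hyL
  -- a point meeting `C` trivially
  obtain ⟨v, hv, hgv⟩ := hgW
  obtain ⟨β, hβ, d, hd, rfl, hd'⟩ := h.dec haz hv
  have hgd := hd' p hpz ((hs.symm h).le_bk h) g hg
  have hgβ : β * g ≠ g * β := by
    intro e
    apply hgv
    calc g * (β * d) = (g * β) * d := by group
      _ = β * (g * d) := by rw [← e]; group
      _ = β * d * g := by rw [hgd]; group
  obtain ⟨E, hE, hEz, hβE⟩ := h.exists_pt haz hβ (fun e => hgβ (hgz β e).symm)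
  have h3 : Nat.card E * Nat.card (cg (bk Blk z a) g) ≤ Nat.card (bk Blk z a) :=
    card_mul_le hEz inf_le_left fun y hy hyC => h.pt_dich h1 hE (h.two_UU hg) hβE hgβ y hy (mem_cg.1 hyC).2
  rw [h.card_bk haz, h.m_eq h1, h.card_pt hE.left] at h3
  rw [h.card_pt hpz.left, h.card_ln hL] at h2
  have hs0 : 0 < Nat.card Z := Nat.card_pos
  refine le_antisymm (Nat.le_of_mul_le_mul_left (c := Nat.card Z) ?_ hs0) ?_
  · calc _ ≤ Nat.card Z ^ (3 + 1) := h3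
      _ = Nat.card Z * Nat.card Z ^ 3 := by ring
  · calc Nat.card Z ^ 3 = Nat.card Z * (Nat.card Z * Nat.card Z) := by ring
      _ ≤ _ := h2

/-- **(6.3)** -/
theorem exists_del {z a : Subgroup G} (haz : Adj V Z a z) (hL : IsCj V L) (hzL : z ≤ L) (haL : a ≤ L) :
    ∃ δ : G, (∀ y ∈ L, δ * y = y * δ) ∧ (∀ x, IsCj Z x → x ≤ L → x ≠ z → ∀ y ∈ bk Blk x z, δ * y = y * δ) ∧
      ∃ y ∈ bk Blk z a, δ * y * δ⁻¹ * y⁻¹ ∉ L := by
  -- the first element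
  obtain ⟨p1, hp1⟩ := h.exists_sb haz
  have hs1 := hp1.symm h
  obtain ⟨c1, w1, hq1⟩ := h.exists_path h1 hs1
  obtain ⟨g1, hg1, hg1a, hg1W⟩ := h.exists_w0 h1 hq1
  obtain ⟨hC1, hC1L, hC1p⟩ := h.card_cg h1 hs1 hL hzL haL hg1 hg1a hg1W
  -- the second
  have h2 : ∃ x ∈ bk Blk z a, x ∉ cg (bk Blk z a) g1 := by
    by_contra hcon
    push Not at hcon
    have h3 : Nat.card (bk Blk z a) ≤ Nat.card (cg (bk Blk z a) g1) := Subgroup.card_le_of_le hcon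
    rw [hC1, h.card_bk haz, h.m_eq h1] at h3
    have h4 := (Nat.pow_le_pow_iff_right (h.two_le)).1 h3
    omega
  obtain ⟨x, hx, hxC⟩ := h2
  obtain ⟨p2, hp2z, hp2, hxp⟩ := h.exists_pt haz hx (fun e => hxC (hC1L (hzL e)))
  have hs2 : Sb V Z Blk z p2 a :=
    (h.sb_mk' haz hp2z hp2 hL hzL haL fun e => hxC (hC1L (e hxp))).symm h
  obtain ⟨c2, w2, hq2⟩ := h.exists_path h1 hs2
  obtain ⟨g2, hg2, hg2a, hg2W⟩ := h.exists_w0 h1 hq2
  obtain ⟨hC2, hC2L, hC2p⟩ := h.card_cg h1 hs2 hL hzL haL hg2 hg2a hg2W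
  have hd2 : ∀ y ∈ p2, y * g1 = g1 * y → y = 1 :=
    h.pt_dich h1 hp2z (h.two_UU hg1) hxp fun e => hxC (mem_cg.2 ⟨hx, e⟩)
  have hp1L : ¬ p1 ≤ L := fun e => hp1.ne L hL hzL haL e
  have hp1C : ¬ p1 ≤ cg (bk Blk z a) g2 := by
    intro e
    have h3 := mul_of_card (A := L) (B := p1) (K := cg (bk Blk z a) g2) hC2L e
      (fun y hy hy' => h.line_inf hs1.l.left hL hp1L hy' hy)
      (by rw [hC2, h.card_ln hL, h.card_pt hs1.l.left]; exact le_of_eq (by ring))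
    obtain ⟨l, hl, q, hq, e'⟩ := h3 x (hC2p hxp)
    apply hxC
    rw [e']
    exact mul_mem (hC1L hl) (hC1p hq)
  obtain ⟨π, hπ, hπC⟩ := SetLike.not_le_iff_exists.1 hp1C
  have hπz : π ∈ ws V z := h.adj_le_ws' hs1.l hπ
  have hπg2 : π * g2 ≠ g2 * π := fun e => hπC (mem_cg.2 ⟨hp1.le_bk h hπ, e⟩)
  -- the centralisers
  have hLg1 : ∀ y ∈ L, g1 * y = y * g1 := fun y hy => (mem_cg.1 (hC1L hy)).2.symm
  have hLg2 : ∀ y ∈ L, g2 * y = y * g2 := fun y hy => (mem_cg.1 (hC2L hy)).2.symm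
  have hact : ∀ {p : Subgroup G} {g : G}, Sb V Z Blk z p a → g ∈ UU V Z p → (∀ y ∈ L, g * y = y * g) →
      ∀ x, IsCj Z x → x ≤ L → x ≠ z → ∀ y ∈ bk Blk x z, ∃ k ∈ L, g * y * g⁻¹ = k * y := by
    intro p g hs hg hgL x hxZ hxL hxz y hy
    have hxz' : Adj V Z x z := ⟨hxZ, haz.right, hxz, L, hL, hxL, hzL⟩
    have hs' : Sb V Z Blk z p x := by
      refine ((h.sb_mk' hxz' hs.l ?_ hL hzL hxL ((hs.symm h).ne L hL hzL haL)).symm h)
      rw [h.bk_line haz hxz' hL hzL haL hxL]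
      exact (hs.symm h).le_bk h
    have h3 := h.w0_line h1 hs' hL hzL hxL hg (fun y hy => hgL y (hxL hy)) hy
    refine ⟨(y * g * y⁻¹ * g⁻¹)⁻¹, inv_mem h3, ?_⟩
    group
  have hδ1 : ∀ y ∈ L, g1 * g2 * g1⁻¹ * g2⁻¹ * y = y * (g1 * g2 * g1⁻¹ * g2⁻¹) := by
    intro y hy
    have c1 : Commute y g1 := (hLg1 y hy).symm
    have c2 : Commute y g2 := (hLg2 y hy).symm
    exact (((c1.mul_right c2).mul_right c1.inv_right).mul_right c2.inv_right).symm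
  refine ⟨g1 * g2 * g1⁻¹ * g2⁻¹, hδ1, fun x hxZ hxL hxz y hy => ?_, ?_⟩
  · have hxz' : Adj V Z x z := ⟨hxZ, haz.right, hxz, L, hL, hxL, hzL⟩
    have hblk : ∀ {g : G}, (∀ y ∈ L, g * y = y * g) → cj g⁻¹ (bk Blk x z) = bk Blk x z := by
      intro g hgL
      have h3 : ∀ y ∈ L, g⁻¹ * y = y * g⁻¹ := fun y hy => (Commute.inv_left (hgL y hy : Commute g y) : _)
      rw [← h.bk_cj hxz'.symm, cj_of_cent fun y hy => h3 y (hxL hy), cj_of_cent fun y hy => h3 y (hzL hy)]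
    -- `y0 = (g2 g1)⁻¹ y (g2 g1)`
    have hy1 : g2⁻¹ * y * g2⁻¹⁻¹ ∈ bk Blk x z := by
      rw [← hblk hLg2]; exact conj_mem_cj hy
    have hy0 : g1⁻¹ * (g2⁻¹ * y * g2⁻¹⁻¹) * g1⁻¹⁻¹ ∈ bk Blk x z := by
      rw [← hblk hLg1]; exact conj_mem_cj hy1
    obtain ⟨k, hk, ek⟩ := hact hs1 hg1 hLg1 x hxZ hxL hxz _ hy0
    obtain ⟨k', hk', ek'⟩ := hact hs2 hg2 hLg2 x hxZ hxL hxz _ hy0
    have h3 := comm_act ek ek' (hLg1 k' hk') (hLg2 k hk)
      (h.ws_comm haz.right (le_ws hL hzL hk) (le_ws hL hzL hk'))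
    have e1 : g2 * g1 * (g1⁻¹ * (g2⁻¹ * y * g2⁻¹⁻¹) * g1⁻¹⁻¹) * (g2 * g1)⁻¹ = y := by group
    have e2 : g1 * g2 * (g1⁻¹ * (g2⁻¹ * y * g2⁻¹⁻¹) * g1⁻¹⁻¹) * (g1 * g2)⁻¹ =
      g1 * g2 * g1⁻¹ * g2⁻¹ * y * (g1 * g2 * g1⁻¹ * g2⁻¹)⁻¹ := by group
    rw [e1, e2] at h3
    rwa [mul_inv_eq_iff_eq_mul] at h3
  · -- nontrivial
    have hκ : g2 * π * g2⁻¹ * π⁻¹ ∈ p2 := h.UU_ws h.typ hs2.l hg2 hπz
    have hκ1 : g2 * π * g2⁻¹ * π⁻¹ ≠ 1 := fun e => hπg2 (Mid.comm_eq e).symm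
    set κ := g2 * π * g2⁻¹ * π⁻¹ with hκ'
    have hlam : g1 * κ * g1⁻¹ * κ⁻¹ ∈ p1 := h.UU_ws h.typ hs1.l hg1 (h.adj_le_ws' hs2.l hκ)
    have hlam1 : g1 * κ * g1⁻¹ * κ⁻¹ ≠ 1 := fun e => hκ1 (hd2 κ hκ (Mid.comm_eq e).symm)
    have hg1π : g1 * π * g1⁻¹ = π := by
      have h3 : g1 * π = π * g1 := (mem_centralizer_iff.1 (h.UU_le_cent_pt hs1.l.left hg1) π hπ).symm
      rw [h3, mul_inv_cancel_right]
    have hy : g2 * π * g2⁻¹ ∈ bk Blk z a := by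
      have e : g2 * π * g2⁻¹ = κ * π := by rw [hκ']; group
      rw [e]
      exact mul_mem (hp2 hκ) (hp1.le_bk h hπ)
    refine ⟨g2 * π * g2⁻¹, hy, fun e => ?_⟩
    have e1 : g1 * g2 * g1⁻¹ * g2⁻¹ * (g2 * π * g2⁻¹) * (g1 * g2 * g1⁻¹ * g2⁻¹)⁻¹ * (g2 * π * g2⁻¹)⁻¹ =
      g1 * κ * g1⁻¹ * κ⁻¹ := by
      have e2 : g1 * g2 * g1⁻¹ * g2⁻¹ * (g2 * π * g2⁻¹) * (g1 * g2 * g1⁻¹ * g2⁻¹)⁻¹ =
        g1 * (g2 * (g1⁻¹ * π * g1) * g2⁻¹) * g1⁻¹ := by group
      have e3 : g1⁻¹ * π * g1 = π := by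
        nth_rewrite 1 [← hg1π]
        group
      rw [e2, e3]
      have e4 : g2 * π * g2⁻¹ = κ * π := by rw [hκ']; group
      rw [e4]
      calc g1 * (κ * π) * g1⁻¹ * (κ * π)⁻¹ = g1 * κ * g1⁻¹ * (g1 * π * g1⁻¹) * π⁻¹ * κ⁻¹ := by group
        _ = g1 * κ * g1⁻¹ * κ⁻¹ := by rw [hg1π]; group
    rw [e1] at e
    exact hlam1 (h.line_inf hs1.l.left hL hp1L hlam e)

/-- **(6.4)** -/
theorem not_AOne : False := by
  obtain ⟨L, hL, hZL⟩ := h.exists_line h.pl.isCj_self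
  have hz := h.pl.isCj_self
  obtain ⟨y, hy, hyL, hyz⟩ := h.exists_second hz hL hZL
  obtain ⟨x, hx, hxL, hxz, hxy⟩ := h.exists_third hz hy hL hZL hyL hyz.symm
  have hyz' : Adj V Z y Z := ⟨hy, hz, hyz, L, hL, hyL, hZL⟩
  have hxy' : Adj V Z x y := ⟨hx, hy, hxy, L, hL, hxL, hyL⟩
  obtain ⟨δ, hδL, hδ, v0, hv0, hv0L⟩ := h.exists_del h1 hyz' hL hZL hyL
  obtain ⟨b, hb⟩ := h.exists_sb hyz'.symm
  have hbL : ¬ b ≤ L := hb.ne L hL hyL hZL
  have hxz' : Adj V Z x Z := ⟨hx, hz, hxz, L, hL, hxL, hZL⟩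
  -- `b`, `x` at `y`
  have hbx : Sb V Z Blk y b x := by
    refine (h.sb_mk' hxy' hb.r ?_ hL hyL hxL hbL).symm h
    rw [h.bk_line hyz'.symm hxy' hL hyL hZL hxL]
    exact hb.le_bk h
  have hby := hb.r
  obtain ⟨M, hM, hbM, hyM⟩ := hby.line
  have hδby : ∀ u ∈ bk Blk y Z, δ * u = u * δ := hδ y hy hyL hyz
  have hδb : ∀ u ∈ b, δ * u = u * δ := fun u hu => hδby u (hb.le_bk h hu)
  have hδy : ∀ u ∈ y, δ * u = u * δ := fun u hu => hδL u (hyL hu)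
  have hδx : ∀ u ∈ bk Blk x y, δ * u = u * δ := by
    intro u hu
    refine hδ x hx hxL hxz u ?_
    rwa [h.bk_line hxy'.symm hxz'.symm hL hxL hyL hZL]
  have hblkb : cj δ (bk Blk b y) = bk Blk b y := by
    rw [← h.bk_cj hby.symm, cj_of_cent hδb, cj_of_cent hδy]
  -- step 1
  have step1 : ∀ u ∈ bk Blk b y, u⁻¹ * (δ * u * δ⁻¹) ∈ M := by
    intro u hu
    have hu' : δ * u * δ⁻¹ ∈ bk Blk b y := by
      rw [← hblkb]; exact conj_mem_cj hu
    have huu := mul_mem (inv_mem hu) hu'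
    refine h.cent_ln h1 hbx hM hyM hbM huu fun w hw => ?_
    obtain ⟨β, hβ, d, hd, rfl, hd'⟩ := h.dec hxy'.symm hw
    have e1 : u⁻¹ * (δ * u * δ⁻¹) * d = d * (u⁻¹ * (δ * u * δ⁻¹)) :=
      hd' y hxy'.symm (h.le_bk hxy'.symm) _ (le_UU hby (h.bk_le hby.symm huu))
    have e2 : u⁻¹ * (δ * u * δ⁻¹) * β = β * (u⁻¹ * (δ * u * δ⁻¹)) := by
      -- `[β, δuδ⁻¹] = [β, u]`
      have h2 : β * u * β⁻¹ * u⁻¹ ∈ y := h.mid_mem h.typ hxy' hby.symm (h.bk_le hxy'.symm hβ) (h.bk_le hby.symm hu)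
      have hδβ : δ * β * δ⁻¹ = β := by rw [hδx β hβ, mul_inv_cancel_right]
      have h3 : β * (δ * u * δ⁻¹) * β⁻¹ * (δ * u * δ⁻¹)⁻¹ = β * u * β⁻¹ * u⁻¹ := by
        have e3 : δ * (β * u * β⁻¹ * u⁻¹) * δ⁻¹ = β * u * β⁻¹ * u⁻¹ := by
          rw [hδy _ h2, mul_inv_cancel_right]
        calc β * (δ * u * δ⁻¹) * β⁻¹ * (δ * u * δ⁻¹)⁻¹
            = (δ * β * δ⁻¹) * (δ * u * δ⁻¹) * (δ * β * δ⁻¹)⁻¹ * (δ * u * δ⁻¹)⁻¹ := by rw [hδβ]
          _ = δ * (β * u * β⁻¹ * u⁻¹) * δ⁻¹ := by group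
          _ = β * u * β⁻¹ * u⁻¹ := e3
      have h4 : (β * u * β⁻¹ * u⁻¹)⁻¹ = (β * (δ * u * δ⁻¹) * β⁻¹ * (δ * u * δ⁻¹)⁻¹)⁻¹ := by rw [h3]
      have e5 : (β * u * β⁻¹ * u⁻¹)⁻¹ = u * β * u⁻¹ * β⁻¹ := by group
      have e6 : (β * (δ * u * δ⁻¹) * β⁻¹ * (δ * u * δ⁻¹)⁻¹)⁻¹ =
        δ * u * δ⁻¹ * β * (δ * u * δ⁻¹)⁻¹ * β⁻¹ := by group
      rw [e5, e6] at h4
      exact comm_inj h4
    calc u⁻¹ * (δ * u * δ⁻¹) * (β * d) = (u⁻¹ * (δ * u * δ⁻¹) * β) * d := by group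
      _ = β * (u⁻¹ * (δ * u * δ⁻¹) * d) := by rw [e2]; group
      _ = β * d * (u⁻¹ * (δ * u * δ⁻¹)) := by rw [e1]; group
  -- step 2
  have hzy := hyz'.symm
  have hδz : ∀ u ∈ Z, δ * u = u * δ := fun u hu => hδL u (hZL hu)
  have hblkz : cj δ (bk Blk Z y) = bk Blk Z y := by
    rw [← h.bk_cj hyz', cj_of_cent hδz, cj_of_cent hδy]
  have hv' : δ * v0 * δ⁻¹ ∈ bk Blk Z y := by
    rw [← hblkz]; exact conj_mem_cj hv0
  have hvz := h.bk_le hyz' hv0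
  have hvz' := h.bk_le hyz' hv'
  have hvv := mul_mem (inv_mem hv0) hv'
  have h2 : v0⁻¹ * (δ * v0 * δ⁻¹) ∈ L := by
    refine h.cent_ln h1 hb hL hyL hZL hvv fun w hw => ?_
    obtain ⟨u, hu, d, hd, rfl, hd'⟩ := h.dec hby.symm hw
    have e1 : v0⁻¹ * (δ * v0 * δ⁻¹) * d = d * (v0⁻¹ * (δ * v0 * δ⁻¹)) :=
      hd' y hby.symm (h.le_bk hby.symm) _ (le_UU hzy (h.bk_le hyz' hvv))
    have e2 : v0⁻¹ * (δ * v0 * δ⁻¹) * u = u * (v0⁻¹ * (δ * v0 * δ⁻¹)) := by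
      apply comm_inj
      have hk := step1 u hu
      -- `v'` commutes with `k = u⁻¹ δ u δ⁻¹`
      have hk2 : δ * v0 * δ⁻¹ * (u⁻¹ * (δ * u * δ⁻¹)) = u⁻¹ * (δ * u * δ⁻¹) * (δ * v0 * δ⁻¹) := by
        obtain ⟨s, hs, t, ht, e⟩ := h.line_eq hby.left hby.right hby.ne hM hbM hyM hk
        have h3 := mem_centralizer_iff.1 (h.ws_le_cent hzy hby.symm hvz') s hs
        have h4 := mem_centralizer_iff.1 (h.ws_le_cent' hzy hvz') t ht
        rw [e]
        calc δ * v0 * δ⁻¹ * (s * t) = (δ * v0 * δ⁻¹ * s) * t := by group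
          _ = s * (δ * v0 * δ⁻¹ * t) := by rw [← h3]; group
          _ = s * t * (δ * v0 * δ⁻¹) := by rw [← h4]; group
      have h5 : v0 * u * v0⁻¹ * u⁻¹ ∈ y := h.mid_mem h.typ hzy hby.symm hvz (h.bk_le hby.symm hu)
      have h6 : δ * v0 * δ⁻¹ * (δ * u * δ⁻¹) * (δ * v0 * δ⁻¹)⁻¹ * (δ * u * δ⁻¹)⁻¹ = v0 * u * v0⁻¹ * u⁻¹ := by
        calc _ = δ * (v0 * u * v0⁻¹ * u⁻¹) * δ⁻¹ := by group
          _ = _ := by rw [hδy _ h5, mul_inv_cancel_right]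
      rw [← h6]
      -- `[v', u k] = [v', u]`
      set v' := δ * v0 * δ⁻¹ with hv''
      set u' := δ * u * δ⁻¹ with hu''
      have h7 : v' * (u⁻¹ * u') * v'⁻¹ = u⁻¹ * u' := by rw [hk2, mul_inv_cancel_right]
      calc v' * u' * v'⁻¹ * u'⁻¹ = v' * u * v'⁻¹ * (v' * (u⁻¹ * u') * v'⁻¹) * u'⁻¹ := by group
        _ = v' * u * v'⁻¹ * u⁻¹ := by rw [h7]; group
    calc v0⁻¹ * (δ * v0 * δ⁻¹) * (u * d) = (v0⁻¹ * (δ * v0 * δ⁻¹) * u) * d := by group
      _ = u * (v0⁻¹ * (δ * v0 * δ⁻¹) * d) := by rw [e2]; group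
      _ = u * d * (v0⁻¹ * (δ * v0 * δ⁻¹)) := by rw [e1]; group
  apply hv0L
  rwa [h.ws_comm hz hvz' (inv_mem hvz)]

end NT

end Cfsg.Agent.Omega.NO3S.MidQ

end

section


/-!
# NO-3S, natural lines, TYPE N, blocks `SL_m`, `m ≥ 3`: section (A2) (TEXT 426-2, THEOREM N2)

* `NT.mover`, `NT.full` : `[U_a, β] = a` for `β ∈ b#`, `Sb r a b`;
* `NT.jj` : (j') `|H| ≤ s^m |H ∩ W_b|` for `H ≤ W_a`;
* `NT.inf_line` : `W_a ∩ I_m = r`;  `NT.card_ws_le` : (k') `|W_a| ≤ s^(2m+1)`.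
-/

set_option autoImplicit false
set_option linter.unusedSectionVars false

namespace Cfsg.Agent.Omega.NO3S.MidQ

open Subgroup Cfsg.Agent.Omega.NO3S.PT Cfsg.Agent.Omega.NoFF.Basic Cfsg.Agent.ZN
open scoped Pointwise

variable {G : Type*} [Group G] {V Z X Y L : Subgroup G} {Blk : Subgroup G → Set (Subgroup G)} {m : ℕ}

/-- (A2) -/
def ATwo (V Z : Subgroup G) (Blk : Subgroup G → Set (Subgroup G)) : Prop :=
  ∀ R A B, Sb V Z Blk R A B → Com V A B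

/-- the group generated by the `U_C`, `C` in the block of the line `L` at `X` -/
def NN (V Z : Subgroup G) (Blk : Subgroup G → Set (Subgroup G)) (X L : Subgroup G) : Subgroup G :=
  sSup {U | ∃ C, Adj V Z C X ∧ (∃ D ∈ Blk X, L ≤ D ∧ C ≤ D) ∧ U = UU V Z C}

namespace NT

variable [Finite G] {S : Sylow 2 G} {P : Subgroup G} (h : NT S P V Z Blk m)
include h

/-- a point `e ~ c ~ a` moving `b` -/
theorem mover {r a b : Subgroup G} (hs : Sb V Z Blk r a b) {β : G} (hβ : β ∈ b) (hβ1 : β ≠ 1) :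
    ∃ c e, Adj V Z c a ∧ Adj V Z e c ∧ e ≤ bk Blk c a ∧ ∀ x ∈ e, x * β = β * x → x = 1 := by
  have h2 : ∃ c, Adj V Z c a ∧ ∃ w ∈ ws V c, w * β ≠ β * w := by
    by_contra hcon
    push Not at hcon
    have h3 : UU V Z a ≤ centralizer ({β} : Set G) := by
      refine sSup_le ?_
      rintro _ ⟨c, hc, rfl⟩ w hw
      exact mem_cs.2 (hcon c hc w hw)
    exact hβ1 (h.sb_mv hs hβ fun u hu => mem_cs.1 (h3 hu))
  obtain ⟨c, hca, w, hw, hwβ⟩ := h2
  have hβU : β ∈ UU V Z a := le_UU hs.l.symm (h.adj_le_ws' hs.r hβ)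
  obtain ⟨ε, hε, d, hd, rfl, hd'⟩ := h.dec hca.symm hw
  have hdβ := hd' a hca.symm (h.le_bk hca.symm) β hβU
  have hεβ : ε * β ≠ β * ε := by
    intro e
    apply hwβ
    calc ε * d * β = ε * (d * β) := by group
      _ = (ε * β) * d := by rw [← hdβ]; group
      _ = β * (ε * d) := by rw [e]; group
  obtain ⟨E, hE, hEc, hεE⟩ := h.exists_pt hca.symm hε (fun e => by
    -- `W_r` centralises `c`
    have h3 := mem_centralizer_iff.1 (h.ws_le_cent hs.l.symm hca.symm (h.adj_le_ws' hs.r hβ)) ε e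
    exact hεβ h3)
  refine ⟨c, E, hca, hE, hEc, fun x hx e => ?_⟩
  by_contra hx1
  exact hεβ (h.comm_pt hE.left (h.two_ws hs.r.left (h.pt_le_ws hs.r.left hβ)) hx hx1 e.symm ε hεE).symm

/-- `[U_a, β] = a` -/
theorem full {r a b : Subgroup G} (hs : Sb V Z Blk r a b) {β : G} (hβ : β ∈ b) (hβ1 : β ≠ 1) :
    ∀ α ∈ a, ∃ g ∈ UU V Z a, g * β * g⁻¹ * β⁻¹ = α := by
  obtain ⟨c, e, hca, hec, hle, hmv⟩ := h.mover hs hβ hβ1
  have h2 := surj_of_inj (A := e) (B := a) (by rw [h.card_pt hec.left, h.card_pt hs.l.left])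
    (fun y => y * β * y⁻¹ * β⁻¹)
    (fun y hy => h.mid_mem h.typ hca hs.l (h.adj_le_ws' hec hy) (h.adj_le_ws' hs.r hβ))
    (fun y hy y' hy' e' => inv_mul_eq_one.1 (hmv _ (mul_mem (inv_mem hy) hy') (comm_inj e')))
  intro α hα
  obtain ⟨g, hg, e'⟩ := h2 α hα
  exact ⟨g, le_UU hca (h.adj_le_ws' hec hg), e'⟩

/-- `W_a ∩ W_{a^ε} ≤ W_b` if `[ε, α] ∈ b` -/
theorem inf_ws_cj {r a b : Subgroup G} (hs : Sb V Z Blk r a b) {ε α : G} (hα : α ∈ a)
    (hε : ε * α * ε⁻¹ * α⁻¹ ∈ b) (hε1 : ε * α * ε⁻¹ * α⁻¹ ≠ 1) {y : G} (hy : y ∈ ws V a)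
    (hy' : y ∈ ws V (cj ε a)) : y ∈ ws V b := by
  obtain ⟨g, hg, e⟩ := h.full hs hε hε1 α hα
  have hcomm : α * (ε * α * ε⁻¹ * α⁻¹) = ε * α * ε⁻¹ * α⁻¹ * α :=
    h.ws_comm hs.l.right (h.adj_le_ws' hs.l hα) (h.adj_le_ws' hs.r hε)
  have h2 : g * (ε * α * ε⁻¹ * α⁻¹) * g⁻¹ = ε * α * ε⁻¹ := by
    have e2 : g * (ε * α * ε⁻¹ * α⁻¹) * g⁻¹ = α * (ε * α * ε⁻¹ * α⁻¹) := by
      have e3 : g * (ε * α * ε⁻¹ * α⁻¹) * g⁻¹ =
        g * (ε * α * ε⁻¹ * α⁻¹) * g⁻¹ * (ε * α * ε⁻¹ * α⁻¹)⁻¹ * (ε * α * ε⁻¹ * α⁻¹) := by group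
      rw [e3, e]
    rw [e2, hcomm]; group
  have h3 : cj g b = cj ε a := by
    refine h.pts_eq (hs.r.left.cj g) (hs.l.left.cj ε) (z := ε * α * ε⁻¹) ?_ (conj_mem_cj hα) ?_
    · rw [← h2]; exact conj_mem_cj hε
    · intro e2
      apply hε1
      have h4 : α = 1 := conj_eq_one_iff.1 e2
      rw [h4]; group
  rw [← h3, ws_cj, mem_cj] at hy'
  have h4 : g * y = y * g := (mem_centralizer_iff.1 (h.UU_le_centralizer a hg) y hy).symm
  rwa [mul_assoc, ← h4, inv_mul_cancel_left] at hy'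

variable (h2 : ATwo V Z Blk)
include h2

/-- **(j')** -/
theorem jj {r a b : Subgroup G} (hs : Sb V Z Blk r a b) {H : Subgroup G} (hH : H ≤ ws V a) :
    Nat.card H ≤ Nat.card Z ^ m * Nat.card (H ⊓ ws V b : Subgroup G) := by
  obtain ⟨α, hα, hα1⟩ := h.pt_ne_bot hs.l.left
  obtain ⟨c, e, hcb, hec, hle, hmv⟩ := h.mover (hs.symm h) hα hα1
  obtain ⟨ε, hε, hε1⟩ := h.pt_ne_bot hec.left
  have hαr := h.adj_le_ws' hs.l hα
  have hεc := h.adj_le_ws' hec hε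
  set T := bk Blk c b ⊓ centralizer ({α} : Set G) with hT
  have hTc : Nat.card T ≤ Nat.card Z ^ m := by
    have h3 : Nat.card e * Nat.card T ≤ Nat.card (bk Blk c b) :=
      card_mul_le hle inf_le_left fun x hx hx' => hmv x hx (mem_cs.1 hx'.2)
    rw [h.card_pt hec.left, h.card_bk hcb.symm, pow_succ, mul_comm (Nat.card Z ^ m)] at h3
    exact Nat.le_of_mul_le_mul_left h3 Nat.card_pos
  have hcom := h2 r a b hs
  have h3 : Nat.card H ≤ Nat.card T * Nat.card (H ⊓ centralizer ({ε} : Set G) : Subgroup G) := by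
    refine card_le_mul (fun y => ε⁻¹ * (y * ε * y⁻¹)) (fun y hy => ?_) fun y hy y' hy' e' => ?_
    · have hya := hH hy
      have hyb : ∀ x ∈ b, y * x = x * y := fun x hx =>
        (mem_centralizer_iff.1 (hcom hya) x (h.pt_le_ws hs.r.left hx)).symm
      have hyc : ∀ x ∈ c, y * x = x * y := fun x hx =>
        (mem_centralizer_iff.1 (hcom hya) x (h.adj_le_ws' hcb hx)).symm
      have hblk : cj y (bk Blk c b) = bk Blk c b := by
        rw [← h.bk_cj hcb.symm, cj_of_cent hyb, cj_of_cent hyc]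
      have h4 : y * ε * y⁻¹ ∈ bk Blk c b := by
        rw [← hblk]; exact conj_mem_cj (hle hε)
      refine ⟨(bk Blk c b).mul_mem ((bk Blk c b).inv_mem (hle hε)) h4, mem_cs.2 (comm_inj ?_)⟩
      -- `[ε^y, α] = [ε, α]`
      have h5 : ε * α * ε⁻¹ * α⁻¹ ∈ b := h.mid_mem h.typ hcb hs.r hεc hαr
      have hyα : y * α = α * y := h.ws_comm hs.l.left hya (h.pt_le_ws hs.l.left hα)
      have hyα' : y * α * y⁻¹ = α := by rw [hyα, mul_inv_cancel_right]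
      symm
      calc y * ε * y⁻¹ * α * (y * ε * y⁻¹)⁻¹ * α⁻¹
          = y * ε * y⁻¹ * (y * α * y⁻¹) * (y * ε * y⁻¹)⁻¹ * (y * α * y⁻¹)⁻¹ := by rw [hyα']
        _ = y * (ε * α * ε⁻¹ * α⁻¹) * y⁻¹ := by group
        _ = ε * α * ε⁻¹ * α⁻¹ := by rw [hyb _ h5, mul_inv_cancel_right]
    · refine mem_cs.2 ?_
      have h4 : y * ε * y⁻¹ = y' * ε * y'⁻¹ := mul_left_cancel e'
      exact comm_inj (by rw [h4])
  refine h3.trans (Nat.mul_le_mul hTc (Subgroup.card_le_of_le ?_))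
  rintro y ⟨hy, hyε⟩
  refine ⟨hy, h.inf_ws_cj hs hα (h.mid_mem h.typ hcb hs.r hεc hαr) (fun e' => hε1 (hmv ε hε (Mid.comm_eq e')))
    (hH hy) ?_⟩
  rw [ws_cj, mem_cj, mul_assoc, mem_cs.1 hyε, inv_mul_cancel_left]
  exact hH hy

omit h2 in
theorem nn_cj (g : G) (X L : Subgroup G) (hX : IsCj Z X) : NN V Z Blk (cj g X) (cj g L) = cj g (NN V Z Blk X L) := by
  have key : ∀ (g : G) (X L : Subgroup G), IsCj Z X → cj g (NN V Z Blk X L) ≤ NN V Z Blk (cj g X) (cj g L) := by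
    intro g X L hX
    rw [cj_le_iff]
    refine sSup_le ?_
    rintro _ ⟨C, hC, ⟨D, hD, hLD, hCD⟩, rfl⟩
    rw [le_cj_iff, inv_inv, ← UU_cj]
    exact le_sSup ⟨cj g C, hC.cj g, ⟨cj g D, h.slb.can g X hX D hD, cj_le_cj.2 hLD, cj_le_cj.2 hCD⟩, rfl⟩
  refine le_antisymm ?_ (key g X L hX)
  have h3 := key g⁻¹ (cj g X) (cj g L) (hX.cj g)
  rw [cj_cj, cj_cj, inv_mul_cancel, cj_one, cj_one, cj_le_iff, inv_inv] at h3
  exact h3

omit h2 in
/-- `I_m ∩ W_a = r`, `m` a line on `r` joined to `a` -/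
theorem inf_line {r a b b' : Subgroup G} (hs : Sb V Z Blk r a b) (hL : IsCj V L) (hrL : r ≤ L) (hbL : b ≤ L)
    (hb' : Adj V Z b' r) (hbL' : b' ≤ L) (hne : b ≠ b') {u : G} (hu : u ∈ ws V a) (hub : u ∈ ws V b)
    (hub' : u ∈ ws V b') : u ∈ r := by
  have hr := hs.l.right
  have hbr := hs.r
  have hur : u ∈ ws V r := h.inf_le hL hbr.left hb'.left hr hbL hbL' hrL hne ⟨hub, hub'⟩
  obtain ⟨β, hβ, d, hd, e, hd'⟩ := h.dec hbr hur
  have hbb := h.le_bk (Blk := Blk) hbr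
  -- `β ∈ L`
  have hβL : β ∈ L := by
    refine h.cent hbr hL hrL hbL hβ fun v hv => ?_
    have h3 : v * u = u * v := (mem_centralizer_iff.1 (h.UU_le_centralizer b hv) u hub).symm
    have h4 := hd' b hbr hbb v hv
    have h5 : v * β * d = β * v * d := by
      calc v * β * d = v * (β * d) := by group
        _ = β * d * v := by rw [← e, h3]
        _ = β * (v * d) := by rw [h4]; group
        _ = β * v * d := by group
    exact mul_right_cancel h5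
  have hdL : d ∈ ws V r ⊓ ws V b := by
    have e2 : d = β⁻¹ * u := by rw [e]; group
    rw [e2]
    exact ⟨(ws V r).mul_mem ((ws V r).inv_mem (le_ws hL hrL hβL)) hur,
      (ws V b).mul_mem ((ws V b).inv_mem (le_ws hL hbL hβL)) hub⟩
  -- `d ∈ r`
  have hdr : d ∈ r := by
    refine h.lemF_flag (N := NN V Z Blk) (fun g X L hX _ _ => h.nn_cj g X L hX) (fun X L hX hL hXL => ?_)
      (fun X L hX hL hXL => ?_) hr hL hrL hbr.left hbL hbr.ne hdL.1 hdL.2 fun n hn => ?_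
    · refine sSup_le ?_
      rintro _ ⟨C, hC, -, rfl⟩
      exact h.UU_le_cent_adj hC.symm
    · obtain ⟨A, hA, hAL, hAX⟩ := h.exists_second hX hL hXL
      have hAX' : Adj V Z A X := ⟨hA, hX, hAX, L, hL, hAL, hXL⟩
      obtain ⟨C, hC⟩ := h.exists_sb hAX'
      obtain ⟨α, hα, hα1⟩ := h.pt_ne_bot hA
      have h3 : ∃ n ∈ UU V Z C, n * α ≠ α * n := by
        by_contra hcon
        push Not at hcon
        exact hα1 (h.sb_mv (hC.symm h) hα hcon)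
      obtain ⟨n, hn, hnα⟩ := h3
      have h4 : UU V Z C ≤ NN V Z Blk X L :=
        le_sSup ⟨C, hC.r, ⟨bk Blk X A, h.bk_mem hAX', h.line_le_bk hAX' hL hXL hAL, hC.le_bk h⟩, rfl⟩
      refine ⟨n, h4 hn, α, hAL hα, fun e2 => hnα (Mid.comm_eq ?_)⟩
      exact h.pt_inf hC.r.left hX hC.r.ne (h.UU_ws h.typ hC.r hn (h.adj_le_ws' hAX' hα)) e2
    · have h3 : n * d = d * n := by
        have h4 : NN V Z Blk r L ≤ centralizer ({d} : Set G) := by
          refine sSup_le ?_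
          rintro _ ⟨C, hC, ⟨D, hD, hLD, hCD⟩, rfl⟩ v hv
          refine mem_cs.2 (hd' C hC ?_ v hv)
          rwa [h.bk_unique hbr hD (hbL.trans hLD)]
        exact mem_cs.1 (h4 hn)
      rw [Mid.comm_one h3]
      exact one_mem _
  have huL : u ∈ L := by rw [e]; exact mul_mem hβL (hrL hdr)
  obtain ⟨ρ, hρ, β', hβ', e3⟩ := h.line_eq hr hbr.left hbr.ne.symm hL hrL hbL huL
  have h3 : β' ∈ ws V a := by
    have e4 : β' = ρ⁻¹ * u := by rw [e3]; group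
    rw [e4]
    exact mul_mem (inv_mem (h.adj_le_ws hs.l hρ)) hu
  have h4 : β' = 1 := h.sb_mv hs hβ' fun v hv =>
    (mem_centralizer_iff.1 (h.UU_le_centralizer a hv) β' h3).symm
  rw [e3, h4, mul_one]
  exact hρ

/-- **(k')** -/
theorem card_ws_le {a : Subgroup G} (ha : IsCj Z a) : Nat.card (ws V a) ≤ Nat.card Z ^ (2 * m + 1) := by
  obtain ⟨L, hL, haL⟩ := h.exists_line ha
  obtain ⟨r, hr, hrL, hra⟩ := h.exists_second ha hL haL
  have har : Adj V Z a r := ⟨ha, hr, hra.symm, L, hL, haL, hrL⟩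
  obtain ⟨b, hs⟩ := h.exists_sb har
  obtain ⟨M, hM, hbM, hrM⟩ := hs.r.line
  obtain ⟨b', hb', hbM', hbr', hbb'⟩ := h.exists_third hr hs.r.left hM hrM hbM hs.r.ne.symm
  have hbr2 : Adj V Z b' r := ⟨hb', hr, hbr', M, hM, hbM', hrM⟩
  have hs' : Sb V Z Blk r a b' := by
    refine (h.sb_mk' hbr2 har ?_ hM hrM hbM' ((hs.symm h).ne M hM hrM hbM)).symm h
    rw [h.bk_line hs.r hbr2 hM hrM hbM hbM']
    exact (hs.symm h).le_bk h
  have h3 := h.jj h2 hs (H := ws V a) le_rfl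
  have h4 := h.jj h2 hs' (H := ws V a ⊓ ws V b) inf_le_left
  have h5 : Nat.card (ws V a ⊓ ws V b ⊓ ws V b' : Subgroup G) ≤ Nat.card Z := by
    rw [← h.card_pt hr]
    refine Subgroup.card_le_of_le ?_
    rintro u ⟨⟨hu, hub⟩, hub'⟩
    exact h.inf_line hs hM hrM hbM hbr2 hbM' hbb'.symm hu hub hub'
  calc Nat.card (ws V a) ≤ Nat.card Z ^ m * Nat.card (ws V a ⊓ ws V b : Subgroup G) := h3
    _ ≤ Nat.card Z ^ m * (Nat.card Z ^ m * Nat.card Z) :=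
      Nat.mul_le_mul_left _ (h4.trans (Nat.mul_le_mul_left _ h5))
    _ = Nat.card Z ^ (2 * m + 1) := by ring

end NT

end Cfsg.Agent.Omega.NO3S.MidQ

end

section


/-!
# NO-3S, natural lines, critical distance 2, TYPE N, blocks `SL_m`, `m ≥ 3`: THEOREM N2 (TEXT 426-2, bb OMEGA #16785)

* `NT.not_two_blocks` : the number of blocks is not 2 (it is odd);
* `Mid.no_SLB`, `TN.no_SLB` : **THEOREM N2**.
-/

set_option autoImplicit false
set_option linter.unusedSectionVars false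

namespace Cfsg.Agent.Omega.NO3S.MidQ

open Subgroup Cfsg.Agent.Omega.NO3S.PT Cfsg.Agent.Omega.NoFF.Basic Cfsg.Agent.ZN
open scoped Pointwise

variable {G : Type*} [Group G] {V Z X Y L : Subgroup G} {Blk : Subgroup G → Set (Subgroup G)} {m : ℕ}

/-- `|A| |B| ≤ |K| |A ∩ B|` -/
theorem card_mul_le' [Finite G] {A B K : Subgroup G} (hA : A ≤ K) (hB : B ≤ K) :
    Nat.card A * Nat.card B ≤ Nat.card K * Nat.card (A ⊓ B : Subgroup G) := by
  classical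
  have hr : ∀ k : K, ∃ a : A, (∃ x : A, (x : G)⁻¹ * k ∈ B) → (a : G)⁻¹ * k ∈ B := by
    intro k
    by_cases hk : ∃ x : A, (x : G)⁻¹ * k ∈ B
    · obtain ⟨x, hx⟩ := hk
      exact ⟨x, fun _ => hx⟩
    · exact ⟨1, fun h => absurd h hk⟩
  choose r hr using hr
  have hr' : ∀ x : A × B, ((r ⟨x.1 * x.2, K.mul_mem (hA x.1.2) (hB x.2.2)⟩ : A) : G)⁻¹ * (x.1 * x.2) ∈ B := fun x =>
    hr ⟨x.1 * x.2, K.mul_mem (hA x.1.2) (hB x.2.2)⟩ ⟨x.1, by
      show (x.1 : G)⁻¹ * (x.1 * x.2) ∈ B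
      rw [inv_mul_cancel_left]; exact x.2.2⟩
  let F : A × B → K × (A ⊓ B : Subgroup G) := fun x =>
    (⟨x.1 * x.2, K.mul_mem (hA x.1.2) (hB x.2.2)⟩,
      ⟨((r ⟨x.1 * x.2, K.mul_mem (hA x.1.2) (hB x.2.2)⟩ : A) : G)⁻¹ * x.1,
        A.mul_mem (A.inv_mem (r _).2) x.1.2, by
          have h1 := B.mul_mem (hr' x) (B.inv_mem x.2.2)
          have e : ((r ⟨x.1 * x.2, K.mul_mem (hA x.1.2) (hB x.2.2)⟩ : A) : G)⁻¹ * (x.1 * x.2) * (x.2 : G)⁻¹ =
            ((r ⟨x.1 * x.2, K.mul_mem (hA x.1.2) (hB x.2.2)⟩ : A) : G)⁻¹ * x.1 := by group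
          rwa [e] at h1⟩)
  have hF : Function.Injective F := by
    rintro x y hxy
    have h1 : (⟨x.1 * x.2, K.mul_mem (hA x.1.2) (hB x.2.2)⟩ : K) = ⟨y.1 * y.2, K.mul_mem (hA y.1.2) (hB y.2.2)⟩ :=
      congrArg Prod.fst hxy
    have h2 : ((r ⟨x.1 * x.2, K.mul_mem (hA x.1.2) (hB x.2.2)⟩ : A) : G)⁻¹ * x.1 =
        ((r ⟨y.1 * y.2, K.mul_mem (hA y.1.2) (hB y.2.2)⟩ : A) : G)⁻¹ * y.1 :=
      congrArg Subtype.val (congrArg Prod.snd hxy)
    rw [h1] at h2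
    have h3 : (x.1 : G) = y.1 := mul_left_cancel h2
    have h4 : (x.1 : G) * x.2 = y.1 * y.2 := congrArg Subtype.val h1
    rw [h3] at h4
    exact Prod.ext (Subtype.ext h3) (Subtype.ext (mul_left_cancel h4))
  have h3 := Nat.card_le_card_of_injective F hF
  rwa [Nat.card_prod, Nat.card_prod] at h3

namespace NT

variable [Finite G] {S : Sylow 2 G} {P : Subgroup G} (h : NT S P V Z Blk m)
include h

theorem exists_adj_blk (hX : IsCj Z X) {D : Subgroup G} (hD : D ∈ Blk X) : ∃ A, Adj V Z A X ∧ bk Blk X A = D := by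
  have h1 : ∃ y ∈ D, y ∉ X := by
    by_contra hcon
    push Not at hcon
    have h2 : Nat.card D ≤ Nat.card X := Subgroup.card_le_of_le hcon
    rw [h.slb.card X hX D hD, h.card_pt hX] at h2
    nth_rewrite 2 [← pow_one (Nat.card Z)] at h2
    have h3 := (Nat.pow_le_pow_iff_right (h.two_le)).1 h2
    have h4 := h.slb.three
    omega
  obtain ⟨y, hy, hyX⟩ := h1
  obtain ⟨M, hM, hXM, hyM⟩ := h.slb.all X hX D hD y hy hyX
  obtain ⟨A, hA, hAM, hyA⟩ := h.exists_point hM hyM (fun e => hyX (e ▸ one_mem _))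
  have hAX : Adj V Z A X := ⟨hA, hX, fun e => hyX (e ▸ hyA), M, hM, hAM, hXM⟩
  refine ⟨A, hAX, ?_⟩
  by_contra hne
  exact hyX (h.slb.inf X hX D hD _ (h.bk_mem hAX) hne y hy (h.le_bk hAX hyA))

/-- an element of a block centralised by all `U_C`, `C` in the block, is in `X` -/
theorem blk_cent (hX : IsCj Z X) {D : Subgroup G} (hD : D ∈ Blk X) {x : G} (hx : x ∈ D)
    (hc : ∀ C, Adj V Z C X → C ≤ D → ∀ u ∈ UU V Z C, u * x = x * u) : x ∈ X := by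
  obtain ⟨A, hA, rfl⟩ := h.exists_adj_blk hX hD
  obtain ⟨B, hs⟩ := h.exists_sb hA
  obtain ⟨L, hL, hAL, hXL⟩ := hA.line
  obtain ⟨M, hM, hBM, hXM⟩ := hs.r.line
  have h1 := h.cent hA hL hXL hAL hx (hc A hA (h.le_bk hA))
  have h2 := h.cent hs.r hM hXM hBM (by rw [hs.bk_eq h]; exact hx) (hc B hs.r (hs.le_bk h))
  by_contra hxX
  have hx1 : x ≠ 1 := fun e => hxX (e ▸ one_mem _)
  obtain ⟨T, hT, hTL, hxT⟩ := h.exists_point hL h1 hx1
  obtain ⟨T', hT', hTM, hxT'⟩ := h.exists_point hM h2 hx1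
  have e := h.pts_eq hT hT' hxT hxT' hx1
  have hTX : X ≠ T := fun e => hxX (e ▸ hxT)
  have e2 := h.line_unique hX hT hTX hL hM hXL hTL hXM (e ▸ hTM)
  exact hs.ne L hL hXL hAL (e2 ▸ hBM)

/-- the number of blocks is not 2 -/
theorem not_two_blocks {D0 D1 : Subgroup G} (h0 : D0 ∈ Blk Z) (h1 : D1 ∈ Blk Z) (hV : V ≤ D0) (hne : D1 ≠ D0)
    (hall : ∀ D ∈ Blk Z, D = D0 ∨ D = D1) : False := by
  have hZ := h.pl.isCj_self
  have hVV : IsCj V V := ⟨1, (cj_one V).symm⟩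
  have hZV := h.pl.ZV
  obtain ⟨A0, hA0, hA0V, hA0Z⟩ := h.exists_second hZ hVV hZV
  have hA : Adj V Z A0 Z := ⟨hA0, hZ, hA0Z, V, hVV, hA0V, hZV⟩
  obtain ⟨A1, hA1, hA1D⟩ := h.exists_adj_blk hZ h1
  obtain ⟨M, hM, hA1M, hZM⟩ := hA1.line
  obtain ⟨a, ha1, ha2⟩ := h.exists_conj₂ hZ hVV hZV hZ hM hZM
  have hMD : M ≤ D1 := by rw [← hA1D]; exact h.line_le_bk hA1 hM hZM hA1M
  -- blocks are permuted
  have hperm : ∀ g, cj g Z = Z → ∀ D ∈ Blk Z, cj g D ∈ Blk Z := by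
    intro g hg D hD
    have := h.slb.can g Z hZ D hD
    rwa [hg] at this
  have haD : cj a D0 = D1 := by
    have h2 := hperm a ha1.symm D0 h0
    have h3 : A1 ≤ cj a D0 := by
      refine hA1M.trans ?_
      rw [ha2]
      exact cj_le_cj.2 hV
    rw [← h.bk_unique hA1 h2 h3, hA1D]
  set H := normalizer (Z : Set G) with hH
  set K := H ⊓ normalizer (D0 : Set G) with hK
  have hmem : ∀ b ∈ H, b ∈ K ↔ cj b D0 = D0 := fun b hb => by
    rw [hK, mem_inf, cj_eq_iff]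
    exact ⟨fun e => e.2, fun e => ⟨hb, e⟩⟩
  have haH : a ∈ H := cj_eq_iff.1 ha1.symm
  have hSK : (S : Subgroup G) ≤ K := by
    intro s hs
    have hsZ := h.pl.S_le_N hs
    rw [hmem s hsZ]
    have h2 := hperm s (cj_eq_iff.2 hsZ) D0 h0
    have h3 : A0 ≤ cj s D0 := by
      have e : cj s V = V := cj_eq_iff.2 (h.pl.PN (h.pl.SP hs))
      calc A0 ≤ V := hA0V
        _ = cj s V := e.symm
        _ ≤ cj s D0 := cj_le_cj.2 hV
    rw [← h.bk_unique hA h2 h3, h.bk_unique hA h0 (hA0V.trans hV)]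
  have hidx : (K.subgroupOf H).index = 2 := by
    rw [Subgroup.index_eq_two_iff]
    refine ⟨⟨a, haH⟩, fun b => ?_⟩
    have hb := b.2
    have hbZ := cj_eq_iff.2 hb
    rw [mem_subgroupOf, mem_subgroupOf]
    have e1 : ((b * ⟨a, haH⟩ : H) : G) = (b : G) * a := rfl
    rw [e1, hmem _ (mul_mem hb haH), hmem _ hb, ← cj_cj, haD]
    rcases hall _ (hperm b hbZ D0 h0) with e | e
    · refine Or.inr ⟨e, fun e2 => hne ?_⟩
      rw [← e] at e2
      rw [e] at e2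
      have h3 : cj (b : G) D1 = cj (b : G) D0 := by rw [e2, e]
      exact cj_inj.1 h3
    · refine Or.inl ⟨?_, fun e2 => hne (e.symm.trans e2)⟩
      rcases hall _ (hperm b hbZ D1 h1) with e2 | e2
      · exact e2
      · exact absurd (cj_inj.1 (e2.trans e.symm)) hne
  have h2 : K.relIndex H * H.index = K.index := relIndex_mul_index inf_le_left
  have h3 : K.relIndex H = 2 := hidx
  have h4 : 2 ∣ K.index := ⟨H.index, by rw [← h2, h3]⟩
  exact S.not_dvd_index (h4.trans (index_dvd_of_le hSK))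

variable (h2 : ATwo V Z Blk)
include h2

/-- **(A2) is impossible** -/
theorem not_ATwo (hex : ∃ A R B, Cr V Z A R B) : False := by
  obtain ⟨A, R, B, hc⟩ := hex
  -- at least two blocks at `Z`
  have hZ := h.pl.isCj_self
  have hVV : IsCj V V := ⟨1, (cj_one V).symm⟩
  have hne : bk Blk R A ≠ bk Blk R B := by
    intro e
    by_cases hl : ∃ L, IsCj V L ∧ R ≤ L ∧ A ≤ L ∧ B ≤ L
    · obtain ⟨L, hL, hRL, hAL, hBL⟩ := hl
      exact h.cr_not_adj hc ⟨hc.l.left, hc.r.right, h.cr_ne hc, L, hL, hAL, hBL⟩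
    · push Not at hl
      refine hc.ne (h2 R A B (h.sb_mk hc.l hc.r.symm ?_ fun L hL hRL hAL => hl L hL hRL hAL))
      rw [e]
      exact h.le_bk hc.r.symm
  obtain ⟨g, hg⟩ := hc.l.right
  have hgR : cj g⁻¹ R = Z := by rw [hg, cj_cj, inv_mul_cancel, cj_one]
  obtain ⟨A0, hA0, hA0V, hA0Z⟩ := h.exists_second hZ hVV h.pl.ZV
  have hA : Adj V Z A0 Z := ⟨hA0, hZ, hA0Z, V, hVV, hA0V, h.pl.ZV⟩
  set D0 := bk Blk Z A0 with hD0
  have h0 : D0 ∈ Blk Z := h.bk_mem hA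
  have hV0 : V ≤ D0 := h.line_le_bk hA hVV h.pl.ZV hA0V
  have hDA : cj g⁻¹ (bk Blk R A) ∈ Blk Z := by
    have := h.slb.can g⁻¹ R hc.l.right _ (h.bk_mem hc.l)
    rwa [hgR] at this
  have hDB : cj g⁻¹ (bk Blk R B) ∈ Blk Z := by
    have := h.slb.can g⁻¹ R hc.l.right _ (h.bk_mem hc.r.symm)
    rwa [hgR] at this
  have hD1 : ∃ D1 ∈ Blk Z, D1 ≠ D0 := by
    by_cases e : cj g⁻¹ (bk Blk R A) = D0
    · exact ⟨_, hDB, fun e2 => hne (cj_inj.1 (e.trans e2.symm))⟩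
    · exact ⟨_, hDA, e⟩
  obtain ⟨D1, h1, h10⟩ := hD1
  obtain ⟨D2, hD2, h20, h21⟩ : ∃ D ∈ Blk Z, D ≠ D0 ∧ D ≠ D1 := by
    by_contra hcon
    push Not at hcon
    refine h.not_two_blocks h0 h1 hV0 h10 fun D hD => ?_
    by_cases e : D = D0
    · exact Or.inl e
    · exact Or.inr (hcon D hD e)
  -- counting
  have hW0 := (h.slb.le Z hZ D0 h0).2
  have hW1 := (h.slb.le Z hZ D1 h1).2
  have hW2 := (h.slb.le Z hZ D2 hD2).2
  have c1 := card_mul_le' (A := D0) (B := D1) (K := D0 ⊔ D1) le_sup_left le_sup_right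
  have c2 : Nat.card (D0 ⊓ D1 : Subgroup G) ≤ Nat.card Z := Subgroup.card_le_of_le fun x hx =>
    h.slb.inf Z hZ D0 h0 D1 h1 h10 x hx.1 hx.2
  have c3 := card_mul_le' (A := D0 ⊔ D1) (B := D2) (K := ws V Z) (sup_le hW0 hW1) hW2
  have c4 : Nat.card ((D0 ⊔ D1) ⊓ D2 : Subgroup G) ≤ Nat.card Z := by
    refine Subgroup.card_le_of_le ?_
    rintro x ⟨hx, hx2⟩
    refine h.blk_cent hZ hD2 hx2 fun C hC hCD u hu => ?_
    have h5 : D0 ⊔ D1 ≤ centralizer ({u} : Set G) := by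
      have hno : ∀ D ∈ Blk Z, D2 ≠ D → ¬ C ≤ D := by
        intro D hD hne2 hCD'
        exact hne2 ((h.bk_unique hC hD2 hCD).symm.trans (h.bk_unique hC hD hCD'))
      refine sup_le (fun b hb => mem_cs.2 ?_) (fun b hb => mem_cs.2 ?_)
      · exact (h.slb.other Z C hC D0 h0 (hno D0 h0 h20) b hb u hu).symm
      · exact (h.slb.other Z C hC D1 h1 (hno D1 h1 h21) b hb u hu).symm
    exact (mem_cs.1 (h5 hx)).symm
  have c5 := h.card_ws_le h2 hZ
  rw [h.slb.card Z hZ D0 h0, h.slb.card Z hZ D1 h1] at c1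
  rw [h.slb.card Z hZ D2 hD2] at c3
  set s := Nat.card Z with hs
  have c6 : s ^ (m + 1) * s ^ (m + 1) * s ^ (m + 1) ≤ s ^ (2 * m + 3) := by
    calc s ^ (m + 1) * s ^ (m + 1) * s ^ (m + 1)
        ≤ Nat.card (D0 ⊔ D1 : Subgroup G) * s * s ^ (m + 1) :=
          Nat.mul_le_mul_right _ (c1.trans (Nat.mul_le_mul_left _ c2))
      _ = s * (Nat.card (D0 ⊔ D1 : Subgroup G) * s ^ (m + 1)) := by ring
      _ ≤ s * (s ^ (2 * m + 1) * s) :=
          Nat.mul_le_mul_left _ (c3.trans (Nat.mul_le_mul c5 c4))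
      _ = s ^ (2 * m + 3) := by ring
  have c7 : s ^ (3 * m + 3) ≤ s ^ (2 * m + 3) := by
    calc s ^ (3 * m + 3) = s ^ (m + 1) * s ^ (m + 1) * s ^ (m + 1) := by ring
      _ ≤ _ := c6
  have c8 := (Nat.pow_le_pow_iff_right (h.two_le)).1 c7
  have c9 := h.slb.three
  omega

end NT

/-- **THEOREM N2** -/
theorem Mid.no_SLB [Finite G] {S : Sylow 2 G} {P : Subgroup G} (h : Mid S P V Z) (hN : TypN V Z)
    (hex : ∃ A R B, Cr V Z A R B) (hB : SLB V Z Blk m) : False := by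
  have hn : NT S P V Z Blk m := ⟨h, hN, hB⟩
  by_cases h2 : ATwo V Z Blk
  · exact hn.not_ATwo h2 hex
  · have h3 : ∃ R A B, Sb V Z Blk R A B ∧ ¬ Com V A B := by
      by_contra hcon
      push Not at hcon
      exact h2 hcon
    obtain ⟨R, A, B, hs, hc⟩ := h3
    refine hn.not_AOne fun R' A' B' hs' hc' => hc ?_
    obtain ⟨g, hg0, hg1, hg2⟩ := hn.sb_move hs' hs
    have h4 := hc'.cj g
    rwa [hg1, hg2] at h4

/-- **THEOREM N2** -/
theorem TN.no_SLB [Finite G] {S : Sylow 2 G} {P : Subgroup G} (h : TN S P V Z) (hB : SLB V Z Blk m) : False :=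
  h.toMid.no_SLB h.comm h.ex hB

end Cfsg.Agent.Omega.NO3S.MidQ

end

end

-- merged: Cfsg.Agent.Mrg.Omega.NO3S.MidB.NTwoBase
section

section


/-!
# NO-3S, natural lines, the `(R, B)`-frame, TYPE N, blocks `SL_m`, `m ≥ 3`: basic facts (TEXT 426-2, THEOREM N2)

Copy of `MidQ/NTwoBase.lean` over `MidB.Mid`; the definitions `Sb`, `SLB`, `bk`, `AOne`, `ATwo`, `Path`, `NN` and the
counting lemmas are those of `MidQ`.

* `NT S P V Z Blk m` : `Mid`, (N) and (SL);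
* `NT.bk_mem`, `NT.bk_unique`, `NT.bk_cj`, `NT.exists_pt`, `NT.dec` : blocks;
* `NT.sb_sy`, `NT.sb_cj`, `NT.sb_mv`, `NT.sb_move`.
-/

set_option autoImplicit false
set_option linter.unusedSectionVars false

namespace Cfsg.Agent.Omega.NO3S.MidB

open Subgroup Cfsg.Agent.Omega.NO3S.PT Cfsg.Agent.Omega.NoFF.Basic Cfsg.Agent.ZN
open Cfsg.Agent.Omega.NO3S.MidQ (Adj Com Cr UU ws_of kx_of isCj_iff adj_iff com_iff cr_iff UU_of isCj_symm isCj_trans
  com_cj UU_cj le_UU normalizer_le_UU isPGroup_sSup FlagCan PtCan ff mem_ff ff_cj TypN Sb SLB bk AOne ATwo Path NN cnz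
  mem_cnz cnz_cj mem_cs cg mem_cg comm_act card_le_mul surj_of_inj card_mul_le mul_of_card card_dec comm_inj cj_of_cent
  card_mul_le')
open scoped Pointwise

variable {G : Type*} [Group G]

/-! ### Pairs in a block -/

variable {V Z X Y R A B A' B' L : Subgroup G} {Blk : Subgroup G → Set (Subgroup G)} {m : ℕ}

/-- `Mid`, (N) and (SL) -/
structure NT [Finite G] (S : Sylow 2 G) (P V Z : Subgroup G) (Blk : Subgroup G → Set (Subgroup G)) (m : ℕ) : Prop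
    extends Mid S P V Z where
  typ : TypN V Z
  slb : SLB V Z Blk m

namespace NT

variable [Finite G] {S : Sylow 2 G} {P : Subgroup G} (h : NT S P V Z Blk m)
include h

theorem card_pt (hX : IsCj Z X) : Nat.card X = Nat.card Z := h.pl.card_pt hX

theorem card_ln (hL : IsCj V L) : Nat.card L = Nat.card Z * Nat.card Z := by
  rw [h.card_line hL, h.pl.card]

theorem two_le : 2 ≤ Nat.card Z := h.pl.one_lt_card

/-- a point which is contained in a line and in a point -/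
theorem not_le_of_ne (hX : IsCj Z X) (hY : IsCj Z Y) (hne : X ≠ Y) : ¬ X ≤ Y := by
  intro e
  obtain ⟨x, hx, hx1⟩ := h.pt_ne_bot hX
  exact hne (h.pts_eq hX hY hx (e hx) hx1)

/-- a point meets a line which does not contain it trivially -/
theorem line_inf (hX : IsCj Z X) (hL : IsCj V L) (hXL : ¬ X ≤ L) {x : G} (hx : x ∈ X) (hx' : x ∈ L) : x = 1 := by
  by_contra hx1
  obtain ⟨T, hT, hTL, hxT⟩ := h.exists_point hL hx' hx1
  exact hXL ((h.pts_eq hX hT hx hxT hx1).symm ▸ hTL)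

theorem bk_unique (hA : Adj V Z A R) {D : Subgroup G} (hD : D ∈ Blk R) (hAD : A ≤ D) : bk Blk R A = D := by
  refine le_antisymm (sSup_le ?_) (le_sSup ⟨hD, hAD⟩)
  rintro D' ⟨hD', hAD'⟩
  by_cases e : D' = D
  · rw [e]
  · exact absurd (fun x hx => h.slb.inf R hA.right D hD D' hD' e x (hAD hx) (hAD' hx))
      (h.not_le_of_ne hA.left hA.right hA.ne)

theorem bk_mem' (hA : Adj V Z A R) : ∃ D ∈ Blk R, A ≤ D ∧ bk Blk R A = D := by
  obtain ⟨L, hL, hAL, hRL⟩ := hA.line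
  obtain ⟨D, hD, hLD⟩ := h.slb.line R hA.right L hL hRL
  exact ⟨D, hD, hAL.trans hLD, h.bk_unique hA hD (hAL.trans hLD)⟩

theorem bk_mem (hA : Adj V Z A R) : bk Blk R A ∈ Blk R := by
  obtain ⟨D, hD, -, h1⟩ := h.bk_mem' hA
  rwa [h1]

theorem le_bk (hA : Adj V Z A R) : A ≤ bk Blk R A := by
  obtain ⟨D, hD, h1, h2⟩ := h.bk_mem' hA
  rwa [h2]

theorem mid_le_bk (hA : Adj V Z A R) : R ≤ bk Blk R A := (h.slb.le R hA.right _ (h.bk_mem hA)).1

theorem bk_le (hA : Adj V Z A R) : bk Blk R A ≤ ws V R := (h.slb.le R hA.right _ (h.bk_mem hA)).2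

theorem card_bk (hA : Adj V Z A R) : Nat.card (bk Blk R A) = Nat.card Z ^ (m + 1) :=
  h.slb.card R hA.right _ (h.bk_mem hA)

theorem bk_cj (hA : Adj V Z A R) (g : G) : bk Blk (cj g R) (cj g A) = cj g (bk Blk R A) :=
  h.bk_unique (hA.cj g) (h.slb.can g R hA.right _ (h.bk_mem hA)) (cj_le_cj.2 (h.le_bk hA))

theorem bk_eq (hA : Adj V Z A R) (hB : Adj V Z B R) (hAB : B ≤ bk Blk R A) : bk Blk R B = bk Blk R A :=
  h.bk_unique hB (h.bk_mem hA) hAB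

theorem line_le_bk (hA : Adj V Z A R) (hL : IsCj V L) (hRL : R ≤ L) (hAL : A ≤ L) : L ≤ bk Blk R A := by
  obtain ⟨D, hD, hLD⟩ := h.slb.line R hA.right L hL hRL
  rwa [h.bk_unique hA hD (hAL.trans hLD)]

/-- the block at `R` depends only on the line -/
theorem bk_line (hA : Adj V Z A R) (hB : Adj V Z B R) (hL : IsCj V L) (hRL : R ≤ L) (hAL : A ≤ L) (hBL : B ≤ L) :
    bk Blk R B = bk Blk R A := h.bk_eq hA hB (hBL.trans (h.line_le_bk hA hL hRL hAL))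

/-- **(S3)** -/
theorem exists_pt (hA : Adj V Z A R) {x : G} (hx : x ∈ bk Blk R A) (hxR : x ∉ R) :
    ∃ B, Adj V Z B R ∧ B ≤ bk Blk R A ∧ x ∈ B := by
  obtain ⟨L, hL, hRL, hxL⟩ := h.slb.all R hA.right _ (h.bk_mem hA) x hx hxR
  obtain ⟨B, hB, hBL, hxB⟩ := h.exists_point hL hxL (fun e => hxR (e ▸ one_mem _))
  have hBR : Adj V Z B R := ⟨hB, hA.right, fun e => hxR (e ▸ hxB), L, hL, hBL, hRL⟩
  refine ⟨B, hBR, ?_, hxB⟩
  by_cases e : bk Blk R A = bk Blk R B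
  · rw [e]; exact h.le_bk hBR
  · exact absurd (h.slb.inf R hA.right _ (h.bk_mem hBR) _ (h.bk_mem hA) e x (h.le_bk hBR hxB) hx) hxR

/-- `C_B(U_A)` is the line `RA` -/
theorem cent (hA : Adj V Z A R) (hL : IsCj V L) (hRL : R ≤ L) (hAL : A ≤ L) {b : G} (hb : b ∈ bk Blk R A)
    (hu : ∀ u ∈ UU V Z A, u * b = b * u) : b ∈ L :=
  h.slb.cent R A hA _ (h.bk_mem hA) (h.le_bk hA) L hL hRL hAL b hb hu

/-- **the decomposition** `W_R = B D`, `D` centralised by all `U_C`, `C ≤ B` -/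
theorem dec (hA : Adj V Z A R) {w : G} (hw : w ∈ ws V R) : ∃ b ∈ bk Blk R A, ∃ d ∈ ws V R, w = b * d ∧
    ∀ C, Adj V Z C R → C ≤ bk Blk R A → ∀ u ∈ UU V Z C, u * d = d * u := by
  have hR := hA.right
  let E : Subgroup G :=
    { carrier := {w | ∃ b ∈ bk Blk R A, ∃ d ∈ ws V R, w = b * d ∧
        ∀ C, Adj V Z C R → C ≤ bk Blk R A → ∀ u ∈ UU V Z C, u * d = d * u}
      one_mem' := ⟨1, one_mem _, 1, one_mem _, (mul_one 1).symm, fun C _ _ u _ => by simp⟩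
      mul_mem' := by
        rintro _ _ ⟨b, hb, d, hd, rfl, h1⟩ ⟨b', hb', d', hd', rfl, h2⟩
        refine ⟨b * b', mul_mem hb hb', d * d', mul_mem hd hd', ?_, fun C hC hCB u hu => ?_⟩
        · have e := h.ws_comm hR hd (h.bk_le hA hb')
          calc b * d * (b' * d') = b * (d * b') * d' := by group
            _ = b * (b' * d) * d' := by rw [e]
            _ = b * b' * (d * d') := by group
        · calc u * (d * d') = (u * d) * d' := by group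
            _ = d * (u * d') := by rw [h1 C hC hCB u hu]; group
            _ = d * d' * u := by rw [h2 C hC hCB u hu]; group
      inv_mem' := by
        rintro _ ⟨b, hb, d, hd, rfl, h1⟩
        refine ⟨b⁻¹, inv_mem hb, d⁻¹, inv_mem hd, ?_, fun C hC hCB u hu => ?_⟩
        · rw [h.ws_comm hR (h.bk_le hA hb) hd, mul_inv_rev]
        · exact (Commute.inv_right (h1 C hC hCB u hu : Commute u d)) }
  have hE : ws V R ≤ E := by
    refine ws_le fun L hL hRL x hx => ?_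
    obtain ⟨D, hD, hLD⟩ := h.slb.line R hR L hL hRL
    by_cases e : D = bk Blk R A
    · exact ⟨x, e ▸ hLD hx, 1, one_mem _, (mul_one x).symm, fun C _ _ u _ => by simp⟩
    · refine ⟨1, one_mem _, x, le_ws hL hRL hx, (one_mul x).symm, fun C hC hCB u hu => ?_⟩
      refine h.slb.other R C hC D hD (fun hCD => ?_) x (hLD hx) u hu
      exact e ((h.bk_unique hC hD hCD).symm.trans (h.bk_eq hA hC hCB))
  exact hE hw

end NT

namespace NT

variable [Finite G] {S : Sylow 2 G} {P : Subgroup G} (h : NT S P V Z Blk m)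

theorem sb_sy (hs : Sb V Z Blk R A B) : Sb V Z Blk R B A where
  l := hs.r
  r := hs.l
  blk := by
    obtain ⟨D, hD, h1, h2⟩ := hs.blk
    exact ⟨D, hD, h2, h1⟩
  ne := fun L hL hRL hBL hAL => hs.ne L hL hRL hAL hBL

include h

theorem sb_bk (hs : Sb V Z Blk R A B) : bk Blk R B = bk Blk R A := by
  obtain ⟨D, hD, h1, h2⟩ := hs.blk
  rw [h.bk_unique hs.l hD h1, h.bk_unique hs.r hD h2]

theorem sb_le (hs : Sb V Z Blk R A B) : B ≤ bk Blk R A := by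
  rw [← h.sb_bk hs]
  exact h.le_bk hs.r

theorem sb_cj (hs : Sb V Z Blk R A B) (g : G) : Sb V Z Blk (PT.cj g R) (PT.cj g A) (PT.cj g B) where
  l := hs.l.cj g
  r := hs.r.cj g
  blk := ⟨PT.cj g (bk Blk R A), h.slb.can g R hs.l.right _ (h.bk_mem hs.l), cj_le_cj.2 (h.le_bk hs.l),
    cj_le_cj.2 (h.sb_le hs)⟩
  ne := fun L hL hRL hAL hBL => hs.ne (PT.cj g⁻¹ L) (hL.cj g⁻¹) (by rwa [le_cj_iff, inv_inv])
    (by rwa [le_cj_iff, inv_inv]) (by rwa [le_cj_iff, inv_inv])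

end NT

namespace NT

variable [Finite G] {S : Sylow 2 G} {P : Subgroup G} (h : NT S P V Z Blk m)
include h

theorem sb_mk (hA : Adj V Z A R) (hB : Adj V Z B R) (hAB : B ≤ bk Blk R A)
    (hne : ∀ L, IsCj V L → R ≤ L → A ≤ L → ¬ B ≤ L) : Sb V Z Blk R A B :=
  ⟨hA, hB, ⟨bk Blk R A, h.bk_mem hA, h.le_bk hA, hAB⟩, hne⟩

/-- the same with a given line -/
theorem sb_mk' (hA : Adj V Z A R) (hB : Adj V Z B R) (hAB : B ≤ bk Blk R A) (hL : IsCj V L) (hRL : R ≤ L)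
    (hAL : A ≤ L) (hne : ¬ B ≤ L) : Sb V Z Blk R A B :=
  h.sb_mk hA hB hAB fun M hM hRM hAM => by
    rwa [h.line_unique hA.right hA.left hA.ne.symm hM hL hRM hAM hRL hAL]

/-- `B ∩ C(U_A) = 1` -/
theorem sb_mv (hs : Sb V Z Blk R A B) {b : G} (hb : b ∈ B) (hu : ∀ u ∈ UU V Z A, u * b = b * u) : b = 1 := by
  obtain ⟨L, hL, hAL, hRL⟩ := hs.l.line
  exact h.line_inf hs.r.left hL (hs.ne L hL hRL hAL) hb (h.cent hs.l hL hRL hAL (h.sb_le hs hb) hu)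

/-- the points of `R`, `A`, `B`, in one block on different lines, can be moved -/
theorem sb_move {R' : Subgroup G} (hs : Sb V Z Blk R A B) (hs' : Sb V Z Blk R' A' B') :
    ∃ g : G, cj g R = R' ∧ cj g A = A' ∧ cj g B = B' := by
  obtain ⟨x, hx⟩ := hs.l.right
  obtain ⟨y, hy⟩ := hs'.l.right
  have h1 : cj (y * x⁻¹) R = R' := by rw [hx, hy, cj_cj, inv_mul_cancel_right]
  have h2 := h.sb_cj hs (y * x⁻¹)
  rw [h1] at h2
  obtain ⟨g, hg1, hg2, hg3⟩ := h.slb.two R' _ _ _ _ h2 hs'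
  exact ⟨g * (y * x⁻¹), by rw [← cj_cj, h1, hg1], by rw [← cj_cj, hg2], by rw [← cj_cj, hg3]⟩

end NT

end Cfsg.Agent.Omega.NO3S.MidB

end

section


/-!
# NO-3S, natural lines, the `(R, B)`-frame, TYPE N, blocks `SL_m`, `m ≥ 3`: section (A1), first part (TEXT 426-2, THEOREM N2)

* `NT.inf_bk` : (5.0);
* `NT.exists_sb`, `NT.exists_path` : paths;
* `NT.bk_UU` : (5.1);  `NT.m_le` : (5.2) `m ≤ 3`;  `NT.big` : (5.3);  `NT.cent_ln` : `C_{B_a(r)}(W_b)` is the line `ar`.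
-/

set_option autoImplicit false
set_option linter.unusedSectionVars false

namespace Cfsg.Agent.Omega.NO3S.MidB

open Subgroup Cfsg.Agent.Omega.NO3S.PT Cfsg.Agent.Omega.NoFF.Basic Cfsg.Agent.ZN
open Cfsg.Agent.Omega.NO3S.MidQ (Adj Com Cr UU ws_of kx_of isCj_iff adj_iff com_iff cr_iff UU_of isCj_symm isCj_trans
  com_cj UU_cj le_UU normalizer_le_UU isPGroup_sSup FlagCan PtCan ff mem_ff ff_cj TypN Sb SLB bk AOne ATwo Path NN cnz
  mem_cnz cnz_cj mem_cs cg mem_cg comm_act card_le_mul surj_of_inj card_mul_le mul_of_card card_dec comm_inj cj_of_cent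
  card_mul_le')
open scoped Pointwise

variable {G : Type*} [Group G] {V Z X Y L : Subgroup G} {Blk : Subgroup G → Set (Subgroup G)} {m : ℕ}

namespace NT

variable [Finite G] {S : Sylow 2 G} {P : Subgroup G} (h : NT S P V Z Blk m)
include h

/-- **(5.0)** -/
theorem inf_bk {A R B : Subgroup G} (hc : Cr V Z A R B) {x : G} (hx : x ∈ bk Blk A R) (hx' : x ∈ bk Blk B R) :
    x ∈ R := by
  by_cases hx1 : x = 1
  · rw [hx1]; exact one_mem _
  have hA : Adj V Z R A := hc.l.symm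
  have hB : Adj V Z R B := hc.r
  obtain ⟨E, hE, -, hxE⟩ := h.exists_pt hA hx fun e => hx1 (h.star hc e (h.bk_le hB hx'))
  obtain ⟨E', hE', -, hxE'⟩ := h.exists_pt hB hx' fun e => hx1 (h.star' hc e (h.bk_le hA hx))
  have e1 := h.pts_eq hE.left hE'.left hxE hxE' hx1
  have e2 := h.mid_unique h.typ hc hE.symm (e1 ▸ hE')
  rwa [← e2]

/-- a point in the block on a different line -/
theorem exists_sb {A R : Subgroup G} (hA : Adj V Z A R) : ∃ B, Sb V Z Blk R A B := by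
  obtain ⟨L, hL, hAL, hRL⟩ := hA.line
  have h1 : ∃ x ∈ bk Blk R A, x ∉ L := by
    by_contra hcon
    push Not at hcon
    have h2 : Nat.card (bk Blk R A) ≤ Nat.card L := Subgroup.card_le_of_le hcon
    rw [h.card_bk hA, h.card_ln hL, ← pow_two] at h2
    have h3 := (Nat.pow_le_pow_iff_right (h.two_le)).1 h2
    have h4 := h.slb.three
    omega
  obtain ⟨x, hx, hxL⟩ := h1
  obtain ⟨B, hB, hBA, hxB⟩ := h.exists_pt hA hx (fun e => hxL (hRL e))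
  exact ⟨B, h.sb_mk' hA hB hBA hL hRL hAL fun e => hxL (e hxB)⟩

/-- an element not centralising a point, as an element of a block -/
theorem exists_bk {A B R : Subgroup G} (hc : Cr V Z A R B) :
    ∃ x ∈ bk Blk A R, ∃ y ∈ bk Blk B R, x * y ≠ y * x := by
  have h1 : ∃ w ∈ ws V A, ∃ v ∈ ws V B, w * v ≠ v * w := by
    by_contra hcon
    push Not at hcon
    exact hc.ne fun w hw => mem_centralizer_iff.2 fun v hv => (hcon w hw v hv).symm
  obtain ⟨w, hw, v, hv, hwv⟩ := h1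
  obtain ⟨x, hx, d, hd, rfl, hd'⟩ := h.dec hc.l.symm hw
  have h2 := hd' R hc.l.symm (h.le_bk hc.l.symm) v (le_UU hc.r.symm hv)
  have hxv : x * v ≠ v * x := by
    intro e
    apply hwv
    calc x * d * v = x * (d * v) := by group
      _ = (x * v) * d := by rw [← h2]; group
      _ = v * (x * d) := by rw [e]; group
  obtain ⟨y, hy, d2, hd2, rfl, hd2'⟩ := h.dec hc.r hv
  have h3 := hd2' R hc.r (h.le_bk hc.r) x (le_UU hc.l (h.bk_le hc.l.symm hx))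
  refine ⟨x, hx, y, hy, fun e => hxv ?_⟩
  calc x * (y * d2) = (x * y) * d2 := by group
    _ = y * (x * d2) := by rw [e]; group
    _ = y * d2 * x := by rw [h3]; group

variable (h1 : AOne V Z Blk)
include h1

theorem cr_of_sb {R A B : Subgroup G} (hs : Sb V Z Blk R A B) : Cr V Z A R B := ⟨hs.l, hs.r.symm, h1 R A B hs⟩

/-- **a path** from `Sb p c r` -/
theorem exists_path' {c p r : Subgroup G} (hs : Sb V Z Blk p c r) : ∃ a w, Path V Z Blk c p r a w := by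
  have hc := h.cr_of_sb h1 hs
  obtain ⟨w, hw, y, hy, hwy⟩ := h.exists_bk hc
  have hwc := h.bk_le hs.l.symm hw
  have hwr : ∀ x ∈ r, w * x = x * w := fun x hx =>
    (mem_centralizer_iff.1 (h.ws_le_cent hs.l hs.r.symm hwc) x hx).symm
  have hwp : ∀ x ∈ p, w * x = x * w := fun x hx => (mem_centralizer_iff.1 (h.ws_le_cent' hs.l hwc) x hx).symm
  have hy' : y ∈ bk Blk r p := hy
  obtain ⟨a, ha, hap, hya⟩ := h.exists_pt hs.r.symm hy' (fun e => hwy (hwr y e))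
  refine ⟨a, w, hs, h.sb_mk hs.r.symm ha hap (fun L hL hrL hpL haL => ?_), hw, fun x hx e => ?_⟩
  · obtain ⟨u, hu, v, hv, e⟩ := h.line_eq hs.r.left hs.l.right hs.r.ne hL hrL hpL (haL hya)
    apply hwy
    rw [e]
    calc w * (u * v) = (w * u) * v := by group
      _ = u * (w * v) := by rw [hwr u hu]; group
      _ = u * v * w := by rw [hwp v hv]; group
  · by_contra hx1
    exact hwy (h.t3 ha.symm (h.two_ws hs.l.left hwc) hwr hx hx1 e y hya)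

theorem path_cj {c p r a : Subgroup G} {w : G} (hp : Path V Z Blk c p r a w) (g : G) :
    Path V Z Blk (cj g c) (cj g p) (cj g r) (cj g a) (g * w * g⁻¹) where
  cr := h.sb_cj hp.cr g
  pa := h.sb_cj hp.pa g
  hw := by
    rw [h.bk_cj hp.cr.l.symm]
    exact conj_mem_cj hp.hw
  mv := by
    intro x hx e
    have h2 := hp.mv _ (mem_cj.1 hx) (by
      have := congrArg (fun t => g⁻¹ * t * g) e
      simpa [mul_assoc] using this)
    have h3 : x = g * (g⁻¹ * x * g) * g⁻¹ := by group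
    rw [h3, h2]; group

/-- **a path** to `Sb r p a` -/
theorem exists_path {p r a : Subgroup G} (hs : Sb V Z Blk r p a) : ∃ c w, Path V Z Blk c p r a w := by
  obtain ⟨c, hc⟩ := h.exists_sb hs.l.symm
  obtain ⟨a', w, hp⟩ := h.exists_path' h1 (NT.sb_sy hc)
  obtain ⟨g, hg1, hg2, hg3⟩ := h.sb_move hp.pa hs
  have h2 := h.path_cj h1 hp g
  rw [hg1, hg2, hg3] at h2
  exact ⟨_, _, h2⟩

/-- **(5.1)** -/
theorem bk_UU {c p r : Subgroup G} (hs : Sb V Z Blk p c r) (hL : IsCj V L) (hcL : c ≤ L) (hpL : p ≤ L) {x : G}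
    (hx : x ∈ bk Blk c p) (hxU : x ∈ UU V Z r) : x ∈ L := by
  have hcp := hs.l
  have hrp := hs.r
  obtain ⟨γ, hγ, hγ1⟩ := h.pt_ne_bot hcp.left
  obtain ⟨t, ht, htγ⟩ : ∃ t ∈ UU V Z r, t * γ ≠ γ * t := by
    by_contra hcon
    push Not at hcon
    exact hγ1 (h.sb_mv (NT.sb_sy hs) hγ hcon)
  have htp : ∀ y ∈ p, t * y = y * t := fun y hy =>
    (mem_centralizer_iff.1 (h.UU_le_cent_adj hrp.symm ht) y hy).symm
  have htc : ∀ y ∈ c, t * y = y * t → y = 1 := by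
    intro y hy e
    by_contra hy1
    exact htγ (h.t3 hcp.symm (h.two_UU ht) htp hy hy1 e γ hγ)
  have htr : ∀ y ∈ r, t * y = y * t := fun y hy => (mem_centralizer_iff.1 (h.UU_le_cent_pt hrp.left ht) y hy).symm
  have hcU : ∀ y ∈ c, y ∈ UU V Z r := fun y hy => le_UU hrp.symm (h.adj_le_ws' hcp hy)
  obtain ⟨y, hy, hyx⟩ := surj_of_inj (A := c) (B := r) (by rw [h.card_pt hcp.left, h.card_pt hrp.left])
    (fun y => y * t * y⁻¹ * t⁻¹) (fun y hy => h.UU_comm h.typ hrp.left (hcU y hy) ht) (fun y hy y' hy' e => by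
      have h2 := comm_inj e
      have h3 := htc (y⁻¹ * y') (mul_mem (inv_mem hy) hy') h2.symm
      exact inv_mul_eq_one.1 h3) _ (r.inv_mem (h.UU_comm h.typ hrp.left hxU ht))
  -- `x y` commutes with `t`
  have hxr : x * (y * t * y⁻¹ * t⁻¹) = y * t * y⁻¹ * t⁻¹ * x :=
    (mem_centralizer_iff.1 (h.UU_le_cent_pt hrp.left hxU) _ (h.UU_comm h.typ hrp.left (hcU y hy) ht)).symm
  have hxy : x * y * t = t * (x * y) := by
    apply Mid.comm_eq
    have e : x * y * t * (x * y)⁻¹ * t⁻¹ = x * (y * t * y⁻¹ * t⁻¹) * x⁻¹ * (x * t * x⁻¹ * t⁻¹) := by group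
    rw [e, hxr, mul_inv_cancel_right, hyx, inv_mul_cancel]
  have hpc : cj t p = p := cj_of_cent htp
  have hadj : Adj V Z (cj t c) p := by
    have := hcp.cj t
    rwa [hpc] at this
  have hblk : cj t (bk Blk p c) = bk Blk p c := by
    rw [← h.sb_bk hs, ← h.bk_cj hrp, hpc, cj_of_cent htr]
  have hle : cj t c ≤ bk Blk p c := by
    rw [← hblk]
    exact cj_le_cj.2 (h.le_bk hcp)
  have hnot : ¬ cj t c ≤ L := by
    intro e
    have h2 : γ * t * γ⁻¹ * t⁻¹ ∈ r := h.UU_comm h.typ hrp.left (hcU γ hγ) ht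
    have h3 : γ * t * γ⁻¹ * t⁻¹ ∈ L := by
      have e2 : γ * t * γ⁻¹ * t⁻¹ = γ * (t * γ * t⁻¹)⁻¹ := by group
      rw [e2]
      exact mul_mem (hcL hγ) (inv_mem (e (conj_mem_cj hγ)))
    have h4 := h.line_inf hrp.left hL (fun e' => hs.ne L hL hpL hcL e') h2 h3
    exact htγ (Mid.comm_eq h4).symm
  have hs2 : Sb V Z Blk p c (cj t c) := h.sb_mk' hcp hadj hle hL hpL hcL hnot
  have hxy2 : x * y ∈ bk Blk c p := mul_mem hx (h.mid_le_bk hcp.symm hy)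
  have hxy3 : x * y ∈ bk Blk (cj t c) p := by
    have h2 : bk Blk (cj t c) p = cj t (bk Blk c p) := by
      rw [← h.bk_cj hcp.symm, hpc]
    rw [h2, mem_cj, mul_assoc, hxy, inv_mul_cancel_left]
    exact hxy2
  have h5 := h.inf_bk (h.cr_of_sb h1 hs2) hxy2 hxy3
  have e : x = x * y * y⁻¹ := by group
  rw [e]
  exact mul_mem (hpL h5) (inv_mem (hcL hy))

end NT

end Cfsg.Agent.Omega.NO3S.MidB

end

section


/-!
# NO-3S, natural lines, the `(R, B)`-frame, TYPE N, blocks `SL_m`, `m ≥ 3`: section (A1), (5.2)–(6.2) (TEXT 426-2, THEOREM N2)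

* `NT.m_le` : (5.2) `m = 3`;  `NT.big` : (5.3);  `NT.cent_ln` : `C_{B_a(r)}(W_b)` is the line `ar`;
* `NT.exists_w0` : (6.1);  `NT.w0_line` : (6.2).
-/

set_option autoImplicit false
set_option linter.unusedSectionVars false

namespace Cfsg.Agent.Omega.NO3S.MidB

open Subgroup Cfsg.Agent.Omega.NO3S.PT Cfsg.Agent.Omega.NoFF.Basic Cfsg.Agent.ZN
open Cfsg.Agent.Omega.NO3S.MidQ (Adj Com Cr UU ws_of kx_of isCj_iff adj_iff com_iff cr_iff UU_of isCj_symm isCj_trans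
  com_cj UU_cj le_UU normalizer_le_UU isPGroup_sSup FlagCan PtCan ff mem_ff ff_cj TypN Sb SLB bk AOne ATwo Path NN cnz
  mem_cnz cnz_cj mem_cs cg mem_cg comm_act card_le_mul surj_of_inj card_mul_le mul_of_card card_dec comm_inj cj_of_cent
  card_mul_le')
open scoped Pointwise

variable {G : Type*} [Group G] {V Z X Y L : Subgroup G} {Blk : Subgroup G → Set (Subgroup G)} {m : ℕ}

namespace NT

variable [Finite G] {S : Sylow 2 G} {P : Subgroup G} (h : NT S P V Z Blk m) (h1 : AOne V Z Blk)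
include h h1

/-- `a`, `a^w` are in one block at `r` on different lines -/
theorem path_sb {c p r a : Subgroup G} {w : G} (hp : Path V Z Blk c p r a w) : Sb V Z Blk r a (cj w a) := by
  have hcp := hp.cr.l
  have hpr := hp.cr.r.symm
  have har := hp.pa.r
  have hwc := h.bk_le hcp.symm hp.hw
  have hwr : ∀ x ∈ r, w * x = x * w := fun x hx =>
    (mem_centralizer_iff.1 (h.ws_le_cent hcp hpr hwc) x hx).symm
  have hwp : ∀ x ∈ p, w * x = x * w := fun x hx => (mem_centralizer_iff.1 (h.ws_le_cent' hcp hwc) x hx).symm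
  obtain ⟨L, hL, haL, hrL⟩ := har.line
  have hadj : Adj V Z (cj w a) r := by
    have := har.cj w
    rwa [cj_of_cent hwr] at this
  have hblk : cj w (bk Blk r a) = bk Blk r a := by
    rw [h.sb_bk hp.pa, ← h.bk_cj hpr, cj_of_cent hwp, cj_of_cent hwr]
  refine h.sb_mk' har hadj ?_ hL hrL haL fun e => ?_
  · rw [← hblk]
    exact cj_le_cj.2 (h.le_bk har)
  · obtain ⟨α, hα, hα1⟩ := h.pt_ne_bot har.left
    have h2 : w * α * w⁻¹ * α⁻¹ ∈ p := h.UU_ws h.typ hpr (le_UU hcp hwc) (h.adj_le_ws' har hα)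
    have h3 : w * α * w⁻¹ * α⁻¹ ∈ L := mul_mem (e (conj_mem_cj hα)) (inv_mem (haL hα))
    have h4 := h.line_inf hpr.left hL (fun e' => (NT.sb_sy hp.pa).ne L hL hrL haL e') h2 h3
    exact hα1 (hp.mv α hα (Mid.comm_eq h4))

theorem pow_le_of_path {c p r a : Subgroup G} {w : G} (hp : Path V Z Blk c p r a w) :
    Nat.card Z ^ (m + 1) ≤ Nat.card Z ^ 4 := by
  have hcp := hp.cr.l
  have hpr := hp.cr.r.symm
  have har := hp.pa.r
  have hs := h.path_sb h1 hp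
  have hwc := h.bk_le hcp.symm hp.hw
  obtain ⟨M, hM, hcM, hpM⟩ := hcp.line
  obtain ⟨γ, hγ, hγ1⟩ := h.pt_ne_bot hcp.left
  have hγp := h.adj_le_ws' hcp hγ
  have hwr : ∀ x ∈ r, w * x = x * w := fun x hx =>
    (mem_centralizer_iff.1 (h.ws_le_cent hcp hpr hwc) x hx).symm
  -- first
  have h2 : Nat.card (bk Blk a r) ≤ Nat.card r * Nat.card (bk Blk a r ⊓ centralizer ({γ} : Set G) : Subgroup G) := by
    refine card_le_mul (fun y => y * γ * y⁻¹ * γ⁻¹) (fun y hy => ?_) fun y hy y' hy' e => ?_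
    · exact h.mid_mem h.typ har hpr.symm (h.bk_le har.symm hy) hγp
    · exact mem_cs.2 (comm_inj e)
  -- second
  set Y := bk Blk a r ⊓ centralizer ({γ} : Set G) with hY
  have h3 : Nat.card Y ≤ Nat.card M * Nat.card (Y ⊓ centralizer ({w} : Set G) : Subgroup G) := by
    refine card_le_mul (fun y => y * w * y⁻¹ * w⁻¹) (fun y hy => ?_) fun y hy y' hy' e => ?_
    · have hya := h.bk_le har.symm hy.1
      have hyp' : ∀ x ∈ p, y * x = x * y := fun x hx =>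
        (mem_centralizer_iff.1 (h.ws_le_cent har hpr.symm hya) x hx).symm
      have hyp : cj y p = p := cj_of_cent hyp'
      have hyc : cj y c = c := cj_of_cent (h.t3 hcp.symm (h.two_ws har.left hya) hyp' hγ hγ1 (mem_cs.1 hy.2))
      have hblk : cj y (bk Blk c p) = bk Blk c p := by
        rw [← h.bk_cj hcp.symm, hyc, hyp]
      refine h.bk_UU h1 hp.cr hM hcM hpM ?_ ?_
      · refine mul_mem ?_ (inv_mem hp.hw)
        rw [← hblk]
        exact conj_mem_cj hp.hw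
      · have h4 := (mem_normalizer_iff.1 (h.ws_norm_UU hcp hpr hwc) y⁻¹).1 (inv_mem (le_UU har hya))
        have e : y * w * y⁻¹ * w⁻¹ = y * (w * y⁻¹ * w⁻¹) := by group
        rw [e]
        exact mul_mem (le_UU har hya) h4
    · exact mem_cs.2 (comm_inj e)
  have h4 : Nat.card (Y ⊓ centralizer ({w} : Set G) : Subgroup G) ≤ Nat.card r := by
    refine Subgroup.card_le_of_le ?_
    rintro y ⟨⟨hy, -⟩, hyw⟩
    refine h.inf_bk (h.cr_of_sb h1 hs) hy ?_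
    have e : bk Blk (cj w a) r = cj w (bk Blk a r) := by
      rw [← h.bk_cj har.symm, cj_of_cent hwr]
    rw [e, mem_cj, mul_assoc, mem_cs.1 hyw, inv_mul_cancel_left]
    exact hy
  rw [h.card_pt hpr.right] at h2 h4
  rw [h.card_ln hM] at h3
  rw [← h.card_bk har.symm]
  calc Nat.card (bk Blk a r) ≤ Nat.card Z * Nat.card Y := h2
    _ ≤ Nat.card Z * (Nat.card Z * Nat.card Z * Nat.card Z) :=
      Nat.mul_le_mul_left _ (h3.trans (Nat.mul_le_mul_left _ h4))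
    _ = Nat.card Z ^ 4 := by ring

/-- there are pairs in one block on different lines -/
theorem exists_sb0 : ∃ R A B, Sb V Z Blk R A B := by
  obtain ⟨L, hL, hZL⟩ := h.exists_line h.pl.isCj_self
  obtain ⟨Y, hY, hYL, hYZ⟩ := h.exists_second h.pl.isCj_self hL hZL
  have hA : Adj V Z Y Z := ⟨hY, h.pl.isCj_self, hYZ, L, hL, hYL, hZL⟩
  obtain ⟨B, hB⟩ := h.exists_sb hA
  exact ⟨_, _, _, hB⟩

/-- **(5.2)** -/
theorem m_eq : m = 3 := by
  obtain ⟨r, p, a, hs⟩ := h.exists_sb0 h1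
  obtain ⟨c, w, hp⟩ := h.exists_path h1 hs
  have h2 := (Nat.pow_le_pow_iff_right (h.two_le)).1 (h.pow_le_of_path h1 hp)
  have h3 := h.slb.three
  omega

/-- (5.3) on a path -/
theorem big' {c p r a : Subgroup G} {w : G} (hp : Path V Z Blk c p r a w) :
    ¬ Nat.card (ws V a) ≤ Nat.card Z * Nat.card (cnz (ws V a) (ws V (cj w a))) := by
  intro hle
  have hcp := hp.cr.l
  have hpr := hp.cr.r.symm
  have har := hp.pa.r
  have hs := h.path_sb h1 hp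
  have hcr := h.cr_of_sb h1 hs
  have hwc := h.bk_le hcp.symm hp.hw
  have hwU := le_UU hcp hwc
  have hw2 : w⁻¹ = w := h.ws_inv hcp.left hwc
  have hws : ws V (cj w a) = cj w (ws V a) := ws_cj V a w
  -- dihedral
  have key : ∀ y ∈ ws V a, y * (w * y * w⁻¹) = w * y * w⁻¹ * y := by
    intro y hy
    have hy2 : y⁻¹ = y := h.ws_inv har.left hy
    have hy' : w * y * w⁻¹ ∈ ws V (cj w a) := by rw [hws]; exact conj_mem_cj hy
    have hy3 : (w * y * w⁻¹)⁻¹ = w * y * w⁻¹ := h.ws_inv hs.r.left hy'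
    have h2 : y * (w * y * w⁻¹) ∈ UU V Z p := by
      have h3 := (mem_normalizer_iff.1 (h.ws_norm_UU har hpr.symm hy) w).1 hwU
      have e : y * (w * y * w⁻¹) = y * w * y⁻¹ * w⁻¹ := by rw [hy2]; group
      rw [e]
      exact mul_mem h3 (inv_mem hwU)
    have h3 := h.UU_sq h.typ hpr.left h2
    have h4 := h.mid_mem h.typ har hs.r.symm hy hy'
    have e : y * (w * y * w⁻¹) * y⁻¹ * (w * y * w⁻¹)⁻¹ = y * (w * y * w⁻¹) * (y * (w * y * w⁻¹)) := by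
      rw [hy3, hy2]; group
    have h5 := h.pt_inf hpr.left hpr.right hpr.ne h3 (e ▸ h4)
    rw [← e] at h5
    exact Mid.comm_eq h5
  -- a point `E ~ a` not centralised by `W_b`
  obtain ⟨β, hβ, v, hv, hβv⟩ := h.exists_bk hcr
  have hvb := h.bk_le hs.r.symm hv
  have hβa : β ∉ a := by
    intro e
    exact hβv (mem_centralizer_iff.1 (h.ws_le_cent hs.r har.symm hvb) β e)
  obtain ⟨E, hE, hEa, hβE⟩ := h.exists_pt har.symm hβ hβa
  have hE1 : ∀ x ∈ E, (∀ y ∈ ws V (cj w a), x * y = y * x) → x = 1 := by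
    intro x hx hxW
    by_contra hx1
    exact hβv (h.t3 hE.symm (h.two_ws hs.r.left hvb)
      (fun y hy => (mem_centralizer_iff.1 (h.ws_le_cent hs.r har.symm hvb) y hy).symm) hx hx1 (hxW v hvb).symm β
      hβE).symm
  have hsplit := mul_of_card (A := E) (B := cnz (ws V a) (ws V (cj w a))) (K := ws V a)
    (h.adj_le_ws' hE) inf_le_left (fun x hx hx' => hE1 x hx (mem_cnz.1 hx').2) (by rwa [h.card_pt hE.left])
  -- the contradiction
  have hβa' : β ∈ ws V a := h.bk_le har.symm hβ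
  set v' := w * β * w⁻¹ with hv'
  have hv'b : v' ∈ ws V (cj w a) := by rw [hws]; exact conj_mem_cj hβa'
  have hcomm := key β hβa'
  have h2 : ∀ y ∈ ws V a, v' * y = y * v' := by
    obtain ⟨ε, hε, d, hd, e⟩ := hsplit β hβa'
    have hdv := (mem_cnz.1 hd).2 v' hv'b
    have hε1 : ε ≠ 1 := by
      rintro rfl
      rw [one_mul] at e
      exact hβv (by rw [e]; exact (mem_cnz.1 hd).2 v hvb)
    have h3 : v' * ε = ε * v' := by
      have h4 : ε * d * v' = v' * (ε * d) := by rw [← e]; exact hcomm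
      have h5 : ε * v' * d = v' * ε * d := by
        calc ε * v' * d = ε * (v' * d) := by group
          _ = ε * d * v' := by rw [← hdv]; group
          _ = v' * (ε * d) := h4
          _ = v' * ε * d := by group
      exact (mul_right_cancel h5).symm
    have h4 := h.t3 hE.symm (h.two_ws hs.r.left hv'b)
      (fun y hy => (mem_centralizer_iff.1 (h.ws_le_cent hs.r har.symm hv'b) y hy).symm) hε hε1 h3
    intro y hy
    obtain ⟨x, hx, d', hd', rfl⟩ := hsplit y hy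
    calc v' * (x * d') = (v' * x) * d' := by group
      _ = x * (v' * d') := by rw [h4 x hx]; group
      _ = x * d' * v' := by rw [← (mem_cnz.1 hd').2 v' hv'b]; group
  apply hβv
  have h3 : w⁻¹ * v * w ∈ ws V a := by rwa [hws, mem_cj] at hvb
  have h4 := h2 _ (by
    have : w⁻¹ * v * w = w⁻¹ * v * w := rfl
    exact h3)
  -- `v' = w β w⁻¹`, `w⁻¹ = w`
  have h5 : cj w (ws V (cj w a)) = ws V a := by
    rw [hws, cj_cj]
    have : w * w = 1 := by rw [← hw2, hw2]; exact h.ws_sq hcp.left hwc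
    rw [this, cj_one]
  have h6 : w * v * w⁻¹ ∈ ws V a := by rw [← h5]; exact conj_mem_cj hvb
  have h7 := h2 _ h6
  have h8 : w⁻¹ * (v' * (w * v * w⁻¹)) * w = w⁻¹ * (w * v * w⁻¹ * v') * w := by rw [h7]
  have e1 : w⁻¹ * (v' * (w * v * w⁻¹)) * w = β * v := by rw [hv']; group
  have e2 : w⁻¹ * (w * v * w⁻¹ * v') * w = v * β := by rw [hv']; group
  rw [← e1, ← e2, h8]

/-- **(5.3)** -/
theorem big {r a b : Subgroup G} (hs : Sb V Z Blk r a b) :
    ¬ Nat.card (ws V a) ≤ Nat.card Z * Nat.card (cnz (ws V a) (ws V b)) := by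
  obtain ⟨c, w, hp⟩ := h.exists_path h1 (NT.sb_sy hs)
  obtain ⟨g, -, hg1, hg2⟩ := h.sb_move (h.path_sb h1 hp) hs
  have h2 := h.big' h1 hp
  rwa [← card_cj g (cnz _ _), ← cnz_cj, ← ws_cj, ← ws_cj, hg1, hg2, ← card_cj g (ws V a), ← ws_cj, hg1] at h2

/-- **(5.3)**: `C_{B_a(r)}(W_b)` is the line `ar` -/
theorem cent_ln {r a b : Subgroup G} (hs : Sb V Z Blk r a b) (hL : IsCj V L) (hrL : r ≤ L) (haL : a ≤ L) {x : G}
    (hx : x ∈ bk Blk a r) (hxb : ∀ y ∈ ws V b, x * y = y * x) : x ∈ L := by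
  by_contra hxL
  have har := hs.l
  obtain ⟨E, hE, hEa, hxE⟩ := h.exists_pt har.symm hx (fun e => hxL (haL e))
  have hx1 : x ≠ 1 := fun e => hxL (e ▸ one_mem _)
  have hEC : ∀ y ∈ E, y ∈ cnz (ws V a) (ws V b) := by
    intro y hy
    refine mem_cnz.2 ⟨h.adj_le_ws' hE hy, fun v hv => ?_⟩
    exact (h.t3 hE.symm (h.two_ws hs.r.left hv)
      (fun y hy => (mem_centralizer_iff.1 (h.ws_le_cent hs.r har.symm hv) y hy).symm) hxE hx1 (hxb v hv).symm y hy).symm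
  have hLC : ∀ y ∈ L, y ∈ cnz (ws V a) (ws V b) := by
    intro y hy
    obtain ⟨u, hu, v, hv, rfl⟩ := h.line_eq har.right har.left har.ne.symm hL hrL haL hy
    refine mul_mem (mem_cnz.2 ⟨h.adj_le_ws har hu, fun z hz => ?_⟩) (mem_cnz.2 ⟨h.pt_le_ws har.left hv, fun z hz => ?_⟩)
    · exact mem_centralizer_iff.1 (h.ws_le_cent' hs.r hz) u hu
    · exact mem_centralizer_iff.1 (h.ws_le_cent hs.r har.symm hz) v hv
  have h2 : Nat.card E * Nat.card L ≤ Nat.card (bk Blk a r ⊓ cnz (ws V a) (ws V b) : Subgroup G) := by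
    refine card_mul_le (fun y hy => ⟨hEa hy, hEC y hy⟩)
      (fun y hy => ⟨h.line_le_bk har.symm hL haL hrL hy, hLC y hy⟩) fun y hy hyL => ?_
    exact h.line_inf hE.left hL (fun e => hxL (e hxE)) hy hyL
  have h3 := card_dec (H := ws V a) (B := bk Blk a r) (C := cnz (ws V a) (ws V b)) fun y hy => by
    obtain ⟨β, hβ, d, hd, rfl, h4⟩ := h.dec har.symm hy
    exact ⟨β, hβ, d, mem_cnz.2 ⟨hd, fun z hz => (h4 r har.symm (h.le_bk har.symm) z (le_UU hs.r hz)).symm⟩, rfl⟩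
  apply h.big h1 hs
  rw [h.card_bk har.symm, h.m_eq h1] at h3
  rw [h.card_pt hE.left, h.card_ln hL] at h2
  set s := Nat.card Z with hs'
  set k := Nat.card (bk Blk a r ⊓ cnz (ws V a) (ws V b) : Subgroup G) with hk
  have hs0 : 0 < s := Nat.card_pos
  have hk0 : 0 < k := Nat.card_pos
  have h4 : s ^ (3 + 1) ≤ s * k := by
    calc s ^ (3 + 1) = s * (s * (s * s)) := by ring
      _ ≤ s * k := Nat.mul_le_mul_left _ h2
  refine Nat.le_of_mul_le_mul_right (c := k) ?_ hk0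
  calc Nat.card (ws V a) * k ≤ s ^ (3 + 1) * Nat.card (cnz (ws V a) (ws V b)) := h3
    _ ≤ s * k * Nat.card (cnz (ws V a) (ws V b)) := Nat.mul_le_mul_right _ h4
    _ = s * Nat.card (cnz (ws V a) (ws V b)) * k := by ring

/-- **(6.1)** -/
theorem exists_w0 {c p r a : Subgroup G} {w : G} (hp : Path V Z Blk c p r a w) :
    ∃ g ∈ UU V Z p, (∀ x ∈ a, g * x = x * g) ∧ ∃ v ∈ ws V r, g * v ≠ v * g := by
  by_contra hcon
  push Not at hcon
  have hcp := hp.cr.l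
  have hpr := hp.cr.r.symm
  have har := hp.pa.r
  obtain ⟨α, hα, hα1⟩ := h.pt_ne_bot har.left
  have h2 : Nat.card (ws V c) ≤ Nat.card p * Nat.card (ws V c ⊓ centralizer ({α} : Set G) : Subgroup G) := by
    refine card_le_mul (fun y => y * α * y⁻¹ * α⁻¹) (fun y hy => ?_) fun y hy y' hy' e => ?_
    · exact h.mid_mem h.typ hcp hpr hy (h.adj_le_ws' har hα)
    · exact mem_cs.2 (comm_inj e)
  apply h.big h1 hp.cr
  refine h2.trans ?_
  rw [h.card_pt hpr.left]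
  refine Nat.mul_le_mul_left _ (Subgroup.card_le_of_le ?_)
  rintro y ⟨hy, hyα⟩
  refine mem_cnz.2 ⟨hy, hcon y (le_UU hcp hy) (h.t3 har.symm (h.two_ws hcp.left hy)
    (fun x hx => (mem_centralizer_iff.1 (h.ws_le_cent hcp hpr hy) x hx).symm) hα hα1 (mem_cs.1 hyα))⟩

/-- **(6.2)** -/
theorem w0_line {r p a : Subgroup G} (hs : Sb V Z Blk r p a) (hL : IsCj V L) (hrL : r ≤ L) (haL : a ≤ L) {g : G}
    (hg : g ∈ UU V Z p) (hga : ∀ x ∈ a, g * x = x * g) {y : G} (hy : y ∈ bk Blk a r) :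
    y * g * y⁻¹ * g⁻¹ ∈ L := by
  obtain ⟨c, w, hp⟩ := h.exists_path h1 hs
  have hcp := hp.cr.l
  have hpr := hp.cr.r.symm
  have har := hp.pa.r
  have hwU := le_UU hcp (h.bk_le hcp.symm hp.hw)
  have hgr : ∀ x ∈ r, g * x = x * g := fun x hx =>
    (mem_centralizer_iff.1 (h.UU_le_cent_adj hpr.symm hg) x hx).symm
  have hblk : cj g (bk Blk a r) = bk Blk a r := by
    rw [← h.bk_cj har.symm, cj_of_cent hga, cj_of_cent hgr]
  have hya := h.bk_le har.symm hy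
  set f := y * g * y⁻¹ * g⁻¹ with hf
  have hf1 : f ∈ bk Blk a r := by
    have e : f = y * (g * y⁻¹ * g⁻¹) := by rw [hf]; group
    rw [e]
    refine mul_mem hy ?_
    rw [← hblk]
    exact conj_mem_cj (inv_mem hy)
  have hf2 : f ∈ UU V Z p :=
    mul_mem ((mem_normalizer_iff.1 (h.ws_norm_UU har hpr.symm hya) g).1 hg) (inv_mem hg)
  have hf3 := h.UU_comm h.typ hpr.left hf2 hwU
  have hs2 := h.path_sb h1 hp
  refine h.cent_ln h1 hs2 hL hrL haL hf1 fun v hv => ?_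
  have e : f = f * w * f⁻¹ * w⁻¹ * (w * f * w⁻¹) := by group
  have h3 : f * w * f⁻¹ * w⁻¹ * v = v * (f * w * f⁻¹ * w⁻¹) :=
    mem_centralizer_iff.1 (h.ws_le_cent hs2.r hpr.symm hv) _ hf3
  have h4 : w * f * w⁻¹ * v = v * (w * f * w⁻¹) := by
    refine h.ws_comm hs2.r.left ?_ hv
    rw [ws_cj]
    exact conj_mem_cj (h.bk_le har.symm hf1)
  rw [e]
  calc f * w * f⁻¹ * w⁻¹ * (w * f * w⁻¹) * v = f * w * f⁻¹ * w⁻¹ * (w * f * w⁻¹ * v) := by group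
    _ = f * w * f⁻¹ * w⁻¹ * v * (w * f * w⁻¹) := by rw [h4]; group
    _ = v * (f * w * f⁻¹ * w⁻¹ * (w * f * w⁻¹)) := by rw [h3]; group

end NT

end Cfsg.Agent.Omega.NO3S.MidB

end

section


/-!
# NO-3S, natural lines, the `(R, B)`-frame, TYPE N, blocks `SL_m`, `m ≥ 3`: section (A1), end (TEXT 426-2, THEOREM N2, (6.3), (6.4))

* `NT.card_cg` : `|C_{B_z(a)}(g)| = s³` for `g ∈ U_p ∩ C(a) - C(W_z)`;
* `NT.exists_del` : (6.3) for a flag `(z, L)` an element `δ` which centralises `L` and the blocks `B_x(L)`, `x ≠ z` on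
  `L`, and acts nontrivially on `B_z(L) / L`;
* `NT.not_AOne` : (6.4).
-/

set_option autoImplicit false
set_option linter.unusedSectionVars false

namespace Cfsg.Agent.Omega.NO3S.MidB

open Subgroup Cfsg.Agent.Omega.NO3S.PT Cfsg.Agent.Omega.NoFF.Basic Cfsg.Agent.ZN
open Cfsg.Agent.Omega.NO3S.MidQ (Adj Com Cr UU ws_of kx_of isCj_iff adj_iff com_iff cr_iff UU_of isCj_symm isCj_trans
  com_cj UU_cj le_UU normalizer_le_UU isPGroup_sSup FlagCan PtCan ff mem_ff ff_cj TypN Sb SLB bk AOne ATwo Path NN cnz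
  mem_cnz cnz_cj mem_cs cg mem_cg comm_act card_le_mul surj_of_inj card_mul_le mul_of_card card_dec comm_inj cj_of_cent
  card_mul_le')
open scoped Pointwise

variable {G : Type*} [Group G] {V Z X Y L : Subgroup G} {Blk : Subgroup G → Set (Subgroup G)} {m : ℕ}

namespace NT

variable [Finite G] {S : Sylow 2 G} {P : Subgroup G} (h : NT S P V Z Blk m) (h1 : AOne V Z Blk)
include h h1

theorem pt_dich {p z : Subgroup G} (hpz : Adj V Z p z) {g : G} (hg : TwoEl g) (hgz : ∀ y ∈ z, g * y = y * g) {x : G}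
    (hx : x ∈ p) (hxg : x * g ≠ g * x) : ∀ y ∈ p, y * g = g * y → y = 1 := by
  intro y hy e
  by_contra hy1
  exact hxg (h.t3 hpz.symm hg hgz hy hy1 e.symm x hx).symm

/-- `|C_{B_z(a)}(g)| = s³` -/
theorem card_cg {z p a : Subgroup G} (hs : Sb V Z Blk z p a) (hL : IsCj V L) (hzL : z ≤ L) (haL : a ≤ L) {g : G}
    (hg : g ∈ UU V Z p) (hga : ∀ x ∈ a, g * x = x * g) (hgW : ∃ v ∈ ws V z, g * v ≠ v * g) :
    Nat.card (cg (bk Blk z a) g) = Nat.card Z ^ 3 ∧ L ≤ cg (bk Blk z a) g ∧ p ≤ cg (bk Blk z a) g := by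
  have hpz := hs.l
  have haz := hs.r
  have hgz : ∀ x ∈ z, g * x = x * g := fun x hx =>
    (mem_centralizer_iff.1 (h.UU_le_cent_adj hpz.symm hg) x hx).symm
  have hgp : ∀ x ∈ p, g * x = x * g := fun x hx =>
    (mem_centralizer_iff.1 (h.UU_le_cent_pt hpz.left hg) x hx).symm
  have hLC : L ≤ cg (bk Blk z a) g := by
    intro y hy
    refine mem_cg.2 ⟨h.line_le_bk haz hL hzL haL hy, ?_⟩
    obtain ⟨u, hu, v, hv, rfl⟩ := h.line_eq haz.right haz.left haz.ne.symm hL hzL haL hy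
    calc u * v * g = u * (g * v) := by rw [hga v hv]; group
      _ = g * (u * v) := by rw [← mul_assoc, ← hgz u hu]; group
  have hpC : p ≤ cg (bk Blk z a) g := fun y hy => mem_cg.2 ⟨h.sb_le (NT.sb_sy hs) hy, (hgp y hy).symm⟩
  refine ⟨?_, hLC, hpC⟩
  -- lower bound
  have h2 : Nat.card p * Nat.card L ≤ Nat.card (cg (bk Blk z a) g) :=
    card_mul_le hpC hLC fun y hy hyL =>
      h.line_inf hpz.left hL ((NT.sb_sy hs).ne L hL hzL haL) hy hyL
  -- a point meeting `C` trivially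
  obtain ⟨v, hv, hgv⟩ := hgW
  obtain ⟨β, hβ, d, hd, rfl, hd'⟩ := h.dec haz hv
  have hgd := hd' p hpz (h.sb_le (NT.sb_sy hs)) g hg
  have hgβ : β * g ≠ g * β := by
    intro e
    apply hgv
    calc g * (β * d) = (g * β) * d := by group
      _ = β * (g * d) := by rw [← e]; group
      _ = β * d * g := by rw [hgd]; group
  obtain ⟨E, hE, hEz, hβE⟩ := h.exists_pt haz hβ (fun e => hgβ (hgz β e).symm)
  have h3 : Nat.card E * Nat.card (cg (bk Blk z a) g) ≤ Nat.card (bk Blk z a) :=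
    card_mul_le hEz inf_le_left fun y hy hyC => h.pt_dich h1 hE (h.two_UU hg) hgz hβE hgβ y hy (mem_cg.1 hyC).2
  rw [h.card_bk haz, h.m_eq h1, h.card_pt hE.left] at h3
  rw [h.card_pt hpz.left, h.card_ln hL] at h2
  have hs0 : 0 < Nat.card Z := Nat.card_pos
  refine le_antisymm (Nat.le_of_mul_le_mul_left (c := Nat.card Z) ?_ hs0) ?_
  · calc _ ≤ Nat.card Z ^ (3 + 1) := h3
      _ = Nat.card Z * Nat.card Z ^ 3 := by ring
  · calc Nat.card Z ^ 3 = Nat.card Z * (Nat.card Z * Nat.card Z) := by ring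
      _ ≤ _ := h2

/-- **(6.3)** -/
theorem exists_del {z a : Subgroup G} (haz : Adj V Z a z) (hL : IsCj V L) (hzL : z ≤ L) (haL : a ≤ L) :
    ∃ δ : G, (∀ y ∈ L, δ * y = y * δ) ∧ (∀ x, IsCj Z x → x ≤ L → x ≠ z → ∀ y ∈ bk Blk x z, δ * y = y * δ) ∧
      ∃ y ∈ bk Blk z a, δ * y * δ⁻¹ * y⁻¹ ∉ L := by
  -- the first element
  obtain ⟨p1, hp1⟩ := h.exists_sb haz
  have hs1 := NT.sb_sy hp1
  obtain ⟨c1, w1, hq1⟩ := h.exists_path h1 hs1
  obtain ⟨g1, hg1, hg1a, hg1W⟩ := h.exists_w0 h1 hq1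
  obtain ⟨hC1, hC1L, hC1p⟩ := h.card_cg h1 hs1 hL hzL haL hg1 hg1a hg1W
  -- the second
  have h2 : ∃ x ∈ bk Blk z a, x ∉ cg (bk Blk z a) g1 := by
    by_contra hcon
    push Not at hcon
    have h3 : Nat.card (bk Blk z a) ≤ Nat.card (cg (bk Blk z a) g1) := Subgroup.card_le_of_le hcon
    rw [hC1, h.card_bk haz, h.m_eq h1] at h3
    have h4 := (Nat.pow_le_pow_iff_right (h.two_le)).1 h3
    omega
  obtain ⟨x, hx, hxC⟩ := h2
  obtain ⟨p2, hp2z, hp2, hxp⟩ := h.exists_pt haz hx (fun e => hxC (hC1L (hzL e)))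
  have hs2 : Sb V Z Blk z p2 a :=
    NT.sb_sy (h.sb_mk' haz hp2z hp2 hL hzL haL fun e => hxC (hC1L (e hxp)))
  obtain ⟨c2, w2, hq2⟩ := h.exists_path h1 hs2
  obtain ⟨g2, hg2, hg2a, hg2W⟩ := h.exists_w0 h1 hq2
  obtain ⟨hC2, hC2L, hC2p⟩ := h.card_cg h1 hs2 hL hzL haL hg2 hg2a hg2W
  have hd2 : ∀ y ∈ p2, y * g1 = g1 * y → y = 1 :=
    h.pt_dich h1 hp2z (h.two_UU hg1) (fun y hy => (mem_centralizer_iff.1 (h.UU_le_cent_adj hs1.l.symm hg1) y hy).symm) hxp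
      fun e => hxC (mem_cg.2 ⟨hx, e⟩)
  have hp1L : ¬ p1 ≤ L := fun e => hp1.ne L hL hzL haL e
  have hp1C : ¬ p1 ≤ cg (bk Blk z a) g2 := by
    intro e
    have h3 := mul_of_card (A := L) (B := p1) (K := cg (bk Blk z a) g2) hC2L e
      (fun y hy hy' => h.line_inf hs1.l.left hL hp1L hy' hy)
      (by rw [hC2, h.card_ln hL, h.card_pt hs1.l.left]; exact le_of_eq (by ring))
    obtain ⟨l, hl, q, hq, e'⟩ := h3 x (hC2p hxp)
    apply hxC
    rw [e']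
    exact mul_mem (hC1L hl) (hC1p hq)
  obtain ⟨π, hπ, hπC⟩ := SetLike.not_le_iff_exists.1 hp1C
  have hπz : π ∈ ws V z := h.adj_le_ws' hs1.l hπ
  have hπg2 : π * g2 ≠ g2 * π := fun e => hπC (mem_cg.2 ⟨h.sb_le hp1 hπ, e⟩)
  -- the centralisers
  have hLg1 : ∀ y ∈ L, g1 * y = y * g1 := fun y hy => (mem_cg.1 (hC1L hy)).2.symm
  have hLg2 : ∀ y ∈ L, g2 * y = y * g2 := fun y hy => (mem_cg.1 (hC2L hy)).2.symm
  have hact : ∀ {p : Subgroup G} {g : G}, Sb V Z Blk z p a → g ∈ UU V Z p → (∀ y ∈ L, g * y = y * g) →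
      ∀ x, IsCj Z x → x ≤ L → x ≠ z → ∀ y ∈ bk Blk x z, ∃ k ∈ L, g * y * g⁻¹ = k * y := by
    intro p g hs hg hgL x hxZ hxL hxz y hy
    have hxz' : Adj V Z x z := ⟨hxZ, haz.right, hxz, L, hL, hxL, hzL⟩
    have hs' : Sb V Z Blk z p x := by
      refine NT.sb_sy (h.sb_mk' hxz' hs.l ?_ hL hzL hxL ((NT.sb_sy hs).ne L hL hzL haL))
      rw [h.bk_line haz hxz' hL hzL haL hxL]
      exact h.sb_le (NT.sb_sy hs)
    have h3 := h.w0_line h1 hs' hL hzL hxL hg (fun y hy => hgL y (hxL hy)) hy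
    refine ⟨(y * g * y⁻¹ * g⁻¹)⁻¹, inv_mem h3, ?_⟩
    group
  have hδ1 : ∀ y ∈ L, g1 * g2 * g1⁻¹ * g2⁻¹ * y = y * (g1 * g2 * g1⁻¹ * g2⁻¹) := by
    intro y hy
    have c1 : Commute y g1 := (hLg1 y hy).symm
    have c2 : Commute y g2 := (hLg2 y hy).symm
    exact (((c1.mul_right c2).mul_right c1.inv_right).mul_right c2.inv_right).symm
  refine ⟨g1 * g2 * g1⁻¹ * g2⁻¹, hδ1, fun x hxZ hxL hxz y hy => ?_, ?_⟩
  · have hxz' : Adj V Z x z := ⟨hxZ, haz.right, hxz, L, hL, hxL, hzL⟩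
    have hblk : ∀ {g : G}, (∀ y ∈ L, g * y = y * g) → cj g⁻¹ (bk Blk x z) = bk Blk x z := by
      intro g hgL
      have h3 : ∀ y ∈ L, g⁻¹ * y = y * g⁻¹ := fun y hy => (Commute.inv_left (hgL y hy : Commute g y) : _)
      rw [← h.bk_cj hxz'.symm, cj_of_cent fun y hy => h3 y (hxL hy), cj_of_cent fun y hy => h3 y (hzL hy)]
    -- `y0 = (g2 g1)⁻¹ y (g2 g1)`
    have hy1 : g2⁻¹ * y * g2⁻¹⁻¹ ∈ bk Blk x z := by
      rw [← hblk hLg2]; exact conj_mem_cj hy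
    have hy0 : g1⁻¹ * (g2⁻¹ * y * g2⁻¹⁻¹) * g1⁻¹⁻¹ ∈ bk Blk x z := by
      rw [← hblk hLg1]; exact conj_mem_cj hy1
    obtain ⟨k, hk, ek⟩ := hact hs1 hg1 hLg1 x hxZ hxL hxz _ hy0
    obtain ⟨k', hk', ek'⟩ := hact hs2 hg2 hLg2 x hxZ hxL hxz _ hy0
    have h3 := comm_act ek ek' (hLg1 k' hk') (hLg2 k hk)
      (h.ws_comm haz.right (le_ws hL hzL hk) (le_ws hL hzL hk'))
    have e1 : g2 * g1 * (g1⁻¹ * (g2⁻¹ * y * g2⁻¹⁻¹) * g1⁻¹⁻¹) * (g2 * g1)⁻¹ = y := by group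
    have e2 : g1 * g2 * (g1⁻¹ * (g2⁻¹ * y * g2⁻¹⁻¹) * g1⁻¹⁻¹) * (g1 * g2)⁻¹ =
      g1 * g2 * g1⁻¹ * g2⁻¹ * y * (g1 * g2 * g1⁻¹ * g2⁻¹)⁻¹ := by group
    rw [e1, e2] at h3
    rwa [mul_inv_eq_iff_eq_mul] at h3
  · -- nontrivial
    have hκ : g2 * π * g2⁻¹ * π⁻¹ ∈ p2 := h.UU_ws h.typ hs2.l hg2 hπz
    have hκ1 : g2 * π * g2⁻¹ * π⁻¹ ≠ 1 := fun e => hπg2 (Mid.comm_eq e).symm
    set κ := g2 * π * g2⁻¹ * π⁻¹ with hκ'
    have hlam : g1 * κ * g1⁻¹ * κ⁻¹ ∈ p1 := h.UU_ws h.typ hs1.l hg1 (h.adj_le_ws' hs2.l hκ)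
    have hlam1 : g1 * κ * g1⁻¹ * κ⁻¹ ≠ 1 := fun e => hκ1 (hd2 κ hκ (Mid.comm_eq e).symm)
    have hg1π : g1 * π * g1⁻¹ = π := by
      have h3 : g1 * π = π * g1 := (mem_centralizer_iff.1 (h.UU_le_cent_pt hs1.l.left hg1) π hπ).symm
      rw [h3, mul_inv_cancel_right]
    have hy : g2 * π * g2⁻¹ ∈ bk Blk z a := by
      have e : g2 * π * g2⁻¹ = κ * π := by rw [hκ']; group
      rw [e]
      exact mul_mem (hp2 hκ) (h.sb_le hp1 hπ)
    refine ⟨g2 * π * g2⁻¹, hy, fun e => ?_⟩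
    have e1 : g1 * g2 * g1⁻¹ * g2⁻¹ * (g2 * π * g2⁻¹) * (g1 * g2 * g1⁻¹ * g2⁻¹)⁻¹ * (g2 * π * g2⁻¹)⁻¹ =
      g1 * κ * g1⁻¹ * κ⁻¹ := by
      have e2 : g1 * g2 * g1⁻¹ * g2⁻¹ * (g2 * π * g2⁻¹) * (g1 * g2 * g1⁻¹ * g2⁻¹)⁻¹ =
        g1 * (g2 * (g1⁻¹ * π * g1) * g2⁻¹) * g1⁻¹ := by group
      have e3 : g1⁻¹ * π * g1 = π := by
        nth_rewrite 1 [← hg1π]
        group
      rw [e2, e3]
      have e4 : g2 * π * g2⁻¹ = κ * π := by rw [hκ']; group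
      rw [e4]
      calc g1 * (κ * π) * g1⁻¹ * (κ * π)⁻¹ = g1 * κ * g1⁻¹ * (g1 * π * g1⁻¹) * π⁻¹ * κ⁻¹ := by group
        _ = g1 * κ * g1⁻¹ * κ⁻¹ := by rw [hg1π]; group
    rw [e1] at e
    exact hlam1 (h.line_inf hs1.l.left hL hp1L hlam e)

/-- **(6.4)** -/
theorem not_AOne : False := by
  obtain ⟨L, hL, hZL⟩ := h.exists_line h.pl.isCj_self
  have hz := h.pl.isCj_self
  obtain ⟨y, hy, hyL, hyz⟩ := h.exists_second hz hL hZL
  obtain ⟨x, hx, hxL, hxz, hxy⟩ := h.exists_third hz hy hL hZL hyL hyz.symm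
  have hyz' : Adj V Z y Z := ⟨hy, hz, hyz, L, hL, hyL, hZL⟩
  have hxy' : Adj V Z x y := ⟨hx, hy, hxy, L, hL, hxL, hyL⟩
  obtain ⟨δ, hδL, hδ, v0, hv0, hv0L⟩ := h.exists_del h1 hyz' hL hZL hyL
  obtain ⟨b, hb⟩ := h.exists_sb hyz'.symm
  have hbL : ¬ b ≤ L := hb.ne L hL hyL hZL
  have hxz' : Adj V Z x Z := ⟨hx, hz, hxz, L, hL, hxL, hZL⟩
  -- `b`, `x` at `y`
  have hbx : Sb V Z Blk y b x := by
    refine NT.sb_sy (h.sb_mk' hxy' hb.r ?_ hL hyL hxL hbL)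
    rw [h.bk_line hyz'.symm hxy' hL hyL hZL hxL]
    exact h.sb_le hb
  have hby := hb.r
  obtain ⟨M, hM, hbM, hyM⟩ := hby.line
  have hδby : ∀ u ∈ bk Blk y Z, δ * u = u * δ := hδ y hy hyL hyz
  have hδb : ∀ u ∈ b, δ * u = u * δ := fun u hu => hδby u (h.sb_le hb hu)
  have hδy : ∀ u ∈ y, δ * u = u * δ := fun u hu => hδL u (hyL hu)
  have hδx : ∀ u ∈ bk Blk x y, δ * u = u * δ := by
    intro u hu
    refine hδ x hx hxL hxz u ?_
    rwa [h.bk_line hxy'.symm hxz'.symm hL hxL hyL hZL]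
  have hblkb : cj δ (bk Blk b y) = bk Blk b y := by
    rw [← h.bk_cj hby.symm, cj_of_cent hδb, cj_of_cent hδy]
  -- step 1
  have step1 : ∀ u ∈ bk Blk b y, u⁻¹ * (δ * u * δ⁻¹) ∈ M := by
    intro u hu
    have hu' : δ * u * δ⁻¹ ∈ bk Blk b y := by
      rw [← hblkb]; exact conj_mem_cj hu
    have huu := mul_mem (inv_mem hu) hu'
    refine h.cent_ln h1 hbx hM hyM hbM huu fun w hw => ?_
    obtain ⟨β, hβ, d, hd, rfl, hd'⟩ := h.dec hxy'.symm hw
    have e1 : u⁻¹ * (δ * u * δ⁻¹) * d = d * (u⁻¹ * (δ * u * δ⁻¹)) :=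
      hd' y hxy'.symm (h.le_bk hxy'.symm) _ (le_UU hby (h.bk_le hby.symm huu))
    have e2 : u⁻¹ * (δ * u * δ⁻¹) * β = β * (u⁻¹ * (δ * u * δ⁻¹)) := by
      -- `[β, δuδ⁻¹] = [β, u]`
      have h2 : β * u * β⁻¹ * u⁻¹ ∈ y := h.mid_mem h.typ hxy' hby.symm (h.bk_le hxy'.symm hβ) (h.bk_le hby.symm hu)
      have hδβ : δ * β * δ⁻¹ = β := by rw [hδx β hβ, mul_inv_cancel_right]
      have h3 : β * (δ * u * δ⁻¹) * β⁻¹ * (δ * u * δ⁻¹)⁻¹ = β * u * β⁻¹ * u⁻¹ := by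
        have e3 : δ * (β * u * β⁻¹ * u⁻¹) * δ⁻¹ = β * u * β⁻¹ * u⁻¹ := by
          rw [hδy _ h2, mul_inv_cancel_right]
        calc β * (δ * u * δ⁻¹) * β⁻¹ * (δ * u * δ⁻¹)⁻¹
            = (δ * β * δ⁻¹) * (δ * u * δ⁻¹) * (δ * β * δ⁻¹)⁻¹ * (δ * u * δ⁻¹)⁻¹ := by rw [hδβ]
          _ = δ * (β * u * β⁻¹ * u⁻¹) * δ⁻¹ := by group
          _ = β * u * β⁻¹ * u⁻¹ := e3
      have h4 : (β * u * β⁻¹ * u⁻¹)⁻¹ = (β * (δ * u * δ⁻¹) * β⁻¹ * (δ * u * δ⁻¹)⁻¹)⁻¹ := by rw [h3]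
      have e5 : (β * u * β⁻¹ * u⁻¹)⁻¹ = u * β * u⁻¹ * β⁻¹ := by group
      have e6 : (β * (δ * u * δ⁻¹) * β⁻¹ * (δ * u * δ⁻¹)⁻¹)⁻¹ =
        δ * u * δ⁻¹ * β * (δ * u * δ⁻¹)⁻¹ * β⁻¹ := by group
      rw [e5, e6] at h4
      exact comm_inj h4
    calc u⁻¹ * (δ * u * δ⁻¹) * (β * d) = (u⁻¹ * (δ * u * δ⁻¹) * β) * d := by group
      _ = β * (u⁻¹ * (δ * u * δ⁻¹) * d) := by rw [e2]; group
      _ = β * d * (u⁻¹ * (δ * u * δ⁻¹)) := by rw [e1]; group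
  -- step 2
  have hzy := hyz'.symm
  have hδz : ∀ u ∈ Z, δ * u = u * δ := fun u hu => hδL u (hZL hu)
  have hblkz : cj δ (bk Blk Z y) = bk Blk Z y := by
    rw [← h.bk_cj hyz', cj_of_cent hδz, cj_of_cent hδy]
  have hv' : δ * v0 * δ⁻¹ ∈ bk Blk Z y := by
    rw [← hblkz]; exact conj_mem_cj hv0
  have hvz := h.bk_le hyz' hv0
  have hvz' := h.bk_le hyz' hv'
  have hvv := mul_mem (inv_mem hv0) hv'
  have h2 : v0⁻¹ * (δ * v0 * δ⁻¹) ∈ L := by
    refine h.cent_ln h1 hb hL hyL hZL hvv fun w hw => ?_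
    obtain ⟨u, hu, d, hd, rfl, hd'⟩ := h.dec hby.symm hw
    have e1 : v0⁻¹ * (δ * v0 * δ⁻¹) * d = d * (v0⁻¹ * (δ * v0 * δ⁻¹)) :=
      hd' y hby.symm (h.le_bk hby.symm) _ (le_UU hzy (h.bk_le hyz' hvv))
    have e2 : v0⁻¹ * (δ * v0 * δ⁻¹) * u = u * (v0⁻¹ * (δ * v0 * δ⁻¹)) := by
      apply comm_inj
      have hk := step1 u hu
      -- `v'` commutes with `k = u⁻¹ δ u δ⁻¹`
      have hk2 : δ * v0 * δ⁻¹ * (u⁻¹ * (δ * u * δ⁻¹)) = u⁻¹ * (δ * u * δ⁻¹) * (δ * v0 * δ⁻¹) := by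
        obtain ⟨s, hs, t, ht, e⟩ := h.line_eq hby.left hby.right hby.ne hM hbM hyM hk
        have h3 := mem_centralizer_iff.1 (h.ws_le_cent hzy hby.symm hvz') s hs
        have h4 := mem_centralizer_iff.1 (h.ws_le_cent' hzy hvz') t ht
        rw [e]
        calc δ * v0 * δ⁻¹ * (s * t) = (δ * v0 * δ⁻¹ * s) * t := by group
          _ = s * (δ * v0 * δ⁻¹ * t) := by rw [← h3]; group
          _ = s * t * (δ * v0 * δ⁻¹) := by rw [← h4]; group
      have h5 : v0 * u * v0⁻¹ * u⁻¹ ∈ y := h.mid_mem h.typ hzy hby.symm hvz (h.bk_le hby.symm hu)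
      have h6 : δ * v0 * δ⁻¹ * (δ * u * δ⁻¹) * (δ * v0 * δ⁻¹)⁻¹ * (δ * u * δ⁻¹)⁻¹ = v0 * u * v0⁻¹ * u⁻¹ := by
        calc _ = δ * (v0 * u * v0⁻¹ * u⁻¹) * δ⁻¹ := by group
          _ = _ := by rw [hδy _ h5, mul_inv_cancel_right]
      rw [← h6]
      -- `[v', u k] = [v', u]`
      set v' := δ * v0 * δ⁻¹ with hv''
      set u' := δ * u * δ⁻¹ with hu''
      have h7 : v' * (u⁻¹ * u') * v'⁻¹ = u⁻¹ * u' := by rw [hk2, mul_inv_cancel_right]
      calc v' * u' * v'⁻¹ * u'⁻¹ = v' * u * v'⁻¹ * (v' * (u⁻¹ * u') * v'⁻¹) * u'⁻¹ := by group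
        _ = v' * u * v'⁻¹ * u⁻¹ := by rw [h7]; group
    calc v0⁻¹ * (δ * v0 * δ⁻¹) * (u * d) = (v0⁻¹ * (δ * v0 * δ⁻¹) * u) * d := by group
      _ = u * (v0⁻¹ * (δ * v0 * δ⁻¹) * d) := by rw [e2]; group
      _ = u * d * (v0⁻¹ * (δ * v0 * δ⁻¹)) := by rw [e1]; group
  apply hv0L
  rwa [h.ws_comm hz hvz' (inv_mem hvz)]

end NT

end Cfsg.Agent.Omega.NO3S.MidB

end

section


/-!
# NO-3S, natural lines, the `(R, B)`-frame, TYPE N, blocks `SL_m`, `m ≥ 3`: section (A2) (TEXT 426-2, THEOREM N2)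

* `NT.mover`, `NT.full` : `[U_a, β] = a` for `β ∈ b#`, `Sb r a b`;
* `NT.jj` : (j') `|H| ≤ s^m |H ∩ W_b|` for `H ≤ W_a`;
* `NT.inf_line` : `W_a ∩ I_m = r`;  `NT.card_ws_le` : (k') `|W_a| ≤ s^(2m+1)`.
-/

set_option autoImplicit false
set_option linter.unusedSectionVars false

namespace Cfsg.Agent.Omega.NO3S.MidB

open Subgroup Cfsg.Agent.Omega.NO3S.PT Cfsg.Agent.Omega.NoFF.Basic Cfsg.Agent.ZN
open Cfsg.Agent.Omega.NO3S.MidQ (Adj Com Cr UU ws_of kx_of isCj_iff adj_iff com_iff cr_iff UU_of isCj_symm isCj_trans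
  com_cj UU_cj le_UU normalizer_le_UU isPGroup_sSup FlagCan PtCan ff mem_ff ff_cj TypN Sb SLB bk AOne ATwo Path NN cnz
  mem_cnz cnz_cj mem_cs cg mem_cg comm_act card_le_mul surj_of_inj card_mul_le mul_of_card card_dec comm_inj cj_of_cent
  card_mul_le')
open scoped Pointwise

variable {G : Type*} [Group G] {V Z X Y L : Subgroup G} {Blk : Subgroup G → Set (Subgroup G)} {m : ℕ}

namespace NT

variable [Finite G] {S : Sylow 2 G} {P : Subgroup G} (h : NT S P V Z Blk m)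
include h

/-- a point `e ~ c ~ a` moving `b` -/
theorem mover {r a b : Subgroup G} (hs : Sb V Z Blk r a b) {β : G} (hβ : β ∈ b) (hβ1 : β ≠ 1) :
    ∃ c e, Adj V Z c a ∧ Adj V Z e c ∧ e ≤ bk Blk c a ∧ ∀ x ∈ e, x * β = β * x → x = 1 := by
  have h2 : ∃ c, Adj V Z c a ∧ ∃ w ∈ ws V c, w * β ≠ β * w := by
    by_contra hcon
    push Not at hcon
    have h3 : UU V Z a ≤ centralizer ({β} : Set G) := by
      refine sSup_le ?_
      rintro _ ⟨c, hc, rfl⟩ w hw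
      exact mem_cs.2 (hcon c hc w hw)
    exact hβ1 (h.sb_mv hs hβ fun u hu => mem_cs.1 (h3 hu))
  obtain ⟨c, hca, w, hw, hwβ⟩ := h2
  have hβU : β ∈ UU V Z a := le_UU hs.l.symm (h.adj_le_ws' hs.r hβ)
  obtain ⟨ε, hε, d, hd, rfl, hd'⟩ := h.dec hca.symm hw
  have hdβ := hd' a hca.symm (h.le_bk hca.symm) β hβU
  have hεβ : ε * β ≠ β * ε := by
    intro e
    apply hwβ
    calc ε * d * β = ε * (d * β) := by group
      _ = (ε * β) * d := by rw [← hdβ]; group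
      _ = β * (ε * d) := by rw [e]; group
  obtain ⟨E, hE, hEc, hεE⟩ := h.exists_pt hca.symm hε (fun e => by
    -- `W_r` centralises `c`
    have h3 := mem_centralizer_iff.1 (h.ws_le_cent hs.l.symm hca.symm (h.adj_le_ws' hs.r hβ)) ε e
    exact hεβ h3)
  refine ⟨c, E, hca, hE, hEc, fun x hx e => ?_⟩
  by_contra hx1
  exact hεβ (h.t3 hE.symm (h.two_ws hs.r.left (h.pt_le_ws hs.r.left hβ))
    (fun y hy => (mem_centralizer_iff.1 (h.ws_le_cent hs.l.symm hca.symm (h.adj_le_ws' hs.r hβ)) y hy).symm)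
    hx hx1 e.symm ε hεE).symm

/-- `[U_a, β] = a` -/
theorem full {r a b : Subgroup G} (hs : Sb V Z Blk r a b) {β : G} (hβ : β ∈ b) (hβ1 : β ≠ 1) :
    ∀ α ∈ a, ∃ g ∈ UU V Z a, g * β * g⁻¹ * β⁻¹ = α := by
  obtain ⟨c, e, hca, hec, hle, hmv⟩ := h.mover hs hβ hβ1
  have h2 := surj_of_inj (A := e) (B := a) (by rw [h.card_pt hec.left, h.card_pt hs.l.left])
    (fun y => y * β * y⁻¹ * β⁻¹)
    (fun y hy => h.mid_mem h.typ hca hs.l (h.adj_le_ws' hec hy) (h.adj_le_ws' hs.r hβ))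
    (fun y hy y' hy' e' => inv_mul_eq_one.1 (hmv _ (mul_mem (inv_mem hy) hy') (comm_inj e')))
  intro α hα
  obtain ⟨g, hg, e'⟩ := h2 α hα
  exact ⟨g, le_UU hca (h.adj_le_ws' hec hg), e'⟩

/-- `W_a ∩ W_{a^ε} ≤ W_b` if `[ε, α] ∈ b` -/
theorem inf_ws_cj {r a b : Subgroup G} (hs : Sb V Z Blk r a b) {ε α : G} (hα : α ∈ a)
    (hε : ε * α * ε⁻¹ * α⁻¹ ∈ b) (hε1 : ε * α * ε⁻¹ * α⁻¹ ≠ 1) {y : G} (hy : y ∈ ws V a)
    (hy' : y ∈ ws V (cj ε a)) : y ∈ ws V b := by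
  obtain ⟨g, hg, e⟩ := h.full hs hε hε1 α hα
  have hcomm : α * (ε * α * ε⁻¹ * α⁻¹) = ε * α * ε⁻¹ * α⁻¹ * α :=
    h.ws_comm hs.l.right (h.adj_le_ws' hs.l hα) (h.adj_le_ws' hs.r hε)
  have h2 : g * (ε * α * ε⁻¹ * α⁻¹) * g⁻¹ = ε * α * ε⁻¹ := by
    have e2 : g * (ε * α * ε⁻¹ * α⁻¹) * g⁻¹ = α * (ε * α * ε⁻¹ * α⁻¹) := by
      have e3 : g * (ε * α * ε⁻¹ * α⁻¹) * g⁻¹ =
        g * (ε * α * ε⁻¹ * α⁻¹) * g⁻¹ * (ε * α * ε⁻¹ * α⁻¹)⁻¹ * (ε * α * ε⁻¹ * α⁻¹) := by group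
      rw [e3, e]
    rw [e2, hcomm]; group
  have h3 : cj g b = cj ε a := by
    refine h.pts_eq (hs.r.left.cj g) (hs.l.left.cj ε) (z := ε * α * ε⁻¹) ?_ (conj_mem_cj hα) ?_
    · rw [← h2]; exact conj_mem_cj hε
    · intro e2
      apply hε1
      have h4 : α = 1 := conj_eq_one_iff.1 e2
      rw [h4]; group
  rw [← h3, ws_cj, mem_cj] at hy'
  have h4 : g * y = y * g := (mem_centralizer_iff.1 (h.UU_le_centralizer a hg) y hy).symm
  rwa [mul_assoc, ← h4, inv_mul_cancel_left] at hy'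

variable (h2 : ATwo V Z Blk)
include h2

/-- **(j')** -/
theorem jj {r a b : Subgroup G} (hs : Sb V Z Blk r a b) {H : Subgroup G} (hH : H ≤ ws V a) :
    Nat.card H ≤ Nat.card Z ^ m * Nat.card (H ⊓ ws V b : Subgroup G) := by
  obtain ⟨α, hα, hα1⟩ := h.pt_ne_bot hs.l.left
  obtain ⟨c, e, hcb, hec, hle, hmv⟩ := h.mover (NT.sb_sy hs) hα hα1
  obtain ⟨ε, hε, hε1⟩ := h.pt_ne_bot hec.left
  have hαr := h.adj_le_ws' hs.l hα
  have hεc := h.adj_le_ws' hec hε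
  set T := bk Blk c b ⊓ centralizer ({α} : Set G) with hT
  have hTc : Nat.card T ≤ Nat.card Z ^ m := by
    have h3 : Nat.card e * Nat.card T ≤ Nat.card (bk Blk c b) :=
      card_mul_le hle inf_le_left fun x hx hx' => hmv x hx (mem_cs.1 hx'.2)
    rw [h.card_pt hec.left, h.card_bk hcb.symm, pow_succ, mul_comm (Nat.card Z ^ m)] at h3
    exact Nat.le_of_mul_le_mul_left h3 Nat.card_pos
  have hcom := h2 r a b hs
  have h3 : Nat.card H ≤ Nat.card T * Nat.card (H ⊓ centralizer ({ε} : Set G) : Subgroup G) := by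
    refine card_le_mul (fun y => ε⁻¹ * (y * ε * y⁻¹)) (fun y hy => ?_) fun y hy y' hy' e' => ?_
    · have hya := hH hy
      have hyb : ∀ x ∈ b, y * x = x * y := fun x hx =>
        (mem_centralizer_iff.1 (hcom hya) x (h.pt_le_ws hs.r.left hx)).symm
      have hyc : ∀ x ∈ c, y * x = x * y := fun x hx =>
        (mem_centralizer_iff.1 (hcom hya) x (h.adj_le_ws' hcb hx)).symm
      have hblk : cj y (bk Blk c b) = bk Blk c b := by
        rw [← h.bk_cj hcb.symm, cj_of_cent hyb, cj_of_cent hyc]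
      have h4 : y * ε * y⁻¹ ∈ bk Blk c b := by
        rw [← hblk]; exact conj_mem_cj (hle hε)
      refine ⟨(bk Blk c b).mul_mem ((bk Blk c b).inv_mem (hle hε)) h4, mem_cs.2 (comm_inj ?_)⟩
      -- `[ε^y, α] = [ε, α]`
      have h5 : ε * α * ε⁻¹ * α⁻¹ ∈ b := h.mid_mem h.typ hcb hs.r hεc hαr
      have hyα : y * α = α * y := h.ws_comm hs.l.left hya (h.pt_le_ws hs.l.left hα)
      have hyα' : y * α * y⁻¹ = α := by rw [hyα, mul_inv_cancel_right]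
      symm
      calc y * ε * y⁻¹ * α * (y * ε * y⁻¹)⁻¹ * α⁻¹
          = y * ε * y⁻¹ * (y * α * y⁻¹) * (y * ε * y⁻¹)⁻¹ * (y * α * y⁻¹)⁻¹ := by rw [hyα']
        _ = y * (ε * α * ε⁻¹ * α⁻¹) * y⁻¹ := by group
        _ = ε * α * ε⁻¹ * α⁻¹ := by rw [hyb _ h5, mul_inv_cancel_right]
    · refine mem_cs.2 ?_
      have h4 : y * ε * y⁻¹ = y' * ε * y'⁻¹ := mul_left_cancel e'
      exact comm_inj (by rw [h4])
  refine h3.trans (Nat.mul_le_mul hTc (Subgroup.card_le_of_le ?_))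
  rintro y ⟨hy, hyε⟩
  refine ⟨hy, h.inf_ws_cj hs hα (h.mid_mem h.typ hcb hs.r hεc hαr) (fun e' => hε1 (hmv ε hε (Mid.comm_eq e')))
    (hH hy) ?_⟩
  rw [ws_cj, mem_cj, mul_assoc, mem_cs.1 hyε, inv_mul_cancel_left]
  exact hH hy

omit h2 in
theorem nn_cj (g : G) (X L : Subgroup G) (hX : IsCj Z X) : NN V Z Blk (cj g X) (cj g L) = cj g (NN V Z Blk X L) := by
  have key : ∀ (g : G) (X L : Subgroup G), IsCj Z X → cj g (NN V Z Blk X L) ≤ NN V Z Blk (cj g X) (cj g L) := by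
    intro g X L hX
    rw [cj_le_iff]
    refine sSup_le ?_
    rintro _ ⟨C, hC, ⟨D, hD, hLD, hCD⟩, rfl⟩
    rw [le_cj_iff, inv_inv, ← UU_cj]
    exact le_sSup ⟨cj g C, hC.cj g, ⟨cj g D, h.slb.can g X hX D hD, cj_le_cj.2 hLD, cj_le_cj.2 hCD⟩, rfl⟩
  refine le_antisymm ?_ (key g X L hX)
  have h3 := key g⁻¹ (cj g X) (cj g L) (hX.cj g)
  rw [cj_cj, cj_cj, inv_mul_cancel, cj_one, cj_one, cj_le_iff, inv_inv] at h3
  exact h3

omit h2 in
/-- `I_m ∩ W_a = r`, `m` a line on `r` joined to `a` -/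
theorem inf_line {r a b b' : Subgroup G} (hs : Sb V Z Blk r a b) (hL : IsCj V L) (hrL : r ≤ L) (hbL : b ≤ L)
    (hb' : Adj V Z b' r) (hbL' : b' ≤ L) (hne : b ≠ b') {u : G} (hu : u ∈ ws V a) (hub : u ∈ ws V b)
    (hub' : u ∈ ws V b') : u ∈ r := by
  have hr := hs.l.right
  have hbr := hs.r
  have hur : u ∈ ws V r := h.inf_le hL hbr.left hb'.left hr hbL hbL' hrL hne ⟨hub, hub'⟩
  obtain ⟨β, hβ, d, hd, e, hd'⟩ := h.dec hbr hur
  have hbb := h.le_bk (Blk := Blk) hbr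
  -- `β ∈ L`
  have hβL : β ∈ L := by
    refine h.cent hbr hL hrL hbL hβ fun v hv => ?_
    have h3 : v * u = u * v := (mem_centralizer_iff.1 (h.UU_le_centralizer b hv) u hub).symm
    have h4 := hd' b hbr hbb v hv
    have h5 : v * β * d = β * v * d := by
      calc v * β * d = v * (β * d) := by group
        _ = β * d * v := by rw [← e, h3]
        _ = β * (v * d) := by rw [h4]; group
        _ = β * v * d := by group
    exact mul_right_cancel h5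
  have hdL : d ∈ ws V r ⊓ ws V b := by
    have e2 : d = β⁻¹ * u := by rw [e]; group
    rw [e2]
    exact ⟨(ws V r).mul_mem ((ws V r).inv_mem (le_ws hL hrL hβL)) hur,
      (ws V b).mul_mem ((ws V b).inv_mem (le_ws hL hbL hβL)) hub⟩
  -- `d ∈ r`
  have hdr : d ∈ r := by
    refine h.lemF_flag (N := NN V Z Blk) (fun g X L hX _ _ => h.nn_cj g X L hX) (fun X L hX hL hXL => ?_)
      (fun X L hX hL hXL => ?_) hr hL hrL hbr.left hbL hbr.ne hdL.1 hdL.2 fun n hn => ?_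
    · refine sSup_le ?_
      rintro _ ⟨C, hC, -, rfl⟩
      exact h.UU_le_cent_adj hC.symm
    · obtain ⟨A, hA, hAL, hAX⟩ := h.exists_second hX hL hXL
      have hAX' : Adj V Z A X := ⟨hA, hX, hAX, L, hL, hAL, hXL⟩
      obtain ⟨C, hC⟩ := h.exists_sb hAX'
      obtain ⟨α, hα, hα1⟩ := h.pt_ne_bot hA
      have h3 : ∃ n ∈ UU V Z C, n * α ≠ α * n := by
        by_contra hcon
        push Not at hcon
        exact hα1 (h.sb_mv (NT.sb_sy hC) hα hcon)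
      obtain ⟨n, hn, hnα⟩ := h3
      have h4 : UU V Z C ≤ NN V Z Blk X L :=
        le_sSup ⟨C, hC.r, ⟨bk Blk X A, h.bk_mem hAX', h.line_le_bk hAX' hL hXL hAL, h.sb_le hC⟩, rfl⟩
      refine ⟨n, h4 hn, α, hAL hα, fun e2 => hnα (Mid.comm_eq ?_)⟩
      exact h.pt_inf hC.r.left hX hC.r.ne (h.UU_ws h.typ hC.r hn (h.adj_le_ws' hAX' hα)) e2
    · have h3 : n * d = d * n := by
        have h4 : NN V Z Blk r L ≤ centralizer ({d} : Set G) := by
          refine sSup_le ?_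
          rintro _ ⟨C, hC, ⟨D, hD, hLD, hCD⟩, rfl⟩ v hv
          refine mem_cs.2 (hd' C hC ?_ v hv)
          rwa [h.bk_unique hbr hD (hbL.trans hLD)]
        exact mem_cs.1 (h4 hn)
      rw [Mid.comm_one h3]
      exact one_mem _
  have huL : u ∈ L := by rw [e]; exact mul_mem hβL (hrL hdr)
  obtain ⟨ρ, hρ, β', hβ', e3⟩ := h.line_eq hr hbr.left hbr.ne.symm hL hrL hbL huL
  have h3 : β' ∈ ws V a := by
    have e4 : β' = ρ⁻¹ * u := by rw [e3]; group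
    rw [e4]
    exact mul_mem (inv_mem (h.adj_le_ws hs.l hρ)) hu
  have h4 : β' = 1 := h.sb_mv hs hβ' fun v hv =>
    (mem_centralizer_iff.1 (h.UU_le_centralizer a hv) β' h3).symm
  rw [e3, h4, mul_one]
  exact hρ

/-- **(k')** -/
theorem card_ws_le {a : Subgroup G} (ha : IsCj Z a) : Nat.card (ws V a) ≤ Nat.card Z ^ (2 * m + 1) := by
  obtain ⟨L, hL, haL⟩ := h.exists_line ha
  obtain ⟨r, hr, hrL, hra⟩ := h.exists_second ha hL haL
  have har : Adj V Z a r := ⟨ha, hr, hra.symm, L, hL, haL, hrL⟩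
  obtain ⟨b, hs⟩ := h.exists_sb har
  obtain ⟨M, hM, hbM, hrM⟩ := hs.r.line
  obtain ⟨b', hb', hbM', hbr', hbb'⟩ := h.exists_third hr hs.r.left hM hrM hbM hs.r.ne.symm
  have hbr2 : Adj V Z b' r := ⟨hb', hr, hbr', M, hM, hbM', hrM⟩
  have hs' : Sb V Z Blk r a b' := by
    refine NT.sb_sy (h.sb_mk' hbr2 har ?_ hM hrM hbM' ((NT.sb_sy hs).ne M hM hrM hbM))
    rw [h.bk_line hs.r hbr2 hM hrM hbM hbM']
    exact h.sb_le (NT.sb_sy hs)
  have h3 := h.jj h2 hs (H := ws V a) le_rfl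
  have h4 := h.jj h2 hs' (H := ws V a ⊓ ws V b) inf_le_left
  have h5 : Nat.card (ws V a ⊓ ws V b ⊓ ws V b' : Subgroup G) ≤ Nat.card Z := by
    rw [← h.card_pt hr]
    refine Subgroup.card_le_of_le ?_
    rintro u ⟨⟨hu, hub⟩, hub'⟩
    exact h.inf_line hs hM hrM hbM hbr2 hbM' hbb'.symm hu hub hub'
  calc Nat.card (ws V a) ≤ Nat.card Z ^ m * Nat.card (ws V a ⊓ ws V b : Subgroup G) := h3
    _ ≤ Nat.card Z ^ m * (Nat.card Z ^ m * Nat.card Z) :=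
      Nat.mul_le_mul_left _ (h4.trans (Nat.mul_le_mul_left _ h5))
    _ = Nat.card Z ^ (2 * m + 1) := by ring

end NT

end Cfsg.Agent.Omega.NO3S.MidB

end

section


/-!
# NO-3S, natural lines, the `(R, B)`-frame, critical distance 2, TYPE N, blocks `SL_m`, `m ≥ 3`: THEOREM N2 (TEXT 426-2, bb OMEGA #16785)

* `NT.not_two_blocks` : the number of blocks is not 2 (it is odd);
* `Mid.no_SLB`, `TN.no_SLB` : **THEOREM N2**.
-/

set_option autoImplicit false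
set_option linter.unusedSectionVars false

namespace Cfsg.Agent.Omega.NO3S.MidB

open Subgroup Cfsg.Agent.Omega.NO3S.PT Cfsg.Agent.Omega.NoFF.Basic Cfsg.Agent.ZN
open Cfsg.Agent.Omega.NO3S.MidQ (Adj Com Cr UU ws_of kx_of isCj_iff adj_iff com_iff cr_iff UU_of isCj_symm isCj_trans
  com_cj UU_cj le_UU normalizer_le_UU isPGroup_sSup FlagCan PtCan ff mem_ff ff_cj TypN Sb SLB bk AOne ATwo Path NN cnz
  mem_cnz cnz_cj mem_cs cg mem_cg comm_act card_le_mul surj_of_inj card_mul_le mul_of_card card_dec comm_inj cj_of_cent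
  card_mul_le')
open scoped Pointwise

variable {G : Type*} [Group G] {V Z X Y L : Subgroup G} {Blk : Subgroup G → Set (Subgroup G)} {m : ℕ}

namespace NT

variable [Finite G] {S : Sylow 2 G} {P : Subgroup G} (h : NT S P V Z Blk m)
include h

theorem exists_adj_blk (hX : IsCj Z X) {D : Subgroup G} (hD : D ∈ Blk X) : ∃ A, Adj V Z A X ∧ bk Blk X A = D := by
  have h1 : ∃ y ∈ D, y ∉ X := by
    by_contra hcon
    push Not at hcon
    have h2 : Nat.card D ≤ Nat.card X := Subgroup.card_le_of_le hcon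
    rw [h.slb.card X hX D hD, h.card_pt hX] at h2
    nth_rewrite 2 [← pow_one (Nat.card Z)] at h2
    have h3 := (Nat.pow_le_pow_iff_right (h.two_le)).1 h2
    have h4 := h.slb.three
    omega
  obtain ⟨y, hy, hyX⟩ := h1
  obtain ⟨M, hM, hXM, hyM⟩ := h.slb.all X hX D hD y hy hyX
  obtain ⟨A, hA, hAM, hyA⟩ := h.exists_point hM hyM (fun e => hyX (e ▸ one_mem _))
  have hAX : Adj V Z A X := ⟨hA, hX, fun e => hyX (e ▸ hyA), M, hM, hAM, hXM⟩
  refine ⟨A, hAX, ?_⟩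
  by_contra hne
  exact hyX (h.slb.inf X hX D hD _ (h.bk_mem hAX) hne y hy (h.le_bk hAX hyA))

/-- an element of a block centralised by all `U_C`, `C` in the block, is in `X` -/
theorem blk_cent (hX : IsCj Z X) {D : Subgroup G} (hD : D ∈ Blk X) {x : G} (hx : x ∈ D)
    (hc : ∀ C, Adj V Z C X → C ≤ D → ∀ u ∈ UU V Z C, u * x = x * u) : x ∈ X := by
  obtain ⟨A, hA, rfl⟩ := h.exists_adj_blk hX hD
  obtain ⟨B, hs⟩ := h.exists_sb hA
  obtain ⟨L, hL, hAL, hXL⟩ := hA.line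
  obtain ⟨M, hM, hBM, hXM⟩ := hs.r.line
  have h1 := h.cent hA hL hXL hAL hx (hc A hA (h.le_bk hA))
  have h2 := h.cent hs.r hM hXM hBM (by rw [h.sb_bk hs]; exact hx) (hc B hs.r (h.sb_le hs))
  by_contra hxX
  have hx1 : x ≠ 1 := fun e => hxX (e ▸ one_mem _)
  obtain ⟨T, hT, hTL, hxT⟩ := h.exists_point hL h1 hx1
  obtain ⟨T', hT', hTM, hxT'⟩ := h.exists_point hM h2 hx1
  have e := h.pts_eq hT hT' hxT hxT' hx1
  have hTX : X ≠ T := fun e => hxX (e ▸ hxT)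
  have e2 := h.line_unique hX hT hTX hL hM hXL hTL hXM (e ▸ hTM)
  exact hs.ne L hL hXL hAL (e2 ▸ hBM)

/-- the number of blocks is not 2 -/
theorem not_two_blocks {D0 D1 : Subgroup G} (h0 : D0 ∈ Blk Z) (h1 : D1 ∈ Blk Z) (hV : V ≤ D0) (hne : D1 ≠ D0)
    (hall : ∀ D ∈ Blk Z, D = D0 ∨ D = D1) : False := by
  have hZ := h.pl.isCj_self
  have hVV : IsCj V V := ⟨1, (cj_one V).symm⟩
  have hZV := h.pl.ZV
  obtain ⟨A0, hA0, hA0V, hA0Z⟩ := h.exists_second hZ hVV hZV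
  have hA : Adj V Z A0 Z := ⟨hA0, hZ, hA0Z, V, hVV, hA0V, hZV⟩
  obtain ⟨A1, hA1, hA1D⟩ := h.exists_adj_blk hZ h1
  obtain ⟨M, hM, hA1M, hZM⟩ := hA1.line
  obtain ⟨a, ha1, ha2⟩ := h.exists_conj₂ hZ hVV hZV hZ hM hZM
  have hMD : M ≤ D1 := by rw [← hA1D]; exact h.line_le_bk hA1 hM hZM hA1M
  -- blocks are permuted
  have hperm : ∀ g, cj g Z = Z → ∀ D ∈ Blk Z, cj g D ∈ Blk Z := by
    intro g hg D hD
    have := h.slb.can g Z hZ D hD
    rwa [hg] at this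
  have haD : cj a D0 = D1 := by
    have h2 := hperm a ha1.symm D0 h0
    have h3 : A1 ≤ cj a D0 := by
      refine hA1M.trans ?_
      rw [ha2]
      exact cj_le_cj.2 hV
    rw [← h.bk_unique hA1 h2 h3, hA1D]
  set H := normalizer (Z : Set G) with hH
  set K := H ⊓ normalizer (D0 : Set G) with hK
  have hmem : ∀ b ∈ H, b ∈ K ↔ cj b D0 = D0 := fun b hb => by
    rw [hK, mem_inf, cj_eq_iff]
    exact ⟨fun e => e.2, fun e => ⟨hb, e⟩⟩
  have haH : a ∈ H := cj_eq_iff.1 ha1.symm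
  have hSK : (S : Subgroup G) ≤ K := by
    intro s hs
    have hsZ := h.pl.S_le_N hs
    rw [hmem s hsZ]
    have h2 := hperm s (cj_eq_iff.2 hsZ) D0 h0
    have h3 : A0 ≤ cj s D0 := by
      have e : cj s V = V := cj_eq_iff.2 (h.pl.PN (h.pl.SP hs))
      calc A0 ≤ V := hA0V
        _ = cj s V := e.symm
        _ ≤ cj s D0 := cj_le_cj.2 hV
    rw [← h.bk_unique hA h2 h3, h.bk_unique hA h0 (hA0V.trans hV)]
  have hidx : (K.subgroupOf H).index = 2 := by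
    rw [Subgroup.index_eq_two_iff]
    refine ⟨⟨a, haH⟩, fun b => ?_⟩
    have hb := b.2
    have hbZ := cj_eq_iff.2 hb
    rw [mem_subgroupOf, mem_subgroupOf]
    have e1 : ((b * ⟨a, haH⟩ : H) : G) = (b : G) * a := rfl
    rw [e1, hmem _ (mul_mem hb haH), hmem _ hb, ← cj_cj, haD]
    rcases hall _ (hperm b hbZ D0 h0) with e | e
    · refine Or.inr ⟨e, fun e2 => hne ?_⟩
      rw [← e] at e2
      rw [e] at e2
      have h3 : cj (b : G) D1 = cj (b : G) D0 := by rw [e2, e]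
      exact cj_inj.1 h3
    · refine Or.inl ⟨?_, fun e2 => hne (e.symm.trans e2)⟩
      rcases hall _ (hperm b hbZ D1 h1) with e2 | e2
      · exact e2
      · exact absurd (cj_inj.1 (e2.trans e.symm)) hne
  have h2 : K.relIndex H * H.index = K.index := relIndex_mul_index inf_le_left
  have h3 : K.relIndex H = 2 := hidx
  have h4 : 2 ∣ K.index := ⟨H.index, by rw [← h2, h3]⟩
  exact S.not_dvd_index (h4.trans (index_dvd_of_le hSK))

variable (h2 : ATwo V Z Blk)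
include h2

/-- **(A2) is impossible** -/
theorem not_ATwo (hex : ∃ A R B, Cr V Z A R B) : False := by
  obtain ⟨A, R, B, hc⟩ := hex
  -- at least two blocks at `Z`
  have hZ := h.pl.isCj_self
  have hVV : IsCj V V := ⟨1, (cj_one V).symm⟩
  have hne : bk Blk R A ≠ bk Blk R B := by
    intro e
    by_cases hl : ∃ L, IsCj V L ∧ R ≤ L ∧ A ≤ L ∧ B ≤ L
    · obtain ⟨L, hL, hRL, hAL, hBL⟩ := hl
      exact h.cr_not_adj hc ⟨hc.l.left, hc.r.right, h.cr_ne hc, L, hL, hAL, hBL⟩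
    · push Not at hl
      refine hc.ne (h2 R A B (h.sb_mk hc.l hc.r.symm ?_ fun L hL hRL hAL => hl L hL hRL hAL))
      rw [e]
      exact h.le_bk hc.r.symm
  obtain ⟨g, hg⟩ := hc.l.right
  have hgR : cj g⁻¹ R = Z := by rw [hg, cj_cj, inv_mul_cancel, cj_one]
  obtain ⟨A0, hA0, hA0V, hA0Z⟩ := h.exists_second hZ hVV h.pl.ZV
  have hA : Adj V Z A0 Z := ⟨hA0, hZ, hA0Z, V, hVV, hA0V, h.pl.ZV⟩
  set D0 := bk Blk Z A0 with hD0
  have h0 : D0 ∈ Blk Z := h.bk_mem hA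
  have hV0 : V ≤ D0 := h.line_le_bk hA hVV h.pl.ZV hA0V
  have hDA : cj g⁻¹ (bk Blk R A) ∈ Blk Z := by
    have := h.slb.can g⁻¹ R hc.l.right _ (h.bk_mem hc.l)
    rwa [hgR] at this
  have hDB : cj g⁻¹ (bk Blk R B) ∈ Blk Z := by
    have := h.slb.can g⁻¹ R hc.l.right _ (h.bk_mem hc.r.symm)
    rwa [hgR] at this
  have hD1 : ∃ D1 ∈ Blk Z, D1 ≠ D0 := by
    by_cases e : cj g⁻¹ (bk Blk R A) = D0
    · exact ⟨_, hDB, fun e2 => hne (cj_inj.1 (e.trans e2.symm))⟩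
    · exact ⟨_, hDA, e⟩
  obtain ⟨D1, h1, h10⟩ := hD1
  obtain ⟨D2, hD2, h20, h21⟩ : ∃ D ∈ Blk Z, D ≠ D0 ∧ D ≠ D1 := by
    by_contra hcon
    push Not at hcon
    refine h.not_two_blocks h0 h1 hV0 h10 fun D hD => ?_
    by_cases e : D = D0
    · exact Or.inl e
    · exact Or.inr (hcon D hD e)
  -- counting
  have hW0 := (h.slb.le Z hZ D0 h0).2
  have hW1 := (h.slb.le Z hZ D1 h1).2
  have hW2 := (h.slb.le Z hZ D2 hD2).2
  have c1 := card_mul_le' (A := D0) (B := D1) (K := D0 ⊔ D1) le_sup_left le_sup_right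
  have c2 : Nat.card (D0 ⊓ D1 : Subgroup G) ≤ Nat.card Z := Subgroup.card_le_of_le fun x hx =>
    h.slb.inf Z hZ D0 h0 D1 h1 h10 x hx.1 hx.2
  have c3 := card_mul_le' (A := D0 ⊔ D1) (B := D2) (K := ws V Z) (sup_le hW0 hW1) hW2
  have c4 : Nat.card ((D0 ⊔ D1) ⊓ D2 : Subgroup G) ≤ Nat.card Z := by
    refine Subgroup.card_le_of_le ?_
    rintro x ⟨hx, hx2⟩
    refine h.blk_cent hZ hD2 hx2 fun C hC hCD u hu => ?_
    have h5 : D0 ⊔ D1 ≤ centralizer ({u} : Set G) := by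
      have hno : ∀ D ∈ Blk Z, D2 ≠ D → ¬ C ≤ D := by
        intro D hD hne2 hCD'
        exact hne2 ((h.bk_unique hC hD2 hCD).symm.trans (h.bk_unique hC hD hCD'))
      refine sup_le (fun b hb => mem_cs.2 ?_) (fun b hb => mem_cs.2 ?_)
      · exact (h.slb.other Z C hC D0 h0 (hno D0 h0 h20) b hb u hu).symm
      · exact (h.slb.other Z C hC D1 h1 (hno D1 h1 h21) b hb u hu).symm
    exact (mem_cs.1 (h5 hx)).symm
  have c5 := h.card_ws_le h2 hZ
  rw [h.slb.card Z hZ D0 h0, h.slb.card Z hZ D1 h1] at c1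
  rw [h.slb.card Z hZ D2 hD2] at c3
  set s := Nat.card Z with hs
  have c6 : s ^ (m + 1) * s ^ (m + 1) * s ^ (m + 1) ≤ s ^ (2 * m + 3) := by
    calc s ^ (m + 1) * s ^ (m + 1) * s ^ (m + 1)
        ≤ Nat.card (D0 ⊔ D1 : Subgroup G) * s * s ^ (m + 1) :=
          Nat.mul_le_mul_right _ (c1.trans (Nat.mul_le_mul_left _ c2))
      _ = s * (Nat.card (D0 ⊔ D1 : Subgroup G) * s ^ (m + 1)) := by ring
      _ ≤ s * (s ^ (2 * m + 1) * s) :=
          Nat.mul_le_mul_left _ (c3.trans (Nat.mul_le_mul c5 c4))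
      _ = s ^ (2 * m + 3) := by ring
  have c7 : s ^ (3 * m + 3) ≤ s ^ (2 * m + 3) := by
    calc s ^ (3 * m + 3) = s ^ (m + 1) * s ^ (m + 1) * s ^ (m + 1) := by ring
      _ ≤ _ := c6
  have c8 := (Nat.pow_le_pow_iff_right (h.two_le)).1 c7
  have c9 := h.slb.three
  omega

end NT

/-- **THEOREM N2** -/
theorem Mid.no_SLB [Finite G] {S : Sylow 2 G} {P : Subgroup G} (h : Mid S P V Z) (hN : TypN V Z)
    (hex : ∃ A R B, Cr V Z A R B) (hB : SLB V Z Blk m) : False := by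
  have hn : NT S P V Z Blk m := ⟨h, hN, hB⟩
  by_cases h2 : ATwo V Z Blk
  · exact hn.not_ATwo h2 hex
  · have h3 : ∃ R A B, Sb V Z Blk R A B ∧ ¬ Com V A B := by
      by_contra hcon
      push Not at hcon
      exact h2 hcon
    obtain ⟨R, A, B, hs, hc⟩ := h3
    refine hn.not_AOne fun R' A' B' hs' hc' => hc ?_
    obtain ⟨g, hg0, hg1, hg2⟩ := hn.sb_move hs' hs
    have h4 := hc'.cj g
    rwa [hg1, hg2] at h4

end Cfsg.Agent.Omega.NO3S.MidB

end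

end

-- merged: Cfsg.Agent.Mrg.Omega.NO3S.MidB.Main
section

/-!
# NO-3S, the `(R, B)`-frame, `n = 2`: TYPE N is impossible (K-free; bb OMEGA #18317, TCARD 5)
-/

set_option autoImplicit false

namespace Cfsg.Agent.Omega.NO3S.MidB

open Subgroup
open Cfsg.Agent.Omega.NO3S.MidQ (Adj Com Cr UU TypN)

variable {G : Type*} [Group G] [Finite G] {S : Sylow 2 G} {P V Z : Subgroup G}

/-- TYPE N with a critical triple is impossible -/
theorem TF.false (h : TF S P V Z) : False := by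
  have hv := h.jval
  have hs := h.jsym
  have hd := h.dist hs hv
  rcases h.sml_or_bg with hS | hB
  · exact h.false_of_sml hs hd hS
  · obtain ⟨Blk, m, hb⟩ := h.slb hs hv (h.jtrans hB hd) (h.jdich hB) hB
    exact h.toMid.no_SLB h.comm h.ex hb

/-- TYPE N is impossible over `Mid` -/
theorem Mid.no_typN (h : Mid S P V Z) (hN : TypN V Z) (hex : ∃ A R B, Cr V Z A R B) : False :=
  TF.false (S := S) (P := P) ⟨h, hN, hex⟩

end Cfsg.Agent.Omega.NO3S.MidB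

end
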