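import Cfsg.Agent.Mrg.Omega.NO3S.MidB.TF
import Cfsg.Agent.Mrg.Omega.NO3S.MidQ.Base

-- merged: Cfsg.Agent.Mrg.Omega.NO3S.MidB.TFOne
section

/-!
# NO-3S, the `(R, B)`-frame, TYPE N: steps (a) - (g) (port of `MidQ/TNOne.lean`, helper317)

Let `h : TF S P V Z` and `H2 V Z`:

* `TF.exists_jo`, `TF.cent_or` (a); `TF.mem_cw_of_cr`, `TF.exists_of_cr` (b); `TF.jo_symm` (c);
  `TF.exists_cj_pt`, `TF.inf_const` (d); `TF.not_jo` (e); `TF.comm_mem_zu` (f); `TF.sup_zu`, `TF.com_of_jo` (g);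
* `TF.tg` : **the output `TG`**.
-/

set_option autoImplicit false
set_option linter.unusedSectionVars false

namespace Cfsg.Agent.Omega.NO3S.MidB

open Subgroup Cfsg.Agent.Omega.NO3S.PT Cfsg.Agent.Omega.NoFF.Basic Cfsg.Agent.ZN
open Cfsg.Agent.Omega.NO3S.MidQ (Adj Com Cr UU ws_of kx_of isCj_iff adj_iff com_iff cr_iff UU_of isCj_symm isCj_trans
  com_cj UU_cj le_UU normalizer_le_UU isPGroup_sSup FlagCan PtCan ff mem_ff ff_cj TypN cw mem_cw cw_le cw_cj Jo jo_cj zu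
  H2 comm_inv_mem mem_zu_iff exists_mul_sup_tn)
open scoped Pointwise

variable {G : Type*} [Group G] {V Z X Y R L A A' B B' C : Subgroup G}

namespace TF

variable [Finite G] {S : Sylow 2 G} {P : Subgroup G} (h : TF S P V Z)
include h

variable (h2 : H2 V Z)
include h2

/-! ### (a) -/

theorem relIndex_cw (hA : Adj V Z A R) : (cw V Z R A).relIndex (ws V R) = Nat.card Z := by
  rw [cw, inf_relIndex_left]
  exact h2 R A hA

theorem card_cw (hA : Adj V Z A R) : Nat.card (cw V Z R A) * Nat.card Z = Nat.card (ws V R) := by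
  have h3 := relIndex_mul_relIndex ⊥ (cw V Z R A) (ws V R) bot_le cw_le
  rwa [relIndex_bot_left, relIndex_bot_left, h.relIndex_cw h2 hA] at h3

theorem ws_not_le (hA : Adj V Z A R) : ¬ ws V R ≤ cw V Z R A := by
  intro h1
  have h3 := h.relIndex_cw h2 hA
  rw [relIndex_eq_one.2 h1] at h3
  have := h.one_lt_card_pt
  omega

theorem exists_not_mem (hA : Adj V Z A R) : ∃ w ∈ ws V R, w ∉ cw V Z R A := by
  by_contra hno
  push Not at hno
  exact h.ws_not_le h2 hA hno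

/-- **(a)** some `E` is joined to `A` -/
theorem exists_jo (hA : Adj V Z A R) : ∃ E, Jo V Z R A E := by
  by_contra hno
  push Not at hno
  refine h.ws_not_le h2 hA (ws_le fun L hL hRL => ?_)
  obtain ⟨Y, hY, hYL, hYR⟩ := h.exists_second hA.right hL hRL
  have hYA : Adj V Z Y R := ⟨hY, hA.right, hYR, L, hL, hYL, hRL⟩
  have h3 : Y ≤ cw V Z R A := by
    by_contra h4
    exact hno Y ((h.jo_iff hA hYA).2 h4)
  exact h.line_le_of_pt hA hYA hL hRL hYL h3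

/-- **(a)** `W_R = B × C_{W_R}(U_A)` if `A → B` -/
theorem exists_mul_cw (hj : Jo V Z R A B) {u : G} (hu : u ∈ ws V R) :
    ∃ ε ∈ B, ∃ κ ∈ cw V Z R A, u = ε * κ := by
  have hBW : B ≤ ws V R := h.adj_le_ws hj.r.symm
  let f : B → (ws V R) ⧸ (cw V Z R A).subgroupOf (ws V R) := fun x => QuotientGroup.mk ⟨x.1, hBW x.2⟩
  have hf : Function.Injective f := by
    intro x y hxy
    have h3 := QuotientGroup.eq.1 hxy
    rw [mem_subgroupOf] at h3
    have h4 : x.1⁻¹ * y.1 ∈ cw V Z R A := h3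
    have h5 := h.inf_cw hj (mul_mem (inv_mem x.2) y.2) h4
    exact Subtype.ext (inv_mul_eq_one.1 h5)
  have hcard : Nat.card ((ws V R) ⧸ (cw V Z R A).subgroupOf (ws V R)) ≤ Nat.card B := by
    have h3 := h.relIndex_cw h2 hj.l
    rw [h.card_pt hj.r.left, ← h3]
    exact le_of_eq rfl
  obtain ⟨x, hx⟩ := (hf.bijective_of_nat_card_le hcard).2 (QuotientGroup.mk ⟨u, hu⟩)
  have h3 := QuotientGroup.eq.1 hx
  rw [mem_subgroupOf] at h3
  have h4 : x.1⁻¹ * u ∈ cw V Z R A := h3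
  exact ⟨x.1, x.2, _, h4, by group⟩

/-- **(a)** -/
theorem cent_or (hA : Adj V Z A R) {g u : G} (hg : g ∈ UU V Z A) (hu : u ∈ ws V R) (hgu : g * u = u * g) :
    u ∈ cw V Z R A ∨ ∀ w ∈ ws V R, g * w = w * g := by
  obtain ⟨E, hj⟩ := h.exists_jo h2 hA
  obtain ⟨ε, hε, κ, hκ, rfl⟩ := h.exists_mul_cw h2 hj hu
  have h3 := (mem_cw.1 hκ).2 g hg
  have h4 : g * ε = ε * g := by
    apply mul_right_cancel (b := κ)
    calc g * ε * κ = g * (ε * κ) := by group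
      _ = ε * κ * g := hgu
      _ = ε * (κ * g) := by group
      _ = ε * (g * κ) := by rw [h3]
      _ = ε * g * κ := by group
  by_cases h5 : ε = 1
  · left
    rw [h5, one_mul]
    exact hκ
  · right
    intro w hw
    have h6 := h.t3 hj.r.symm (h.twoEl_UU hg) (fun z hz => (mem_cw.1 (h.R_le_cw hA hz)).2 g hg) hε h5 h4
    obtain ⟨ε', hε', κ', hκ', rfl⟩ := h.exists_mul_cw h2 hj hw
    rw [← mul_assoc, h6 ε' hε', mul_assoc, (mem_cw.1 hκ').2 g hg, mul_assoc]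

/-! ### (b) -/

/-- `C_{W_B}(g) = C_{W_B}(U_A)` for `g ∈ W_R - C(W_B)`, `(R, B)` critical with middle `A` -/
theorem mem_cw_of_comm (hc : Cr V Z R A B) {g w : G} (hg : g ∈ ws V R) (hgB : ¬ ∀ x ∈ ws V B, g * x = x * g)
    (hw : w ∈ ws V B) (hgw : g * w = w * g) : w ∈ cw V Z B A :=
  (h.cent_or h2 hc.r (le_UU hc.l hg) hw hgw).resolve_right hgB

/-- **(b)** `C_{W_B}(W_R) = C_{W_B}(U_A)` -/
theorem mem_cw_of_cr (hc : Cr V Z R A B) {w : G} (hw : w ∈ ws V B) (hwR : ∀ x ∈ ws V R, w * x = x * w) :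
    w ∈ cw V Z B A := by
  have h3 : ∃ g ∈ ws V R, ¬ ∀ x ∈ ws V B, g * x = x * g := by
    by_contra hno
    push Not at hno
    exact hc.ne fun g hg => mem_centralizer_iff.2 fun x hx => (hno g hg x hx).symm
  obtain ⟨g, hg, hgB⟩ := h3
  exact h.mem_cw_of_comm h2 hc hg hgB hw (hwR g hg).symm

/-- **(b)** `[W_B, ε] = A` for `ε ∈ W_R - C(U_A)` -/
theorem exists_comm (hc : Cr V Z R A B) {ε α : G} (hε : ε ∈ ws V R) (hε' : ε ∉ cw V Z R A) (hα : α ∈ A) :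
    ∃ w ∈ ws V B, w * ε * w⁻¹ * ε⁻¹ = α := by
  have hA : IsCj Z A := hc.l.right
  have hval : ∀ w ∈ ws V B, w * ε * w⁻¹ * ε⁻¹ ∈ A := fun w hw =>
    h.uu_comm hA (le_UU hc.r.symm hw) (le_UU hc.l hε)
  have hcen : ∀ w ∈ ws V B, ∀ a ∈ A, w * a = a * w := fun w hw a ha =>
    (mem_centralizer_iff.1 (h.ws_le_cent' hc.r.symm hw) a ha).symm
  let f : ws V B →* A :=
    { toFun := fun w => ⟨w.1 * ε * w.1⁻¹ * ε⁻¹, hval w.1 w.2⟩
      map_one' := Subtype.ext (by simp)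
      map_mul' := by
        intro w w'
        apply Subtype.ext
        show w.1 * w'.1 * ε * (w.1 * w'.1)⁻¹ * ε⁻¹ = (w.1 * ε * w.1⁻¹ * ε⁻¹) * (w'.1 * ε * w'.1⁻¹ * ε⁻¹)
        have e1 : w.1 * w'.1 * ε * (w.1 * w'.1)⁻¹ * ε⁻¹ =
          w.1 * (w'.1 * ε * w'.1⁻¹ * ε⁻¹) * (ε * w.1⁻¹ * ε⁻¹) := by group
        rw [e1, hcen _ w.2 _ (hval _ w'.2), mul_assoc]
        have e2 : w.1 * (ε * w.1⁻¹ * ε⁻¹) = w.1 * ε * w.1⁻¹ * ε⁻¹ := by group
        rw [e2]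
        exact h.ws_comm hA (h.pt_le_ws hA (hval _ w'.2)) (h.pt_le_ws hA (hval _ w.2)) }
  have hker : f.ker = (cw V Z B A).subgroupOf (ws V B) := by
    ext w
    rw [MonoidHom.mem_ker, mem_subgroupOf]
    constructor
    · intro h3
      have h4 : w.1 * ε * w.1⁻¹ * ε⁻¹ = 1 := congrArg Subtype.val h3
      rw [mul_inv_eq_one, mul_inv_eq_iff_eq_mul] at h4
      have h5 := (h.cent_or h2 hc.l.symm (le_UU hc.r.symm w.2) hε h4).resolve_left hε'
      exact h.mem_cw_of_cr h2 hc w.2 h5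
    · intro h3
      apply Subtype.ext
      show w.1 * ε * w.1⁻¹ * ε⁻¹ = 1
      have h4 := (mem_cw.1 h3).2 ε (le_UU hc.l hε)
      rw [mul_inv_eq_one, mul_inv_eq_iff_eq_mul]
      exact h4.symm
  have hrange : f.range = ⊤ := by
    apply eq_top_of_card_eq
    rw [← index_ker, hker, h.card_pt hA]
    exact h.relIndex_cw h2 hc.r
  have hmem : (⟨α, hα⟩ : A) ∈ f.range := by rw [hrange]; exact mem_top _
  obtain ⟨w, hw⟩ := hmem
  exact ⟨w.1, w.2, congrArg Subtype.val hw⟩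

/-- **(b)** `U_A = W_B C_{U_A}(W_R)` -/
theorem exists_of_cr (hc : Cr V Z R A B) {g : G} (hg : g ∈ UU V Z A) :
    ∃ w ∈ ws V B, ∀ x ∈ ws V R, w⁻¹ * g * x = x * (w⁻¹ * g) := by
  obtain ⟨E, hj⟩ := h.exists_jo h2 hc.l.symm
  obtain ⟨ε, hε, hε1⟩ := h.pt_ne_bot hj.r.left
  have hεW := h.adj_le_ws hj.r.symm hε
  have hε' : ε ∉ cw V Z R A := fun e => hε1 (h.inf_cw hj hε e)
  obtain ⟨w, hw, hwε⟩ := h.exists_comm h2 hc hεW hε' (h.comm_adj hc.l.symm hg hεW)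
  refine ⟨w, hw, ?_⟩
  have h3 : w⁻¹ * g * ε = ε * (w⁻¹ * g) := by
    have h4 : w * ε * w⁻¹ = g * ε * g⁻¹ := mul_right_cancel hwε
    calc w⁻¹ * g * ε = w⁻¹ * (g * ε * g⁻¹) * g := by group
      _ = w⁻¹ * (w * ε * w⁻¹) * g := by rw [h4]
      _ = ε * (w⁻¹ * g) := by group
  exact (h.cent_or h2 hc.l.symm (mul_mem (inv_mem (le_UU hc.r.symm hw)) hg) hεW h3).resolve_left hε'

/-! ### (c) -/

/-- **(c)** `joined` is symmetric -/
theorem jo_symm (hj : Jo V Z R A B) : Jo V Z R B A := by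
  by_contra hno
  have h3 : A ≤ cw V Z R B := by
    by_contra h4
    exact hno ((h.jo_iff hj.r hj.l).2 h4)
  have hle : cw V Z R A ≤ cw V Z R B := by
    intro x hx
    refine mem_cw.2 ⟨(mem_cw.1 hx).1, fun u hu => ?_⟩
    have h5 : u * x * u⁻¹ * x⁻¹ ∈ B := h.comm_adj hj.r hu (mem_cw.1 hx).1
    have hA' : PT.cj u A = A := cj_eq_iff.2 (centralizer_le_normalizer _
      (mem_centralizer_iff.2 fun a ha => ((mem_cw.1 (h3 ha)).2 u hu).symm))
    have hR' : PT.cj u R = R := h.cj_UU_adj hu hj.r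
    have h6 : u * x * u⁻¹ ∈ cw V Z R A := by
      have h8 := conj_mem_cj (g := u) hx
      rwa [← cw_cj, hR', hA'] at h8
    have h7 := h.inf_cw hj h5 (mul_mem h6 (inv_mem hx))
    rwa [mul_inv_eq_one, mul_inv_eq_iff_eq_mul] at h7
  have heq : cw V Z R A = cw V Z R B := by
    refine Subgroup.eq_of_le_of_card_ge hle (le_of_eq ?_)
    have e1 := h.card_cw h2 hj.l
    have e2 := h.card_cw h2 hj.r
    exact Nat.eq_of_mul_eq_mul_right Nat.card_pos (e2.trans e1.symm)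
  obtain ⟨L, hL, hBL, hRL⟩ := hj.r.line
  refine (h.jo_iff hj.l hj.r).1 hj ?_
  rw [heq]
  exact hBL.trans (h.line_le_cw hL hRL hBL)

theorem jo_ne (hj : Jo V Z R A B) : A ≠ B := by
  rintro rfl
  exact hj.mv ((le_centralizer_iff.1 (h.UU_le_cent_pt hj.l.left)))

/-! ### (d) -/

/-- **(d)** `A, B` joined at `R`, `(R, C)` critical with middle `A`: every `v ∈ AB - A` is in some `B^w`, `w ∈ W_C` -/
theorem exists_cj_mem (hj : Jo V Z R A B) (hc : Cr V Z R A C) {v : G} (hv : v ∈ A ⊔ B) (hvA : v ∉ A) :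
    ∃ w ∈ ws V C, v ∈ PT.cj w B := by
  obtain ⟨α, hα, β, hβ, rfl⟩ := exists_mul_sup_tn (h.comm_pts hj.l hj.r) hv
  have hβ1 : β ≠ 1 := fun e => hvA (by rw [e, mul_one]; exact hα)
  obtain ⟨w, hw, hwβ⟩ := h.exists_comm h2 hc (h.adj_le_ws hj.r.symm hβ) (fun e => hβ1 (h.inf_cw hj hβ e)) hα
  refine ⟨w, hw, ?_⟩
  have e : α * β = w * β * w⁻¹ := by rw [← hwβ]; group
  rw [e]
  exact conj_mem_cj hβ

/-- **(d)** every point `Y ≠ A` contained in `AB` is `B^w` for some `w ∈ W_C` -/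
theorem exists_cj_pt (hj : Jo V Z R A B) (hc : Cr V Z R A C) (hY : IsCj Z Y) (hYAB : Y ≤ A ⊔ B) (hYA : Y ≠ A) :
    ∃ w ∈ ws V C, Y = PT.cj w B := by
  obtain ⟨y, hy, hy1⟩ := h.pt_ne_bot hY
  have h3 : y ∉ A := fun e => hYA (h.pts_eq hY hj.l.left hy e hy1)
  obtain ⟨w, hw, hwy⟩ := h.exists_cj_mem h2 hj hc (hYAB hy) h3
  exact ⟨w, hw, h.pts_eq hY (hj.r.left.cj w) hy hwy hy1⟩

/-- **(d)** all points contained in `AB` are `~ R` -/
theorem adj_of_le (hj : Jo V Z R A B) (hY : IsCj Z Y) (hYAB : Y ≤ A ⊔ B) : Adj V Z Y R := by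
  by_cases hYA : Y = A
  · rw [hYA]; exact hj.l
  obtain ⟨C, hc⟩ := h.exists_crit hj.l.symm
  obtain ⟨w, hw, rfl⟩ := h.exists_cj_pt h2 hj hc hY hYAB hYA
  exact h.adj_cj_UU hj.l hj.r (le_UU hc.r.symm hw)

/-- **(d)** `W_A ∩ W_Y = W_A ∩ W_B` for the points `Y ≠ A` contained in `AB` -/
theorem inf_const (hj : Jo V Z R A B) (hY : IsCj Z Y) (hYAB : Y ≤ A ⊔ B) (hYA : Y ≠ A) :
    ws V A ⊓ ws V Y = ws V A ⊓ ws V B := by
  obtain ⟨C, hc⟩ := h.exists_crit hj.l.symm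
  obtain ⟨w, hw, rfl⟩ := h.exists_cj_pt h2 hj hc hY hYAB hYA
  have hwU : w ∈ UU V Z A := le_UU hc.r.symm hw
  have e1 : PT.cj w (ws V A ⊓ ws V B) = ws V A ⊓ ws V (PT.cj w B) := by
    rw [cj_inf, ← ws_cj, ← ws_cj, h.cj_UU hwU hj.l.left]
  have e2 : PT.cj w (ws V A ⊓ ws V B) = ws V A ⊓ ws V B := by
    refine cj_eq_iff.2 (centralizer_le_normalizer _ ?_)
    exact centralizer_le (inf_le_left : ws V A ⊓ ws V B ≤ ws V A) (h.UU_le_centralizer A hwU)
  rw [← e1, e2]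

/-- a third point in `AB` -/
theorem exists_third_pt (hj : Jo V Z R A B) : ∃ Y, IsCj Z Y ∧ Y ≤ A ⊔ B ∧ Y ≠ A ∧ Y ≠ B := by
  obtain ⟨C, hc⟩ := h.exists_crit hj.l.symm
  obtain ⟨α, hα, hα1⟩ := h.pt_ne_bot hj.l.left
  obtain ⟨β, hβ, hβ1⟩ := h.pt_ne_bot hj.r.left
  have hne := h.jo_ne h2 hj
  have hv : α * β ∈ A ⊔ B := mul_mem (mem_sup_left hα) (mem_sup_right hβ)
  have hvA : α * β ∉ A := by
    intro e
    have h3 : β ∈ A := by
      have h4 := mul_mem (inv_mem hα) e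
      rwa [inv_mul_cancel_left] at h4
    exact hne (h.pts_eq hj.l.left hj.r.left h3 hβ hβ1)
  have hvB : α * β ∉ B := by
    intro e
    have h3 : α ∈ B := by
      have h4 := mul_mem e (inv_mem hβ)
      rwa [mul_inv_cancel_right] at h4
    exact hne (h.pts_eq hj.l.left hj.r.left hα h3 hα1)
  obtain ⟨w, hw, hwv⟩ := h.exists_cj_mem h2 hj hc hv hvA
  refine ⟨PT.cj w B, hj.r.left.cj w, h.cj_le_sup hj.l hj.r (le_UU hc.r.symm hw), ?_, ?_⟩
  · intro e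
    rw [e] at hwv
    exact hvA hwv
  · intro e
    rw [e] at hwv
    exact hvB hwv

/-! ### (e) -/

/-- **(e)** a critical pair `(C, R)` with middle `Q` is not joined at `Q` -/
theorem not_jo {Q : Subgroup G} (hc : Cr V Z C Q R) : ¬ Jo V Z Q R C := by
  intro hj
  obtain ⟨w, hw, hwC⟩ : ∃ w ∈ UU V Z R, PT.cj w C ≠ C := by
    by_contra hno
    push Not at hno
    refine hj.mv fun c hcC => mem_centralizer_iff.2 fun w hw => ?_
    exact h.t3n hj.r.symm (h.twoEl_UU hw) (fun z hz => (mem_cw.1 (h.R_le_cw hj.l hz)).2 w hw)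
      (hno w hw) c hcC
  have hj' := h.jo_symm h2 hj
  obtain ⟨E, hE⟩ := h.exists_crit hj'.l.symm
  obtain ⟨w', hw', hD⟩ := h.exists_cj_pt h2 hj' hE (hj.r.left.cj w)
    (by rw [sup_comm]; exact h.cj_le_sup hj.l hj.r hw) hwC
  have hw'U : w' ∈ UU V Z C := le_UU hE.r.symm hw'
  have hcr : Cr V Z C Q (PT.cj w C) := by
    have h3 := hc.cj w'
    rwa [h.cj_UU hw'U hj.r.left, h.cj_UU_adj hw'U hj.r, ← hD] at h3
  have hwQ : PT.cj w Q = Q := h.cj_UU_adj hw hj.l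
  obtain ⟨y, hy, hy'⟩ := h.exists_not_mem h2 hc.l.symm
  have hyN : y ∈ normalizer ((UU V Z R : Subgroup G) : Set G) :=
    normalizer_le_UU V Z R (centralizer_le_normalizer _ (h.ws_le_cent hc.l hc.r hy))
  have hyD : w * y * w⁻¹ ∈ ws V (PT.cj w C) := by
    rw [ws_cj]
    exact conj_mem_cj hy
  have ht : w * y * w⁻¹ * y⁻¹ ∈ UU V Z R := by
    have h3 := (mem_normalizer_iff.1 hyN w⁻¹).1 (inv_mem hw)
    have e : w * y * w⁻¹ * y⁻¹ = w * (y * w⁻¹ * y⁻¹) := by group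
    rw [e]
    exact mul_mem hw h3
  have ht2 := h.uu_sq hc.r.right ht
  have hyy : y * y = 1 := h.ws_sq hc.l.left hy
  have hyi : y⁻¹ = y := inv_eq_of_mul_eq_one_left hyy
  have hcomm : w * y * w⁻¹ * y * (w * y * w⁻¹)⁻¹ * y⁻¹ ∈ R := by
    have e : w * y * w⁻¹ * y * (w * y * w⁻¹)⁻¹ * y⁻¹ =
        w * y * w⁻¹ * y⁻¹ * (w * y * w⁻¹ * y⁻¹) := by
      have e1 : (w * y * w⁻¹)⁻¹ = w * y * w⁻¹ := by
        rw [mul_inv_rev, mul_inv_rev, inv_inv, hyi, mul_assoc]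
      rw [e1]
      nth_rewrite 2 [← hyi]
      group
    rw [e]
    exact ht2
  have hcomm' := h.comm _ Q _ hcr.symm _ hyD y hy
  have h1 : w * y * w⁻¹ * y * (w * y * w⁻¹)⁻¹ * y⁻¹ = 1 := by
    by_contra hne
    exact hc.r.ne (h.pts_eq hc.l.right hc.r.right hcomm' hcomm hne)
  rw [mul_inv_eq_one, mul_inv_eq_iff_eq_mul] at h1
  rcases h.cent_or h2 hcr.r (le_UU hc.l hy) hyD h1.symm with h3 | h3
  · rw [← hwQ, cw_cj, mem_cj] at h3
    have e : w⁻¹ * (w * y * w⁻¹) * w = y := by group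
    rw [e] at h3
    exact hy' h3
  · exact hy' (h.mem_cw_of_cr h2 hcr.symm hy h3)

/-- **(e)** `U_R` centralises `C` -/
theorem cent_of_cr {Q : Subgroup G} (hc : Cr V Z C Q R) : C ≤ centralizer ((UU V Z R : Subgroup G) : Set G) := by
  by_contra h3
  exact h.not_jo h2 hc ⟨hc.r.symm, hc.l, h3⟩

/-! ### (f) -/

/-- **(f)** `[U_R, W_C] ≤ Z(U_R)` -/
theorem comm_mem_zu {Q : Subgroup G} (hc : Cr V Z C Q R) {u y : G} (hu : u ∈ UU V Z R) (hy : y ∈ ws V C) :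
    u * y * u⁻¹ * y⁻¹ ∈ zu V Z R := by
  have hN : UU V Z R ≤ normalizer ((ws V C : Subgroup G) : Set G) := by
    intro v hv
    refine normalizer_le_ws V C (centralizer_le_normalizer _ (mem_centralizer_iff.2 fun c hcC => ?_))
    exact (mem_centralizer_iff.1 (h.cent_of_cr h2 hc hcC) v hv).symm
  have hyN : y ∈ normalizer ((UU V Z R : Subgroup G) : Set G) :=
    normalizer_le_UU V Z R (centralizer_le_normalizer _ (h.ws_le_cent hc.l hc.r hy))
  have hx1 : u * y * u⁻¹ * y⁻¹ ∈ ws V C :=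
    mul_mem ((mem_normalizer_iff.1 (hN hu) y).1 hy) (inv_mem hy)
  have hx2 : u * y * u⁻¹ * y⁻¹ ∈ UU V Z R := by
    have h3 := (mem_normalizer_iff.1 hyN u⁻¹).1 (inv_mem hu)
    have e : u * y * u⁻¹ * y⁻¹ = u * (y * u⁻¹ * y⁻¹) := by group
    rw [e]
    exact mul_mem hu h3
  refine mem_zu_iff.2 ⟨hx2, fun v hv => ?_⟩
  have h3 := h.uu_comm hc.r.right hv hx2
  have h4 := mul_mem ((mem_normalizer_iff.1 (hN hv) _).1 hx1) (inv_mem hx1)
  have h5 := h.star' hc h3 h4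
  rwa [mul_inv_eq_one, mul_inv_eq_iff_eq_mul] at h5

/-! ### (g) -/

/-- `W_{B^w} ≤ W_B Z(U_R)` for `w ∈ W_C`, `(C, R)` critical -/
theorem ws_cj_le {Q : Subgroup G} (hc : Cr V Z C Q R) (hB : Adj V Z B R) {w : G} (hw : w ∈ ws V C) :
    ws V (PT.cj w B) ≤ ws V B ⊔ zu V Z R := by
  intro x hx
  rw [ws_cj, mem_cj] at hx
  have h3 := comm_inv_mem (h.comm_mem_zu h2 hc (le_UU hB hx) hw)
  have e : x = (w * (w⁻¹ * x * w) * w⁻¹ * (w⁻¹ * x * w)⁻¹) * (w⁻¹ * x * w) := by group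
  rw [e]
  exact mul_mem (mem_sup_right h3) (mem_sup_left hx)

theorem sup_zu_cj {Q : Subgroup G} (hc : Cr V Z C Q R) (hB : Adj V Z B R) {w : G} (hw : w ∈ ws V C) :
    ws V (PT.cj w B) ⊔ zu V Z R = ws V B ⊔ zu V Z R := by
  have hwR : PT.cj w R = R := cj_eq_iff.2 (centralizer_le_normalizer _ (h.ws_le_cent hc.l hc.r hw))
  have hB' : Adj V Z (PT.cj w B) R := by
    have h3 := hB.cj w
    rwa [hwR] at h3
  apply le_antisymm
  · exact sup_le (h.ws_cj_le h2 hc hB hw) le_sup_right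
  · refine sup_le ?_ le_sup_right
    have h3 := h.ws_cj_le h2 hc hB' (inv_mem hw)
    rwa [cj_cj, inv_mul_cancel, cj_one] at h3

/-- **(g)** `W_A Z(U_R) = W_B Z(U_R)` if `A`, `B` are joined at `R` -/
theorem sup_zu (hj : Jo V Z R A B) : ws V A ⊔ zu V Z R = ws V B ⊔ zu V Z R := by
  obtain ⟨Y, hY, hYAB, hYA, hYB⟩ := h.exists_third_pt h2 hj
  have key : ∀ A B, Jo V Z R A B → Y ≤ A ⊔ B → Y ≠ A → ws V Y ⊔ zu V Z R = ws V B ⊔ zu V Z R := by
    intro A B hj hYAB hYA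
    obtain ⟨C, hc⟩ := h.exists_crit hj.l.symm
    obtain ⟨w, hw, rfl⟩ := h.exists_cj_pt h2 hj hc hY hYAB hYA
    exact h.sup_zu_cj h2 hc.symm hj.r hw
  rw [← key A B hj hYAB hYA, key B A (h.jo_symm h2 hj) (by rw [sup_comm]; exact hYAB) hYB]

/-- **(g)** joined points commute -/
theorem com_of_jo (hj : Jo V Z R A B) : Com V A B := by
  have h3 : ws V A ≤ ws V B ⊔ zu V Z R := by
    rw [← h.sup_zu h2 hj]
    exact le_sup_left
  refine h3.trans (sup_le (h.com_self hj.r.left) ?_)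
  intro z hz
  exact centralizer_le (le_UU hj.r : ws V B ≤ UU V Z R) hz.2

/-- **the output of (a) - (g)** -/
theorem tg : TG S P V Z where
  toTF := h
  h2 := h2
  symm _ _ _ hj := h.jo_symm h2 hj
  cent R A hA g hg w hw hgw := by
    rcases h.cent_or h2 hA hg hw hgw with h3 | h3
    · exact Or.inl h3
    · exact Or.inr (mem_centralizer_iff.2 fun x hx => (h3 x hx).symm)
  infc _ _ _ _ hj hY hYAB hYA := h.inf_const h2 hj hY hYAB hYA
  wz _ _ _ hj := h.sup_zu h2 hj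

end TF

end Cfsg.Agent.Omega.NO3S.MidB

end

-- merged: Cfsg.Agent.Mrg.Omega.NO3S.MidB.TGTwo
section

/-!
# NO-3S, the `(R, B)`-frame, TYPE N: the count without (H3) (bb OMEGA #18317 (3))

`MidQ/TNFCount.lean` over `MidB.Mid`.

* `TG.false` : `TG S P V Z → JDist V Z → False`.
-/

set_option autoImplicit false
set_option linter.unusedSectionVars false

namespace Cfsg.Agent.Omega.NO3S.MidB

open Subgroup Cfsg.Agent.Omega.NO3S.PT Cfsg.Agent.Omega.NoFF.Basic Cfsg.Agent.ZN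
open Cfsg.Agent.Omega.NO3S.MidQ (Adj Com Cr UU ws_of kx_of isCj_iff adj_iff com_iff cr_iff UU_of isCj_symm isCj_trans
  com_cj UU_cj le_UU normalizer_le_UU isPGroup_sSup FlagCan PtCan ff mem_ff ff_cj TypN cw mem_cw cw_le cw_cj Jo jo_cj zu
  H2 Cmp cmp_cj adj_cj cj_sup' bb bb_cj bb_congr R_le_bb le_bb card_mul_relIndex' card_sup_mul' DistP)
open Cfsg.Agent.Omega.NO3S.MidQ.TNF (nc cx mem_cx nc_cj cx_cj cx_le cx_le_cw cx_congr relIndex_le_of_conj'
  card_le_of_cong)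
open Cfsg.Agent.Omega.NO3S.MidQ.TNG (nn nn_cj)
open scoped Pointwise

variable {G : Type*} [Group G] {V Z X Y R L A A' B B' : Subgroup G}

namespace TG

variable [Finite G] {S : Sylow 2 G} {P : Subgroup G} (h : TG S P V Z)
include h

theorem mid : Mid S P V Z := h.toMid

theorem card_pt (hX : IsCj Z X) : Nat.card X = Nat.card Z := by
  obtain ⟨g, rfl⟩ := hX
  exact card_cj g Z

theorem one_lt : 1 < Nat.card Z := by
  have h1 := (Subgroup.one_lt_card_iff_ne_bot Z).2 h.mid.pl.Zne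
  exact h1

/-- `L ≤ U` if `R`, `B ≤ U` -/
theorem line_le' {U : Subgroup G} (hR : IsCj Z R) (hB : IsCj Z B) (hne : B ≠ R) (hL : IsCj V L) (hRL : R ≤ L)
    (hBL : B ≤ L) (hRU : R ≤ U) (hBU : B ≤ U) : L ≤ U := by
  obtain ⟨T, Q, h'⟩ := h.mid.flag hR hL hRL
  intro v hv
  obtain ⟨x, hx, y, hy, rfl⟩ := h'.pl.exists_mul h'.pl.isCj_self hRL ((isCj_iff hR).2 hB) hBL hne.symm hv
  exact mul_mem (hRU hx) (hBU hy)

/-- a subgroup containing all `B ~ R` contains `W_R` -/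
theorem ws_le_of {U : Subgroup G} (hR : IsCj Z R) (hRU : R ≤ U) (hU : ∀ B, Adj V Z B R → B ≤ U) : ws V R ≤ U := by
  refine ws_le fun L hL hRL => ?_
  obtain ⟨Y, hY, hYL, hYR⟩ := h.mid.exists_second hR hL hRL
  exact h.line_le' hR hY hYR hL hRL hYL hRU (hU Y ⟨hY, hR, hYR, L, hL, hYL, hRL⟩)

/-- some `E` is joined to `A` -/
theorem exists_jo (hA : Adj V Z A R) : ∃ E, Jo V Z R A E := by
  by_contra hcon
  push Not at hcon
  have h1 : ws V R ≤ cw V Z R A := h.ws_le_of hA.right (h.mid.R_le_cw hA) fun B hB => by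
    by_contra h2
    exact hcon B ((h.mid.jo_iff hA hB).2 h2)
  have h2 := h.h2 R A hA
  rw [relIndex_eq_one.2 (h1.trans inf_le_right)] at h2
  have h3 := h.one_lt
  omega

theorem cmp_line (hA : Adj V Z A R) (hA' : Adj V Z A' R) (hL : IsCj V L) (hRL : R ≤ L) (hAL : A ≤ L)
    (hAL' : A' ≤ L) : Cmp V Z R A A' := by
  obtain ⟨E, hE⟩ := h.exists_jo hA
  exact hE.cmp.trans (h.mid.jo_line_left hE hA' hL hRL hAL hAL').cmp.symm

theorem wz_cmp (hc : Cmp V Z R A B) : ws V A ⊔ zu V Z R = ws V B ⊔ zu V Z R := by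
  unfold Cmp at hc
  induction hc with
  | rel A B h1 => exact h.wz R A B h1
  | refl A => rfl
  | symm A B _ ih => exact ih.symm
  | trans A B C _ _ ih1 ih2 => exact ih1.trans ih2

theorem com_cmp (hA : Adj V Z A R) (hc : Cmp V Z R A B) : Com V A B := by
  have h1 : ws V B ≤ centralizer ((ws V A : Subgroup G) : Set G) := by
    have h2 : ws V B ≤ ws V A ⊔ zu V Z R := by rw [h.wz_cmp hc]; exact le_sup_left
    refine h2.trans (sup_le (h.mid.com_self hA.left) ?_)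
    exact inf_le_right.trans (centralizer_le (le_UU hA))
  exact comm_symm h1

/-- not all `B ~ R` are in one component -/
theorem exists_not_cmp (hA : Adj V Z A R) : ∃ B, Adj V Z B R ∧ ¬ Cmp V Z R A B := by
  by_contra hcon
  push Not at hcon
  obtain ⟨A₀, R₀, B₀, hc⟩ := h.ex
  obtain ⟨g, hg, -⟩ := h.mid.exists_adj hc.l hA
  have h1 := hc.cj g
  rw [hg] at h1
  exact h1.ne (h.com_cmp h1.l ((hcon _ h1.l).symm.trans (hcon _ h1.r.symm)))

/-- there are at least three components -/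
theorem exists_three (hA : Adj V Z A R) : ∃ B C, Adj V Z B R ∧ Adj V Z C R ∧ ¬ Cmp V Z R A B ∧ ¬ Cmp V Z R A C ∧
    ¬ Cmp V Z R B C := by
  obtain ⟨B, hB, hAB⟩ := h.exists_not_cmp hA
  by_contra hcon
  push Not at hcon
  have hdi : ∀ C, Adj V Z C R → Cmp V Z R A C ∨ Cmp V Z R B C := by
    intro C hC
    by_cases h1 : Cmp V Z R A C
    · exact Or.inl h1
    · exact Or.inr (hcon B C hB hC hAB h1)
  obtain ⟨g, hgR, hgA⟩ := h.mid.exists_adj hA hB
  have hcg : ∀ {C D : Subgroup G}, Cmp V Z R (cj g C) (cj g D) ↔ Cmp V Z R C D := by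
    intro C D
    have h1 := cmp_cj (V := V) (Z := Z) (R := R) (A := C) (B := D) (g := g)
    rwa [hgR] at h1
  have hag : ∀ {C : Subgroup G}, Adj V Z C R → Adj V Z (cj g C) R := by
    intro C hC
    have h1 := hC.cj g
    rwa [hgR] at h1
  have hsw : ∀ C, Adj V Z C R → (Cmp V Z R A (cj g C) ↔ ¬ Cmp V Z R A C) := by
    intro C hC
    constructor
    · intro h1 h2
      have h3 := hcg.2 h2
      rw [hgA] at h3
      exact hAB (h1.trans h3.symm)
    · intro h1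
      rcases hdi _ (hag hC) with h2 | h2
      · exact h2
      · rw [← hgA] at h2
        exact absurd (hcg.1 h2) h1
  obtain ⟨m, hm, ht⟩ := exists_odd_pow g
  have hpR : ∀ k : ℕ, cj (g ^ k) R = R := by
    intro k
    induction k with
    | zero => rw [pow_zero, cj_one]
    | succ k ih => rw [pow_succ, ← cj_cj, hgR, ih]
  have hap : ∀ (k : ℕ) {C : Subgroup G}, Adj V Z C R → Adj V Z (cj (g ^ k) C) R := by
    intro k C hC
    have h1 := hC.cj (g ^ k)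
    rwa [hpR k] at h1
  have hev : ∀ (k : ℕ) (C : Subgroup G), Adj V Z C R → (Cmp V Z R A (cj (g ^ (2 * k)) C) ↔ Cmp V Z R A C) := by
    intro k
    induction k with
    | zero => intro C _; rw [mul_zero, pow_zero, cj_one]
    | succ k ih =>
      intro C hC
      have e : g ^ (2 * (k + 1)) = g * (g * g ^ (2 * k)) := by
        rw [← pow_succ', ← pow_succ']
        rfl
      rw [e, ← cj_cj, hsw _ (by rw [← cj_cj]; exact hag (hap _ hC)), ← cj_cj, hsw _ (hap _ hC), not_not]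
      exact ih C hC
  have hod : ∀ C, Adj V Z C R → (Cmp V Z R A (cj (g ^ m) C) ↔ ¬ Cmp V Z R A C) := by
    intro C hC
    obtain ⟨k, rfl⟩ := hm
    rw [pow_succ', ← cj_cj, hsw _ (hap _ hC), hev k C hC]
  obtain ⟨L, hL, hRL, htL⟩ := h.mid.exists_fix_line hA.right ht (hpR m)
  obtain ⟨Y, hY, hYL, hYR⟩ := h.mid.exists_second hA.right hL hRL
  have hYa : Adj V Z Y R := ⟨hY, hA.right, hYR, L, hL, hYL, hRL⟩
  have h1 : Cmp V Z R Y (cj (g ^ m) Y) := by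
    refine h.cmp_line hYa (hap m hYa) hL hRL hYL ?_
    rw [← htL]
    exact cj_le_cj.2 hYL
  have h2 := hod Y hYa
  by_cases h3 : Cmp V Z R A Y
  · exact (h2.1 (h3.trans h1)) h3
  · exact h3 ((h2.2 h3).trans h1.symm)

theorem bb_le (hR : IsCj Z R) : bb V Z R A ≤ ws V R := by
  refine sup_le (h.mid.pt_le_ws hR) (sSup_le ?_)
  rintro B ⟨hB, -⟩
  exact h.mid.adj_le_ws hB.symm

/-- `B ≤ cx A` if `B` is not in the component of `A` -/
theorem pt_le_cx (hB : Adj V Z B R) (hAB : ¬ Cmp V Z R A B) : B ≤ cx V Z R A := by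
  intro x hx
  refine mem_cx.2 ⟨h.mid.adj_le_ws hB.symm hx, fun D hD hAD u hu => ?_⟩
  by_contra hne
  have h1 : Jo V Z R D B := ⟨hD, hB, fun e => hne (mem_centralizer_iff.1 (e hx) u hu)⟩
  exact hAB (hAD.trans h1.cmp)

theorem R_le_cx (hA : Adj V Z A R) : R ≤ cx V Z R A := fun _ hx =>
  mem_cx.2 ⟨h.mid.pt_le_ws hA.right hx, fun _ hD _ => (mem_cw.1 (h.mid.R_le_cw hD hx)).2⟩

/-- the block of `B` is in `cx A` -/
theorem bb_le_cx (hA : Adj V Z A R) (hAB : ¬ Cmp V Z R A B) : bb V Z R B ≤ cx V Z R A := by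
  refine sup_le (h.R_le_cx hA) (sSup_le ?_)
  rintro C ⟨hC, hBC⟩
  exact h.pt_le_cx hC fun e => hAB (e.trans hBC.symm)

theorem bb_sup_cx (hA : Adj V Z A R) : bb V Z R A ⊔ cx V Z R A = ws V R := by
  apply le_antisymm (sup_le (h.bb_le hA.right) cx_le)
  refine h.ws_le_of hA.right ((R_le_bb V Z R A).trans le_sup_left) fun B hB => ?_
  by_cases h1 : Cmp V Z R A B
  · exact (le_bb hB h1).trans le_sup_left
  · exact (h.pt_le_cx hB h1).trans le_sup_right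

theorem card_cx {R' : Subgroup G} (hA : Adj V Z A R) (hA' : Adj V Z A' R') :
    Nat.card (cx V Z R A) = Nat.card (cx V Z R' A') := by
  obtain ⟨g, hg, hgA⟩ := h.mid.exists_adj hA hA'
  rw [← hg, ← hgA, cx_cj, card_cj]

theorem ws_comm' (hR : IsCj Z R) {K K' : Subgroup G} (hK : K ≤ ws V R) (hK' : K' ≤ ws V R) :
    ∀ a ∈ K, ∀ b ∈ K', a * b = b * a := fun _ ha _ hb => h.mid.ws_comm hR (hK ha) (hK' hb)

theorem card_ws {R' : Subgroup G} (hR : IsCj Z R) (hR' : IsCj Z R') : Nat.card (ws V R) = Nat.card (ws V R') := by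
  obtain ⟨g, hg⟩ := hR
  obtain ⟨g', hg'⟩ := hR'
  rw [hg, hg', ws_cj, ws_cj, card_cj, card_cj]

/-- `|W_R|² s ≤ |cx|³` -/
theorem le_card_ws (hA : Adj V Z A R) :
    Nat.card (ws V R) ^ 2 * Nat.card Z ≤ Nat.card (cx V Z R A) ^ 3 := by
  obtain ⟨B, C, hB, hC, hAB, hAC, hBC⟩ := h.exists_three hA
  have hR := hA.right
  -- `cx C ⊔ cx B = W_R`
  have s1 : cx V Z R C ⊔ cx V Z R B = ws V R := by
    refine le_antisymm (sup_le cx_le cx_le) ?_
    rw [← h.bb_sup_cx hB]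
    exact sup_le ((h.bb_le_cx hC fun e => hBC e.symm).trans le_sup_left) le_sup_right
  have s2 : cx V Z R A ⊔ (cx V Z R C ⊓ cx V Z R B) = ws V R := by
    refine le_antisymm (sup_le cx_le (inf_le_left.trans cx_le)) ?_
    rw [← h.bb_sup_cx hA]
    exact sup_le ((le_inf (h.bb_le_cx hC fun e => hAC e.symm) (h.bb_le_cx hB fun e => hAB e.symm)).trans
      le_sup_right) le_sup_left
  have c1 := card_sup_mul' (h.ws_comm' hR (cx_le (V := V) (Z := Z) (R := R) (A := C))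
    (cx_le (V := V) (Z := Z) (R := R) (A := B)))
  have c2 := card_sup_mul' (h.ws_comm' hR (cx_le (V := V) (Z := Z) (R := R) (A := A))
    (inf_le_left.trans cx_le : cx V Z R C ⊓ cx V Z R B ≤ ws V R))
  rw [s1, h.card_cx hC hA, h.card_cx hB hA] at c1
  rw [s2] at c2
  have h1 : R ≤ cx V Z R A ⊓ (cx V Z R C ⊓ cx V Z R B) := le_inf (h.R_le_cx hA) (le_inf (h.R_le_cx hC) (h.R_le_cx hB))
  have h3 : Nat.card Z ≤ Nat.card (cx V Z R A ⊓ (cx V Z R C ⊓ cx V Z R B) : Subgroup G) := by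
    rw [← h.card_pt hR]
    exact Nat.card_le_card_of_injective _ (Subgroup.inclusion_injective h1)
  set c := Nat.card (cx V Z R A)
  set w := Nat.card (ws V R)
  calc w ^ 2 * Nat.card Z ≤ w ^ 2 * Nat.card (cx V Z R A ⊓ (cx V Z R C ⊓ cx V Z R B) : Subgroup G) :=
        Nat.mul_le_mul_left _ h3
    _ = w * (w * Nat.card (cx V Z R A ⊓ (cx V Z R C ⊓ cx V Z R B) : Subgroup G)) := by ring
    _ = w * (c * Nat.card (cx V Z R C ⊓ cx V Z R B : Subgroup G)) := by rw [c2]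
    _ = c * (w * Nat.card (cx V Z R C ⊓ cx V Z R B : Subgroup G)) := by ring
    _ = c ^ 3 := by rw [c1]; ring

/-- (0.b) `[W_R, U_A] ≤ A` -/
theorem comm_UU (hA : Adj V Z A R) {u w : G} (hu : u ∈ UU V Z A) (hw : w ∈ ws V R) : u * w * u⁻¹ * w⁻¹ ∈ A := by
  let K : Subgroup G :=
    { carrier := {g | g ∈ centralizer (A : Set G) ∧ ∀ w ∈ ws V R, g * w * g⁻¹ * w⁻¹ ∈ A}
      one_mem' := ⟨one_mem _, fun w _ => by simp⟩
      mul_mem' := by
        rintro a b ⟨ha, ha'⟩ ⟨hb, hb'⟩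
        refine ⟨mul_mem ha hb, fun w hw => ?_⟩
        have e : a * b * w * (a * b)⁻¹ * w⁻¹ = a * (b * w * b⁻¹ * w⁻¹) * a⁻¹ * (a * w * a⁻¹ * w⁻¹) := by group
        have e2 : a * (b * w * b⁻¹ * w⁻¹) * a⁻¹ = b * w * b⁻¹ * w⁻¹ := by
          rw [← mem_centralizer_iff.1 ha _ (hb' w hw), mul_inv_cancel_right]
        rw [e, e2]
        exact A.mul_mem (hb' w hw) (ha' w hw)
      inv_mem' := by
        rintro a ⟨ha, ha'⟩
        refine ⟨inv_mem ha, fun w hw => ?_⟩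
        have e : a⁻¹ * w * a⁻¹⁻¹ * w⁻¹ = a⁻¹ * (a * w * a⁻¹ * w⁻¹)⁻¹ * a := by group
        have h1 := A.inv_mem (ha' w hw)
        rw [e, mul_assoc, mem_centralizer_iff.1 ha _ h1, inv_mul_cancel_left]
        exact h1 }
  have h1 : UU V Z A ≤ K := by
    refine sSup_le ?_
    rintro _ ⟨C, hC, rfl⟩ c hc
    refine ⟨h.mid.ws_le_cent' hC hc, fun w hw => ?_⟩
    by_cases h2 : Com V C R
    · have h3 := mem_centralizer_iff.1 (h2 hc) w hw
      have e : c * w * c⁻¹ * w⁻¹ = 1 := by rw [← h3]; group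
      rw [e]
      exact one_mem _
    · exact h.comm C A R ⟨hC, hA, h2⟩ c hc w hw
  exact (h1 hu).2 w hw

/-- `I_L ∩ cx R B ≤ R` -/
theorem inf_cx (hB : Adj V Z B R) (hL : IsCj V L) (hRL : R ≤ L) (hBL : B ≤ L)
    {u : G} (hu : u ∈ ws V B) (huR : u ∈ ws V R) (huc : u ∈ cx V Z R B) : u ∈ R := by
  have hm := h.mid
  refine hm.lemF_flag (N := nn V Z) (fun g X L _ _ _ => nn_cj V Z X L g) ?_ ?_ hB.right hL hRL hB.left hBL
    hB.ne huR hu ?_
  · intro X L hX hL hXL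
    refine sSup_le ?_
    rintro _ ⟨D, A, h1, h2, h3, h4, rfl⟩
    exact hm.UU_le_cent_adj h1.symm
  · intro X L hX hL hXL
    obtain ⟨A, hA, hAL, hAX⟩ := hm.exists_second hX hL hXL
    have hAa : Adj V Z A X := ⟨hA, hX, hAX, L, hL, hAL, hXL⟩
    obtain ⟨E, hE⟩ := h.exists_jo hAa
    have hE' := h.symm _ _ _ hE
    obtain ⟨n, hn, v, hv, hnv⟩ : ∃ n ∈ UU V Z E, ∃ v ∈ A, n * v ≠ v * n := by
      by_contra hcon
      push Not at hcon
      exact hE'.mv fun v hv => mem_centralizer_iff.2 fun n hn => hcon n hn v hv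
    refine ⟨n, ?_, v, hAL hv, fun h1 => hnv ?_⟩
    · exact (le_sSup (show UU V Z E ∈ {U | ∃ D A, Adj V Z D X ∧ Adj V Z A X ∧ A ≤ L ∧ Cmp V Z X A D ∧ U = UU V Z D}
        from ⟨E, A, hE.r, hAa, hAL, hE.cmp, rfl⟩)) hn
    · have h2 := h.comm_UU hE.r hn (hm.adj_le_ws hAa.symm hv)
      by_contra h3
      have h4 : n * v * n⁻¹ * v⁻¹ ≠ 1 := fun e => h3 (by
        rw [mul_inv_eq_one, mul_inv_eq_iff_eq_mul] at e
        exact e)
      exact hE.r.ne (hm.pts_eq hE.r.left hX h2 h1 h4)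
  · intro n hn
    have h1 : nn V Z R L ≤ centralizer ({u} : Set G) := by
      refine sSup_le ?_
      rintro _ ⟨D, A, h1, h2, h3, h4, rfl⟩ x hx
      rw [mem_centralizer_singleton_iff]
      have h5 : Cmp V Z R B D := (h.cmp_line hB h2 hL hRL hBL h3).trans h4
      exact (mem_cx.1 huc).2 D h1 h5 x hx
    have h2 : n * u = u * n := mem_centralizer_singleton_iff.1 (h1 hn)
    rw [h2, mul_inv_cancel_right, mul_inv_cancel]
    exact one_mem _

/-- an element of a line on `R` which is centralised by all `U_D`, `D ~ R`, is in `R` -/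
theorem line_cen (hR : IsCj Z R) (hL : IsCj V L) (hRL : R ≤ L) {x : G} (hx : x ∈ L)
    (hc : ∀ D, Adj V Z D R → ∀ u ∈ UU V Z D, u * x = x * u) : x ∈ R := by
  by_contra hxR
  have hm := h.mid
  have hx1 : x ≠ 1 := fun e => hxR (e ▸ one_mem _)
  obtain ⟨X, hX, hXL, hxX⟩ := hm.exists_point hL hx hx1
  have hXR : X ≠ R := fun e => hxR (e ▸ hxX)
  have hXa : Adj V Z X R := ⟨hX, hR, hXR, L, hL, hXL, hRL⟩
  obtain ⟨E, hE⟩ := h.exists_jo hXa
  have hE' := h.symm _ _ _ hE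
  exact hx1 (hm.inf_cw hE' hxX (mem_cw.2 ⟨hm.line_le hL hRL hx, hc E hE.r⟩))

/-! ### (j) -/

/-- **(j)** -/
theorem index_le (hd : JDist V Z) (hj : Jo V Z R A B) :
    (ws V B).relIndex (ws V A) * Nat.card (cx V Z R A) ≤ Nat.card (ws V R) := by
  have hm := h.mid
  have hj' := h.symm _ _ _ hj
  obtain ⟨C, hC, hCA⟩ : ∃ C, Adj V Z C B ∧ ¬ A ≤ centralizer ((ws V C : Subgroup G) : Set G) := by
    by_contra hcon
    push Not at hcon
    refine hj'.mv (comm_symm (sSup_le ?_))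
    rintro _ ⟨C, hC, rfl⟩
    exact comm_symm (hcon C hC)
  have hcr : Cr V Z C B R := ⟨hC, hj.r, fun e => hCA ((hm.adj_le_ws hj.l.symm).trans e.symm)⟩
  obtain ⟨E, hE⟩ := h.exists_jo hC.symm
  obtain ⟨α, hα, hα1⟩ := hm.pt_ne_bot hj.l.left
  obtain ⟨ε, hε, hε1⟩ := hm.pt_ne_bot hE.r.left
  have hαR : α ∈ ws V R := hm.adj_le_ws hj.l.symm hα
  have hαU : α ∈ UU V Z B := le_UU hj.r.symm hαR
  have hεC : ε ∈ ws V C := hm.adj_le_ws hE.r.symm hε
  have hαC : α ∉ centralizer ((ws V C : Subgroup G) : Set G) := by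
    intro h1
    refine hCA fun a ha => mem_centralizer_iff.2 fun w hw => ?_
    exact hm.t3 hj.l.symm (hm.twoEl_ws hC.left hw)
      (fun z hz => (mem_centralizer_iff.1 (hm.ws_le_cent hC hj.r hw) z hz).symm) hα hα1
      (mem_centralizer_iff.1 h1 w hw) a ha
  have hcen : ∀ w ∈ ws V C, α * w = w * α → w ∈ cw V Z C B := fun w hw hw' =>
    (h.cent C B hC.symm α hαU w hw hw').resolve_right hαC
  have hcom : Com V A B := h.com_cmp hj.l hj.cmp
  have hyC : ∀ y ∈ ws V A, cj y C = C ∧ cj y B = B ∧ ∀ x ∈ ws V B, y * x = x * y := by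
    intro y hy
    have hyB : ∀ x ∈ ws V B, y * x = x * y := fun x hx => (mem_centralizer_iff.1 (hcom hy) x hx).symm
    refine ⟨?_, ?_, hyB⟩
    · rw [cj_eq_iff]
      refine centralizer_le_normalizer _ (mem_centralizer_iff.2 fun c hc => ?_)
      exact (hyB c (hm.adj_le_ws hC.symm hc)).symm
    · rw [cj_eq_iff]
      refine centralizer_le_normalizer _ (mem_centralizer_iff.2 fun c hc => ?_)
      exact (hyB c (hm.pt_le_ws hC.right hc)).symm
  have key : ∀ y ∈ ws V A, y * ε * y⁻¹ * ε⁻¹ ∈ bb V Z C B ⊓ cw V Z C B := by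
    intro y hy
    obtain ⟨h1, h2, hyB⟩ := hyC y hy
    have h3 : ε ∈ bb V Z C B := le_bb hE.r hE.cmp hε
    have h4 : y * ε * y⁻¹ ∈ bb V Z C B := by
      have h5 := bb_cj V Z C B y
      rw [h1, h2] at h5
      rw [h5]
      exact conj_mem_cj h3
    have h6 : y * ε * y⁻¹ ∈ ws V C := h.bb_le hC.left h4
    refine ⟨(bb V Z C B).mul_mem h4 ((bb V Z C B).inv_mem h3),
      hcen _ ((ws V C).mul_mem h6 ((ws V C).inv_mem hεC)) ?_⟩
    have hyα : y * α = α * y := hm.ws_comm hj.l.left hy (hm.pt_le_ws hj.l.left hα)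
    have h7 := hyB _ (hm.pt_le_ws hC.right (h.comm C B R hcr ε hεC α hαR))
    have hyα' : y⁻¹ * α = α * y⁻¹ := by
      rw [inv_mul_eq_iff_eq_mul, ← mul_assoc, hyα, mul_inv_cancel_right]
    have h8 : y * ε * y⁻¹ * α * (y * ε * y⁻¹)⁻¹ = ε * α * ε⁻¹ := by
      calc y * ε * y⁻¹ * α * (y * ε * y⁻¹)⁻¹ = y * ε * (y⁻¹ * α) * y * ε⁻¹ * y⁻¹ := by group
        _ = y * ε * (α * y⁻¹) * y * ε⁻¹ * y⁻¹ := by rw [hyα']
        _ = y * (ε * α * ε⁻¹ * α⁻¹) * α * y⁻¹ := by group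
        _ = (ε * α * ε⁻¹ * α⁻¹) * y * α * y⁻¹ := by rw [h7]
        _ = (ε * α * ε⁻¹ * α⁻¹) * (y * α) * y⁻¹ := by group
        _ = ε * α * ε⁻¹ := by rw [hyα]; group
    have h9 : y * ε * y⁻¹ * ε⁻¹ = ε⁻¹ * (y * ε * y⁻¹) := hm.ws_comm hC.left h6 ((ws V C).inv_mem hεC)
    rw [h9]
    calc α * (ε⁻¹ * (y * ε * y⁻¹)) = ε⁻¹ * (ε * α * ε⁻¹) * (y * ε * y⁻¹) := by group
      _ = ε⁻¹ * (y * ε * y⁻¹ * α * (y * ε * y⁻¹)⁻¹) * (y * ε * y⁻¹) := by rw [h8]
      _ = ε⁻¹ * (y * ε * y⁻¹) * α := by group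
  -- the set of the values
  let T : Set G := {t | ∃ y ∈ ws V A, t = y * ε * y⁻¹ * ε⁻¹}
  have h1 : (centralizer ({ε} : Set G)).relIndex (ws V A) ≤ Nat.card T :=
    relIndex_le_of_conj' fun y hy => ⟨y, hy, rfl⟩
  have h2 : Nat.card T ≤ (cx V Z C B).relIndex (cw V Z C B) * Nat.card C := by
    refine card_le_of_cong ?_ ?_
    · rintro _ ⟨y, hy, rfl⟩
      exact (key y hy).2
    · rintro _ ⟨y, hy, rfl⟩ _ ⟨y', hy', rfl⟩ hx
      obtain ⟨e1, e2, hyB⟩ := hyC y hy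
      obtain ⟨e1', e2', hyB'⟩ := hyC y' hy'
      have hE1 : Adj V Z (cj y E) C := by
        have h5 := hE.r.cj y
        rwa [e1] at h5
      have hE2 : Adj V Z (cj y' E) C := by
        have h5 := hE.r.cj y'
        rwa [e1'] at h5
      have q1 : y * ε * y⁻¹ ∈ cj y E := conj_mem_cj hε
      have q2 : y' * ε * y'⁻¹ ∈ cj y' E := conj_mem_cj hε
      have w1 := hm.adj_le_ws hE1.symm q1
      have w2 := hm.adj_le_ws hE2.symm q2
      have e : (y * ε * y⁻¹ * ε⁻¹)⁻¹ * (y' * ε * y'⁻¹ * ε⁻¹) = y' * ε * y'⁻¹ * (y * ε * y⁻¹)⁻¹ := by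
        have c1 : ε⁻¹ * (y' * ε * y'⁻¹) = y' * ε * y'⁻¹ * ε⁻¹ := (hm.ws_comm hC.left w2 ((ws V C).inv_mem hεC)).symm
        have c2 : (y * ε * y⁻¹)⁻¹ * (y' * ε * y'⁻¹) = (y' * ε * y'⁻¹) * (y * ε * y⁻¹)⁻¹ :=
          (hm.ws_comm hC.left w2 ((ws V C).inv_mem w1)).symm
        calc (y * ε * y⁻¹ * ε⁻¹)⁻¹ * (y' * ε * y'⁻¹ * ε⁻¹)
            = ε * (y * ε * y⁻¹)⁻¹ * ((y' * ε * y'⁻¹) * ε⁻¹) := by group
          _ = ε * (y * ε * y⁻¹)⁻¹ * (ε⁻¹ * (y' * ε * y'⁻¹)) := by rw [c1]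
          _ = ε * ((y * ε * y⁻¹)⁻¹ * ε⁻¹) * (y' * ε * y'⁻¹) := by group
          _ = ε * (ε⁻¹ * (y * ε * y⁻¹)⁻¹) * (y' * ε * y'⁻¹) := by
            rw [hm.ws_comm hC.left ((ws V C).inv_mem w1) ((ws V C).inv_mem hεC)]
          _ = (y * ε * y⁻¹)⁻¹ * (y' * ε * y'⁻¹) := by group
          _ = _ := c2
      rw [e] at hx ⊢
      have hb1 : y' * ε * y'⁻¹ * (y * ε * y⁻¹)⁻¹ ∈ bb V Z C B := by
        rw [← e]
        exact mul_mem (inv_mem (key y hy).1) (key y' hy').1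
      have hcen' : ∀ D, Adj V Z D C → ∀ u ∈ UU V Z D,
          u * (y' * ε * y'⁻¹ * (y * ε * y⁻¹)⁻¹) = y' * ε * y'⁻¹ * (y * ε * y⁻¹)⁻¹ * u := by
        intro D hD
        by_cases h5 : Cmp V Z C B D
        · exact (mem_cx.1 hx).2 D hD h5
        · have h6 := h.bb_le_cx hD (B := B) (fun e => h5 e.symm) hb1
          exact (mem_cx.1 h6).2 D hD (Relation.EqvGen.refl _)
      exact hd C (cj y' E) (cj y E) hE2 hE1 _ q2 _ (inv_mem q1) hcen'
  -- `C_{W_A}(ε) ≤ W_A ∩ W_B`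
  have h3 : centralizer ({ε} : Set G) ⊓ ws V A ≤ ws V B := by
    rintro y ⟨hy, hyA⟩
    have hyε : y * ε = ε * y := mem_centralizer_singleton_iff.1 hy
    have h4 : y ∈ ws V (cj ε A) := by
      rw [ws_cj, mem_cj]
      have e : ε⁻¹ * y * ε = y := by rw [mul_assoc, hyε, inv_mul_cancel_left]
      rw [e]
      exact hyA
    have h5 : cj ε A ≠ A := by
      intro e
      have h6 := hm.t3n hj.l.symm (hm.twoEl_ws hC.left hεC)
        (fun z hz => (mem_centralizer_iff.1 (hm.ws_le_cent hC hj.r hεC) z hz).symm) e α hα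
      exact hε1 (hm.inf_cw hE hε (hcen ε hεC h6.symm))
    have h6 : cj ε A ≤ A ⊔ B := by
      intro x hx
      rw [mem_cj] at hx
      have h7 := h.comm C B R hcr ε hεC _ (hm.adj_le_ws hj.l.symm hx)
      have e : x = (ε * (ε⁻¹ * x * ε) * ε⁻¹ * (ε⁻¹ * x * ε)⁻¹) * (ε⁻¹ * x * ε) := by group
      rw [e]
      exact mul_mem (mem_sup_right h7) (mem_sup_left hx)
    have h7 := h.infc R A B _ hj (hj.l.left.cj ε) h6 h5
    have h8 : y ∈ ws V A ⊓ ws V (cj ε A) := ⟨hyA, h4⟩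
    rw [h7] at h8
    exact h8.2
  have h4 : (ws V B).relIndex (ws V A) ≤ (centralizer ({ε} : Set G)).relIndex (ws V A) := by
    rw [← inf_relIndex_right (centralizer ({ε} : Set G))]
    exact relIndex_le_of_le_left h3 (by
      rw [inf_relIndex_right]
      exact Subgroup.index_ne_zero_of_finite)
  -- orders
  have h5 := card_mul_relIndex' (cx_le_cw (V := V) (Z := Z) hC.symm)
  have h6 : Nat.card (cw V Z C B) * Nat.card Z = Nat.card (ws V C) := by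
    have h1 := card_mul_relIndex' (cw_le (V := V) (Z := Z) (R := C) (A := B))
    rw [cw, inf_comm, inf_relIndex_right, h.h2 C B hC.symm] at h1
    rw [cw, inf_comm]
    exact h1
  rw [h.card_pt hC.left] at h2
  rw [h.card_cx hj.l hC.symm, h.card_ws hj.l.right hC.left]
  calc (ws V B).relIndex (ws V A) * Nat.card (cx V Z C B)
      ≤ (cx V Z C B).relIndex (cw V Z C B) * Nat.card Z * Nat.card (cx V Z C B) :=
        Nat.mul_le_mul_right _ ((h4.trans h1).trans h2)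
    _ = Nat.card (cx V Z C B) * (cx V Z C B).relIndex (cw V Z C B) * Nat.card Z := by ring
    _ = Nat.card (ws V C) := by rw [h5, h6]

/-- **(3)**: THEOREM N1 without (H3), second half -/
theorem false (hd : JDist V Z) : False := by
  have hm := h.mid
  obtain ⟨B, R, B₀, hc⟩ := h.ex
  have hB : Adj V Z B R := hc.l
  have hR := hB.right
  obtain ⟨A, hBA⟩ := h.exists_jo hB
  have hj : Jo V Z R A B := h.symm _ _ _ hBA
  obtain ⟨L, hL, hBL, hRL⟩ := hB.line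
  obtain ⟨B', hB'p, hBL', hBR', hBB'⟩ := hm.exists_third hR hB.left hL hRL hBL hB.ne.symm
  have hB' : Adj V Z B' R := ⟨hB'p, hR, hBR', L, hL, hBL', hRL⟩
  have hj2 : Jo V Z R A B' := hm.jo_line_right hj hB' hL hRL hBL hBL'
  have i1 := h.index_le hd hj
  have i2 := h.index_le hd hj2
  have hn := h.le_card_ws hj.l
  set c := Nat.card (cx V Z R A) with hc0
  set s := Nat.card Z with hs0
  set w := Nat.card (ws V R) with hw0
  have hs : 1 < s := h.one_lt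
  -- the line group
  have hI : ws V B ⊓ ws V B' ≤ ws V R := hm.inf_le hL hB.left hB'p hR hBL hBL' hRL hBB'.symm
  have hIc : ws V B ⊓ ws V B' ≤ cw V Z R B := by
    intro x hx
    rw [mem_cw]
    exact ⟨hI hx, fun u hu => (mem_centralizer_iff.1 (hm.UU_le_centralizer B hu) x hx.1).symm⟩
  have hIR : (ws V B ⊓ ws V B') ⊓ cx V Z R B = R := by
    apply le_antisymm
    · rintro u ⟨hu, hu'⟩
      exact h.inf_cx hB hL hRL hBL hu.1 (hI hu) hu'
    · exact le_inf (le_inf (hm.adj_le_ws hB) (hm.adj_le_ws hB')) (h.R_le_cx hB)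
  have c1 := card_sup_mul' (h.ws_comm' hR hI (cx_le (V := V) (Z := Z) (R := R) (A := B)))
  rw [hIR, h.card_pt hR, h.card_cx hB hj.l] at c1
  have c2 : Nat.card (ws V B ⊓ ws V B' ⊔ cx V Z R B : Subgroup G) ≤ Nat.card (cw V Z R B) :=
    Nat.card_le_card_of_injective _ (Subgroup.inclusion_injective (sup_le hIc (cx_le_cw hB)))
  have c3 : Nat.card (cw V Z R B) * s = w := by
    have h1 := card_mul_relIndex' (cw_le (V := V) (Z := Z) (R := R) (A := B))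
    rw [cw, inf_comm, inf_relIndex_right, h.h2 R B hB] at h1
    rw [cw, inf_comm]
    exact h1
  -- `|I| c ≤ w`
  have c5 : Nat.card (ws V B ⊓ ws V B' : Subgroup G) * c ≤ w := by
    calc Nat.card (ws V B ⊓ ws V B' : Subgroup G) * c
        = Nat.card (ws V B ⊓ ws V B' ⊔ cx V Z R B : Subgroup G) * s := c1.symm
      _ ≤ Nat.card (cw V Z R B) * s := Nat.mul_le_mul_right _ c2
      _ = w := c3
  -- `|D| s ≤ |I|`
  have d1 : B ⊓ (ws V B ⊓ ws V B' ⊓ ws V A) = ⊥ := by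
    rw [eq_bot_iff]
    rintro x ⟨hx, -, hx'⟩
    rw [mem_bot]
    refine hm.inf_cw hj hx (mem_cw.2 ⟨hm.adj_le_ws hB.symm hx, fun u hu => ?_⟩)
    exact (mem_centralizer_iff.1 (hm.UU_le_centralizer A hu) x hx').symm
  have hBI : B ≤ ws V B ⊓ ws V B' :=
    le_inf (hm.pt_le_ws hB.left) (hm.adj_le_ws ⟨hB'p, hB.left, hBB', L, hL, hBL', hBL⟩)
  have d2 := card_sup_mul' (h.ws_comm' hB.left (hm.pt_le_ws hB.left)
    ((inf_le_left.trans inf_le_left : ws V B ⊓ ws V B' ⊓ ws V A ≤ ws V B)))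
  rw [d1, card_bot, mul_one, h.card_pt hB.left] at d2
  have d3 : s * Nat.card (ws V B ⊓ ws V B' ⊓ ws V A : Subgroup G) ≤ Nat.card (ws V B ⊓ ws V B' : Subgroup G) := by
    rw [← d2]
    exact Nat.card_le_card_of_injective _ (Subgroup.inclusion_injective (sup_le hBI inf_le_left))
  -- `|W_A| ≤ i₁ i₂ |D|`
  have e1 := card_mul_relIndex' (inf_le_right : ws V B ⊓ ws V B' ⊓ ws V A ≤ ws V A)
  rw [inf_relIndex_right] at e1
  have e2 : (ws V B ⊓ ws V B').relIndex (ws V A) ≤ (ws V B).relIndex (ws V A) * (ws V B').relIndex (ws V A) :=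
    relIndex_inf_le
  have e3 : Nat.card (ws V A) = w := h.card_ws hj.l.left hR
  have hW0 : 0 < w := Nat.card_pos
  rw [e3] at e1
  have e4 : w * s * c ^ 3 ≤ w ^ 3 := by
    calc w * s * c ^ 3
        = (Nat.card (ws V B ⊓ ws V B' ⊓ ws V A : Subgroup G) * (ws V B ⊓ ws V B').relIndex (ws V A)) * s * c ^ 3 := by
          rw [e1]
      _ ≤ Nat.card (ws V B ⊓ ws V B' ⊓ ws V A : Subgroup G) *
            ((ws V B).relIndex (ws V A) * (ws V B').relIndex (ws V A)) * s * c ^ 3 := by gcongr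
      _ = ((ws V B).relIndex (ws V A) * c) * ((ws V B').relIndex (ws V A) * c) *
            ((s * Nat.card (ws V B ⊓ ws V B' ⊓ ws V A : Subgroup G)) * c) := by ring
      _ ≤ w * w * w := by
        refine Nat.mul_le_mul (Nat.mul_le_mul i1 i2) ?_
        exact (Nat.mul_le_mul_right _ d3).trans c5
      _ = w ^ 3 := by ring
  have e5 : w * s * (w ^ 2 * s) ≤ w ^ 3 := (Nat.mul_le_mul_left _ hn).trans e4
  have e6 : w ^ 3 * (s * s) ≤ w ^ 3 * 1 := by
    calc w ^ 3 * (s * s) = w * s * (w ^ 2 * s) := by ring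
      _ ≤ w ^ 3 := e5
      _ = w ^ 3 * 1 := (mul_one _).symm
  have e7 := Nat.le_of_mul_le_mul_left e6 (pow_pos hW0 3)
  nlinarith

end TG

end Cfsg.Agent.Omega.NO3S.MidB

end

-- merged: Cfsg.Agent.Mrg.Omega.NO3S.MidB.TGEnd
section

section


/-!
# NO-3S, the `(R, B)`-frame, TYPE N: (H2) and (DIST) are contradictory (bb OMEGA #18317 (3))
-/

set_option autoImplicit false

namespace Cfsg.Agent.Omega.NO3S.MidB

open Subgroup
open Cfsg.Agent.Omega.NO3S.MidQ (H2)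

variable {G : Type*} [Group G] [Finite G] {S : Sylow 2 G} {P V Z : Subgroup G}

/-- **(3)** -/
theorem TF.false_of_h2 (h : TF S P V Z) (h2 : H2 V Z) (hd : JDist V Z) : False := (h.tg h2).false hd

end Cfsg.Agent.Omega.NO3S.MidB

end

section


/-!
# TYPE N, case (A2): the blocks (bb OMEGA #18317, TCARD 5 D)

* `Eqv V Z R A B` : `A`, `B ~ R` are on a line with `R` or joined at `R`; an equivalence relation;
* `blk V Z R A` : the block of `A` at `R`, `TF.mem_blk`;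
* `Good V Z R H`, `TF.good_sup`.
-/

set_option autoImplicit false
set_option linter.unusedSectionVars false

namespace Cfsg.Agent.Omega.NO3S.MidB

open Subgroup Cfsg.Agent.Omega.NO3S.PT Cfsg.Agent.Omega.NoFF.Basic Cfsg.Agent.ZN
open Cfsg.Agent.Omega.NO3S.MidQ (Adj Com Cr UU ws_of kx_of isCj_iff adj_iff com_iff cr_iff UU_of isCj_symm isCj_trans
  com_cj UU_cj le_UU normalizer_le_UU isPGroup_sSup FlagCan PtCan ff mem_ff ff_cj TypN cw mem_cw cw_le cw_cj Jo jo_cj zu)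
open scoped Pointwise

variable {G : Type*} [Group G] {V Z X Y R L A A' B B' C E F H : Subgroup G}

/-- `A`, `B ~ R` are on one line with `R` or joined -/
def Eqv (V Z R A B : Subgroup G) : Prop :=
  Adj V Z A R ∧ Adj V Z B R ∧ ((∃ L, IsCj V L ∧ R ≤ L ∧ A ≤ L ∧ B ≤ L) ∨ Jo V Z R A B)

/-- the block of `A` at `R` -/
def blk (V Z R A : Subgroup G) : Subgroup G := R ⊔ sSup {E | Eqv V Z R A E}

/-- `R ≤ H` and `H` is a union of `R` and points `~ R` -/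
def Good (V Z R H : Subgroup G) : Prop := R ≤ H ∧ ∀ x ∈ H, x ∉ R → ∃ E, Adj V Z E R ∧ E ≤ H ∧ x ∈ E

theorem Eqv.cj (he : Eqv V Z R A B) (g : G) : Eqv V Z (cj g R) (cj g A) (cj g B) := by
  obtain ⟨h1, h2, h3⟩ := he
  refine ⟨h1.cj g, h2.cj g, ?_⟩
  rcases h3 with ⟨L, hL, hRL, hAL, hBL⟩ | h3
  · exact Or.inl ⟨PT.cj g L, hL.cj g, cj_le_cj.2 hRL, cj_le_cj.2 hAL, cj_le_cj.2 hBL⟩
  · exact Or.inr (jo_cj.2 h3)

theorem eqv_cj {g : G} : Eqv V Z (cj g R) (cj g A) (cj g B) ↔ Eqv V Z R A B := by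
  refine ⟨fun h => ?_, fun h => h.cj g⟩
  have := h.cj g⁻¹
  rwa [cj_cj, cj_cj, cj_cj, inv_mul_cancel, cj_one, cj_one, cj_one] at this

theorem eqv_le_blk (he : Eqv V Z R A E) : E ≤ blk V Z R A := le_sup_of_le_right (le_sSup he)

theorem R_le_blk : R ≤ blk V Z R A := le_sup_left

theorem blk_cj (g : G) : blk V Z (cj g R) (cj g A) = cj g (blk V Z R A) := by
  have key : ∀ (g : G) (R A : Subgroup G), blk V Z (cj g R) (cj g A) ≤ cj g (blk V Z R A) := by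
    intro g R A
    refine sup_le (cj_le_cj.2 R_le_blk) (sSup_le fun E hE => ?_)
    have h1 : Eqv V Z R A (cj g⁻¹ E) := by
      have h2 := hE.cj g⁻¹
      rwa [cj_cj, cj_cj, inv_mul_cancel, cj_one, cj_one] at h2
    have h3 := eqv_le_blk h1
    rwa [cj_le_iff, inv_inv] at h3
  refine le_antisymm (key g R A) ?_
  have h1 := key g⁻¹ (cj g R) (cj g A)
  rw [cj_cj, cj_cj, inv_mul_cancel, cj_one, cj_one] at h1
  rwa [cj_le_iff]

namespace TF

variable [Finite G] {S : Sylow 2 G} {P : Subgroup G} (h : TF S P V Z)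
include h

theorem eqv_refl (hA : Adj V Z A R) : Eqv V Z R A A := by
  obtain ⟨L, hL, hAL, hRL⟩ := hA.line
  exact ⟨hA, hA, Or.inl ⟨L, hL, hRL, hAL, hAL⟩⟩

theorem eqv_symm (hs : JSym V Z) (he : Eqv V Z R A B) : Eqv V Z R B A := by
  obtain ⟨h1, h2, h3⟩ := he
  refine ⟨h2, h1, ?_⟩
  rcases h3 with ⟨L, hL, hRL, hAL, hBL⟩ | h3
  · exact Or.inl ⟨L, hL, hRL, hBL, hAL⟩
  · exact Or.inr (hs _ _ _ h3)

theorem eqv_trans (ht : JTrans V Z) (he : Eqv V Z R A B) (he' : Eqv V Z R B C) : Eqv V Z R A C := by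
  obtain ⟨h1, h2, h3⟩ := he
  obtain ⟨-, h4, h5⟩ := he'
  refine ⟨h1, h4, ?_⟩
  rcases h3 with ⟨L, hL, hRL, hAL, hBL⟩ | h3
  · rcases h5 with ⟨M, hM, hRM, hBM, hCM⟩ | h5
    · left
      have e := h.line_unique h2.left h2.right h2.ne hL hM hBL hRL hBM hRM
      exact ⟨L, hL, hRL, hAL, e ▸ hCM⟩
    · exact Or.inr (h.jo_line_left h5 h1 hL hRL hBL hAL)
  · rcases h5 with ⟨M, hM, hRM, hBM, hCM⟩ | h5
    · exact Or.inr (h.jo_line_right h3 h4 hM hRM hBM hCM)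
    · by_cases hl : ∃ L, IsCj V L ∧ R ≤ L ∧ A ≤ L ∧ C ≤ L
      · exact Or.inl hl
      · exact Or.inr (ht R A B C h3 h5 fun L hL hRL hAL hCL => hl ⟨L, hL, hRL, hAL, hCL⟩)

/-- an element of a line on `R` is in `R` or in a point `~ R` of the line -/
theorem line_pt (hR : IsCj Z R) (hL : IsCj V L) (hRL : R ≤ L) {x : G} (hx : x ∈ L) (hxR : x ∉ R) :
    ∃ E, Adj V Z E R ∧ E ≤ L ∧ x ∈ E := by
  obtain ⟨E, hE, hEL, hxE⟩ := h.exists_point hL hx (fun e => hxR (e ▸ one_mem _))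
  exact ⟨E, ⟨hE, hR, fun e => hxR (e ▸ hxE), L, hL, hEL, hRL⟩, hEL, hxE⟩

/-- the points are disjoint from `R` -/
theorem not_mem_R (hE : Adj V Z E R) {x : G} (hx : x ∈ E) (hx1 : x ≠ 1) : x ∉ R := fun e =>
  hE.ne (h.pts_eq hE.left hE.right hx e hx1)

/-- the product of elements of two joined points is in a point of `⟨E, F⟩` -/
theorem jo_mul (hv : JVal V Z) (hj : Jo V Z R E F) {x y : G} (hx : x ∈ E) (hy : y ∈ F) (hy1 : y ≠ 1) :
    ∃ g ∈ UU V Z E, x * y ∈ PT.cj g F ∧ PT.cj g F ≤ E ⊔ F ∧ Adj V Z (PT.cj g F) R ∧ Jo V Z R E (PT.cj g F) := by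
  obtain ⟨g, hg, hgy⟩ := hv R E F hj y hy hy1 x hx
  refine ⟨g, hg, ?_, h.cj_le_sup hj.l hj.r hg, h.adj_cj_UU hj.l hj.r hg, ?_⟩
  · have h1 : g * y * g⁻¹ = x * y := by rw [← hgy]; group
    rw [← h1]
    exact conj_mem_cj hy
  · have h1 := jo_cj (g := g).2 hj
    rwa [h.cj_UU_adj hg hj.l, h.cj_UU hg hj.l.left] at h1

/-- the elements of a block -/
theorem mem_blk (hs : JSym V Z) (hv : JVal V Z) (ht : JTrans V Z) (hA : Adj V Z A R) {x : G} :
    x ∈ blk V Z R A ↔ x ∈ R ∨ ∃ E, Eqv V Z R A E ∧ x ∈ E := by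
  constructor
  swap
  · rintro (hx | ⟨E, hE, hx⟩)
    · exact R_le_blk hx
    · exact eqv_le_blk hE hx
  -- a line with one point in the block
  have hline : ∀ {F L : Subgroup G}, Eqv V Z R A F → IsCj V L → R ≤ L → F ≤ L → ∀ x ∈ L,
      x ∈ R ∨ ∃ E, Eqv V Z R A E ∧ x ∈ E := by
    intro F L hF hL hRL hFL x hx
    by_cases hxR : x ∈ R
    · exact Or.inl hxR
    obtain ⟨E, hE, hEL, hxE⟩ := h.line_pt hA.right hL hRL hx hxR
    exact Or.inr ⟨E, h.eqv_trans ht hF ⟨hF.2.1, hE, Or.inl ⟨L, hL, hRL, hFL, hEL⟩⟩, hxE⟩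
  let K : Subgroup G :=
    { carrier := {x | x ∈ R ∨ ∃ E, Eqv V Z R A E ∧ x ∈ E}
      one_mem' := Or.inl (one_mem _)
      inv_mem' := by
        rintro x (hx | ⟨E, hE, hx⟩)
        · exact Or.inl (inv_mem hx)
        · exact Or.inr ⟨E, hE, inv_mem hx⟩
      mul_mem' := by
        rintro x y (hx | ⟨E, hE, hx⟩) (hy | ⟨F, hF, hy⟩)
        · exact Or.inl (mul_mem hx hy)
        · obtain ⟨L, hL, hFL, hRL⟩ := hF.2.1.line
          exact hline hF hL hRL hFL _ (mul_mem (hRL hx) (hFL hy))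
        · obtain ⟨L, hL, hEL, hRL⟩ := hE.2.1.line
          exact hline hE hL hRL hEL _ (mul_mem (hEL hx) (hRL hy))
        · by_cases hy1 : y = 1
          · rw [hy1, mul_one]
            exact Or.inr ⟨E, hE, hx⟩
          rcases (h.eqv_trans ht (h.eqv_symm hs hE) hF).2.2 with ⟨L, hL, hRL, hEL, hFL⟩ | hj
          · exact hline hE hL hRL hEL _ (mul_mem (hEL hx) (hFL hy))
          · obtain ⟨g, hg, h1, -, h3, h4⟩ := h.jo_mul hv hj hx hy hy1
            exact Or.inr ⟨_, h.eqv_trans ht hE ⟨hE.2.1, h3, Or.inr h4⟩, h1⟩ }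
  have hK : blk V Z R A ≤ K := sup_le (fun x hx => Or.inl hx) (sSup_le fun E hE x hx => Or.inr ⟨E, hE, hx⟩)
  exact fun hx => hK hx

theorem blk_le_ws (hA : Adj V Z A R) : blk V Z R A ≤ ws V R :=
  sup_le (h.pt_le_ws hA.right) (sSup_le fun _ hE => h.adj_le_ws hE.2.1.symm)

/-- a point in a block is equivalent to its base point -/
theorem eqv_of_le (hs : JSym V Z) (hv : JVal V Z) (ht : JTrans V Z) (hA : Adj V Z A R) (hE : Adj V Z E R) {x : G}
    (hx : x ∈ E) (hx1 : x ≠ 1) (hxb : x ∈ blk V Z R A) : Eqv V Z R A E := by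
  rcases (h.mem_blk hs hv ht hA).1 hxb with h1 | ⟨F, hF, h1⟩
  · exact absurd h1 (h.not_mem_R hE hx hx1)
  · rwa [h.pts_eq hE.left hF.2.1.left hx h1 hx1]

theorem blk_eq (hs : JSym V Z) (ht : JTrans V Z) (he : Eqv V Z R A B) : blk V Z R A = blk V Z R B := by
  unfold blk
  congr 2
  ext E
  exact ⟨fun h1 => h.eqv_trans ht (h.eqv_symm hs he) h1, fun h1 => h.eqv_trans ht he h1⟩

theorem good_R : Good V Z R R := ⟨le_rfl, fun _ hx hxR => absurd hx hxR⟩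

theorem good_blk (hs : JSym V Z) (hv : JVal V Z) (ht : JTrans V Z) (hA : Adj V Z A R) :
    Good V Z R (blk V Z R A) := by
  refine ⟨R_le_blk, fun x hx hxR => ?_⟩
  rcases (h.mem_blk hs hv ht hA).1 hx with h1 | ⟨E, hE, h1⟩
  · exact absurd h1 hxR
  · exact ⟨E, hE.2.1, eqv_le_blk hE, h1⟩

/-- **one step** -/
theorem good_sup (hs : JSym V Z) (hv : JVal V Z) (ht : JTrans V Z) (hH : Good V Z R H) (hHD : H ≤ blk V Z R A)
    (hA : Adj V Z A R) (hE : Eqv V Z R A E) (hn : ¬ E ≤ H) :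
    Good V Z R (H ⊔ E) ∧ H ⊓ E = ⊥ ∧ Nat.card ↥(H ⊔ E) = Nat.card H * Nat.card Z := by
  have hHW : H ≤ ws V R := hHD.trans (h.blk_le_ws hA)
  have hEW : E ≤ ws V R := h.adj_le_ws hE.2.1.symm
  have hmem : ∀ x ∈ H ⊔ E, ∃ a ∈ H, ∃ b ∈ E, x = a * b := by
    let K : Subgroup G :=
      { carrier := {x | ∃ a ∈ H, ∃ b ∈ E, x = a * b}
        one_mem' := ⟨1, one_mem _, 1, one_mem _, (mul_one 1).symm⟩
        inv_mem' := by
          rintro _ ⟨a, ha, b, hb, rfl⟩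
          refine ⟨a⁻¹, inv_mem ha, b⁻¹, inv_mem hb, ?_⟩
          rw [mul_inv_rev, h.ws_comm hA.right ((ws V R).inv_mem (hEW hb)) ((ws V R).inv_mem (hHW ha))]
        mul_mem' := by
          rintro _ _ ⟨a, ha, b, hb, rfl⟩ ⟨c, hc, d, hd, rfl⟩
          refine ⟨a * c, mul_mem ha hc, b * d, mul_mem hb hd, ?_⟩
          rw [mul_assoc, ← mul_assoc b c d, h.ws_comm hA.right (hEW hb) (hHW hc)]
          simp only [mul_assoc] }
    have hK : H ⊔ E ≤ K := sup_le (fun x hx => ⟨x, hx, 1, one_mem _, (mul_one x).symm⟩)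
      (fun x hx => ⟨1, one_mem _, x, hx, (one_mul x).symm⟩)
    exact fun x hx => hK hx
  have hinf : H ⊓ E = ⊥ := by
    rw [eq_bot_iff]
    rintro x ⟨hx, hx'⟩
    rw [mem_bot]
    by_contra hx1
    obtain ⟨F, hF, hFH, hxF⟩ := hH.2 x hx (h.not_mem_R hE.2.1 hx' hx1)
    exact hn (h.pts_eq hE.2.1.left hF.left hx' hxF hx1 ▸ hFH)
  refine ⟨⟨hH.1.trans le_sup_left, ?_⟩, hinf, ?_⟩
  · intro x hx hxR
    obtain ⟨a, ha, b, hb, rfl⟩ := hmem x hx
    by_cases hb1 : b = 1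
    · rw [hb1, mul_one] at hxR ⊢
      obtain ⟨F, hF, hFH, haF⟩ := hH.2 a ha hxR
      exact ⟨F, hF, hFH.trans le_sup_left, haF⟩
    by_cases haR : a ∈ R
    · obtain ⟨L, hL, hEL, hRL⟩ := hE.2.1.line
      obtain ⟨F, hF, hFL, hxF⟩ := h.line_pt hA.right hL hRL (mul_mem (hRL haR) (hEL hb)) hxR
      exact ⟨F, hF, hFL.trans (h.line_le' hA.right hE.2.1.left hE.2.1.ne hL hRL hEL (hH.1.trans le_sup_left)
        le_sup_right), hxF⟩
    · obtain ⟨F, hF, hFH, haF⟩ := hH.2 a ha haR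
      have ha1 : a ≠ 1 := fun e => haR (e ▸ one_mem _)
      have h1 := h.eqv_of_le hs hv ht hA hF haF ha1 (hHD ha)
      rcases (h.eqv_trans ht (h.eqv_symm hs h1) hE).2.2 with ⟨L, hL, hRL, hFL, hEL⟩ | hj
      · exact absurd (hEL.trans (h.line_le' hA.right hF.left hF.ne hL hRL hFL hH.1 hFH)) hn
      · obtain ⟨g, hg, h2, h3, h4, -⟩ := h.jo_mul hv hj haF hb hb1
        exact ⟨_, h4, h3.trans (sup_le (hFH.trans le_sup_left) le_sup_right), h2⟩
  · have h1 : Nat.card E = Nat.card Z := h.card_pt hE.2.1.left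
    rw [← h1, ← Nat.card_prod]
    symm
    refine Nat.card_congr (Equiv.ofBijective
      (fun p : H × E => (⟨(p.1 : G) * p.2, mul_mem (mem_sup_left p.1.2) (mem_sup_right p.2.2)⟩ : ↥(H ⊔ E))) ⟨?_, ?_⟩)
    · rintro ⟨a, b⟩ ⟨c, d⟩ e
      have e1 : (a : G) * b = c * d := congrArg Subtype.val e
      have e2 : (c : G)⁻¹ * a = d * (b : G)⁻¹ := by
        rw [eq_mul_inv_iff_mul_eq, mul_assoc, e1, inv_mul_cancel_left]
      have e3 : (c : G)⁻¹ * a ∈ H ⊓ E := by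
        refine ⟨H.mul_mem (H.inv_mem c.2) a.2, ?_⟩
        change (c : G)⁻¹ * a ∈ E
        rw [e2]
        exact E.mul_mem d.2 (E.inv_mem b.2)
      rw [hinf, mem_bot] at e3
      have e4 : (a : G) = c := (inv_mul_eq_one.1 e3).symm
      rw [e3] at e2
      have e5 : (d : G) = b := mul_inv_eq_one.1 e2.symm
      exact Prod.ext (Subtype.ext e4) (Subtype.ext e5.symm)
    · rintro ⟨x, hx⟩
      obtain ⟨a, ha, b, hb, rfl⟩ := hmem x hx
      exact ⟨(⟨a, ha⟩, ⟨b, hb⟩), rfl⟩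

end TF

end Cfsg.Agent.Omega.NO3S.MidB

end

section


/-!
# TYPE N, case (A2): the fields of `SLB` except `two` (bb OMEGA #18317, TCARD 5 D)

* `Bk V Z X` : the blocks at `X`;
* `TF.exists_jo_blk`; `TF.card_blk` : the blocks have order `|Z| ^ (m + 1)`, `m ≥ 3`;
* `TF.slb_of` : `SLB` from the field `two`.
-/

set_option autoImplicit false
set_option linter.unusedSectionVars false

namespace Cfsg.Agent.Omega.NO3S.MidB

open Subgroup Cfsg.Agent.Omega.NO3S.PT Cfsg.Agent.Omega.NoFF.Basic Cfsg.Agent.ZN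
open Cfsg.Agent.Omega.NO3S.MidQ (Adj Com Cr UU ws_of kx_of isCj_iff adj_iff com_iff cr_iff UU_of isCj_symm isCj_trans
  com_cj UU_cj le_UU normalizer_le_UU isPGroup_sSup FlagCan PtCan ff mem_ff ff_cj TypN cw mem_cw cw_le cw_cj Jo jo_cj zu
  Sb SLB)
open scoped Pointwise

variable {G : Type*} [Group G] {V Z X Y R L A A' B B' C E F H : Subgroup G}

/-- the blocks at `X` -/
def Bk (V Z X : Subgroup G) : Set (Subgroup G) := {B | ∃ A, Adj V Z A X ∧ B = blk V Z X A}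

namespace TF

variable [Finite G] {S : Sylow 2 G} {P : Subgroup G} (h : TF S P V Z)
include h

/-- there are joined points -/
theorem exists_jo_blk : ∃ R A B, Jo V Z R A B := by
  obtain ⟨A, R, B, hc⟩ := h.ex
  by_contra hcon
  apply hc.ne
  have hB := hc.r.right
  have h1 : ws V B ≤ centralizer ((UU V Z R : Subgroup G) : Set G) := by
    refine h.ws_le_of hB ?_ fun F hF => ?_
    · exact le_centralizer_iff.1 (h.UU_le_cent_adj hc.r.symm)
    · by_contra hF'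
      exact hcon ⟨B, R, F, hc.r, hF, hF'⟩
  exact (le_UU hc.l).trans (le_centralizer_iff.1 h1)

/-- good subgroups of a block: the order of the block is a power of `|Z|` -/
theorem card_pow_of (hs : JSym V Z) (hv : JVal V Z) (ht : JTrans V Z) (hA : Adj V Z A R) :
    ∀ (n : ℕ) (H : Subgroup G), Nat.card (blk V Z R A) ≤ Nat.card H + n → Good V Z R H → H ≤ blk V Z R A →
      ∀ j, Nat.card H = Nat.card Z ^ j → ∃ k, j ≤ k ∧ Nat.card (blk V Z R A) = Nat.card Z ^ k := by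
  have hZ := h.one_lt_card_pt
  intro n
  induction n with
  | zero =>
    intro H hc _ hle j hj
    have h1 : H = blk V Z R A := Subgroup.eq_of_le_of_card_ge hle (by omega)
    exact ⟨j, le_rfl, by rw [← h1, hj]⟩
  | succ n ih =>
    intro H hc hH hle j hj
    by_cases h1 : H = blk V Z R A
    · exact ⟨j, le_rfl, by rw [← h1, hj]⟩
    obtain ⟨x, hx, hxH⟩ := SetLike.exists_of_lt (lt_of_le_of_ne hle h1)
    rcases (h.mem_blk hs hv ht hA).1 hx with h2 | ⟨E, hE, hxE⟩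
    · exact absurd (hH.1 h2) hxH
    obtain ⟨h3, -, h4⟩ := h.good_sup hs hv ht hH hle hA hE (fun e => hxH (e hxE))
    have h5 : 0 < Nat.card H := Nat.card_pos
    have h6 : Nat.card H + 1 ≤ Nat.card ↥(H ⊔ E) := by
      rw [h4]
      calc Nat.card H + 1 ≤ Nat.card H + Nat.card H := by omega
        _ = Nat.card H * 2 := by ring
        _ ≤ Nat.card H * Nat.card Z := Nat.mul_le_mul_left _ hZ
    obtain ⟨k, hk, hk2⟩ := ih (H ⊔ E) (by omega) h3 (sup_le hle (eqv_le_blk hE)) (j + 1) (by rw [h4, hj, pow_succ])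
    exact ⟨k, by omega, hk2⟩

/-- in case (A2) the order of a block with joined points is at least `|Z| ^ 4` -/
theorem card_blk_jo (hs : JSym V Z) (hv : JVal V Z) (ht : JTrans V Z) (hB : Bg V Z) (hj : Jo V Z R A B) :
    ∃ k, 4 ≤ k ∧ Nat.card (blk V Z R A) = Nat.card Z ^ k := by
  have hA := hj.l
  obtain ⟨g, hg, hgB, w, hw, hgw⟩ := hB R A B hj
  -- the fourth point
  obtain ⟨E, hE, hEg⟩ : ∃ E, Adj V Z E R ∧ ¬ E ≤ centralizer {g} := by
    by_contra hcon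
    push Not at hcon
    have h1 : ws V R ≤ centralizer {g} := by
      refine h.ws_le_of hA.right (fun x hx => ?_) hcon
      rw [mem_centralizer_singleton_iff]
      exact (mem_centralizer_iff.1 (h.UU_le_cent_adj hA.symm hg) x hx)
    exact hgw (mem_centralizer_singleton_iff.1 (h1 hw)).symm
  have hjE : Jo V Z R A E := ⟨hA, hE, fun e => hEg fun x hx =>
    mem_centralizer_singleton_iff.2 (mem_centralizer_iff.1 (e hx) g hg).symm⟩
  have hRg : R ≤ centralizer {g} := fun x hx =>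
    mem_centralizer_singleton_iff.2 (mem_centralizer_iff.1 (h.UU_le_cent_adj hA.symm hg) x hx)
  have hAg : A ≤ centralizer {g} := fun x hx =>
    mem_centralizer_singleton_iff.2 (mem_centralizer_iff.1 (h.UU_le_cent_pt hA.left hg) x hx)
  have hBg : B ≤ centralizer {g} := fun x hx => mem_centralizer_singleton_iff.2 (hgB x hx).symm
  obtain ⟨L, hL, hAL, hRL⟩ := hA.line
  -- the chain
  have h0 : R ≤ blk V Z R A := R_le_blk
  obtain ⟨g1, -, c1⟩ := h.good_sup hs hv ht h.good_R h0 hA (h.eqv_refl hA) (fun e => by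
    obtain ⟨a, ha, ha1⟩ := h.pt_ne_bot hA.left
    exact h.not_mem_R hA ha ha1 (e ha))
  have h1 : R ⊔ A ≤ blk V Z R A := sup_le h0 (eqv_le_blk (h.eqv_refl hA))
  obtain ⟨g2, -, c2⟩ := h.good_sup hs hv ht g1 h1 hA ⟨hA, hj.r, Or.inr hj⟩ (fun e =>
    (h.jo_iff hA hj.r).1 hj (e.trans ((sup_le hRL hAL).trans (h.line_le_cw hL hRL hAL))))
  have h2 : R ⊔ A ⊔ B ≤ blk V Z R A := sup_le h1 (eqv_le_blk ⟨hA, hj.r, Or.inr hj⟩)
  obtain ⟨g3, -, c3⟩ := h.good_sup hs hv ht g2 h2 hA ⟨hA, hE, Or.inr hjE⟩ (fun e =>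
    hEg (e.trans (sup_le (sup_le hRg hAg) hBg)))
  have h3 : R ⊔ A ⊔ B ⊔ E ≤ blk V Z R A := sup_le h2 (eqv_le_blk ⟨hA, hE, Or.inr hjE⟩)
  refine h.card_pow_of hs hv ht hA (Nat.card (blk V Z R A)) _ (by omega) g3 h3 4 ?_
  rw [c3, c2, c1, h.card_pt hA.right]
  ring

/-- **the order of the blocks** -/
theorem card_blk (hs : JSym V Z) (hv : JVal V Z) (ht : JTrans V Z) (hB : Bg V Z) :
    ∃ m, 3 ≤ m ∧ ∀ R A, Adj V Z A R → Nat.card (blk V Z R A) = Nat.card Z ^ (m + 1) := by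
  obtain ⟨R₀, A₀, B₀, hj⟩ := h.exists_jo_blk
  obtain ⟨k, hk, hk2⟩ := h.card_blk_jo hs hv ht hB hj
  refine ⟨k - 1, by omega, fun R A hA => ?_⟩
  obtain ⟨g, rfl, rfl⟩ := h.exists_adj hj.l hA
  rw [blk_cj, card_cj, hk2]
  congr 1
  omega

/-- **`SLB` from the field `two`** -/
theorem slb_of (hs : JSym V Z) (hv : JVal V Z) (ht : JTrans V Z) (hB : Bg V Z)
    (two : ∀ R A B A' B', Sb V Z (Bk V Z) R A B → Sb V Z (Bk V Z) R A' B' →
      ∃ g : G, cj g R = R ∧ cj g A = A' ∧ cj g B = B') : ∃ Blk m, SLB V Z Blk m := by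
  obtain ⟨m, hm, hcard⟩ := h.card_blk hs hv ht hB
  refine ⟨Bk V Z, m, ?_⟩
  exact
  { three := hm
    can := by
      rintro g X - _ ⟨A, hA, rfl⟩
      exact ⟨PT.cj g A, hA.cj g, (blk_cj g).symm⟩
    le := by
      rintro X - _ ⟨A, hA, rfl⟩
      exact ⟨R_le_blk, h.blk_le_ws hA⟩
    line := by
      intro X hX L hL hXL
      obtain ⟨Y, hY, hYL, hYX⟩ := h.exists_second hX hL hXL
      have hYX' : Adj V Z Y X := ⟨hY, hX, hYX, L, hL, hYL, hXL⟩
      exact ⟨_, ⟨Y, hYX', rfl⟩, h.line_le' hX hY hYX hL hXL hYL R_le_blk (eqv_le_blk (h.eqv_refl hYX'))⟩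
    inf := by
      rintro X - _ ⟨A, hA, rfl⟩ _ ⟨A', hA', rfl⟩ hne b hb hb'
      by_contra hbX
      rcases (h.mem_blk hs hv ht hA).1 hb with h1 | ⟨E, hE, hbE⟩
      · exact hbX h1
      have h2 := h.eqv_of_le hs hv ht hA' hE.2.1 hbE (fun e => hbX (e ▸ one_mem _)) hb'
      exact hne ((h.blk_eq hs ht h2).trans (h.blk_eq hs ht hE).symm)
    all := by
      rintro X hX _ ⟨A, hA, rfl⟩ b hb hbX
      rcases (h.mem_blk hs hv ht hA).1 hb with h1 | ⟨E, hE, hbE⟩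
      · exact absurd h1 hbX
      · obtain ⟨L, hL, hEL, hXL⟩ := hE.2.1.line
        exact ⟨L, hL, hXL, hEL hbE⟩
    card := by
      rintro X - _ ⟨A, hA, rfl⟩
      exact hcard X A hA
    other := by
      rintro R A hA _ ⟨C, hC, rfl⟩ hn b hb u hu
      rcases (h.mem_blk hs hv ht hC).1 hb with h1 | ⟨E, hE, hbE⟩
      · exact (mem_centralizer_iff.1 (h.UU_le_cent_adj hA.symm hu) b h1).symm
      by_contra hub
      have hj : Jo V Z R A E := ⟨hA, hE.2.1, fun e => hub (mem_centralizer_iff.1 (e hbE) u hu)⟩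
      exact hn (eqv_le_blk (h.eqv_trans ht hE (h.eqv_symm hs ⟨hA, hE.2.1, Or.inr hj⟩)))
    cent := by
      rintro R A hA _ ⟨C, hC, rfl⟩ hAB L hL hRL hAL b hb hub
      rcases (h.mem_blk hs hv ht hC).1 hb with h1 | ⟨E, hE, hbE⟩
      · exact hRL h1
      obtain ⟨a, ha, ha1⟩ := h.pt_ne_bot hA.left
      have h2 := h.eqv_of_le hs hv ht hC hA ha ha1 (hAB ha)
      rcases (h.eqv_trans ht (h.eqv_symm hs h2) hE).2.2 with ⟨M, hM, hRM, hAM, hEM⟩ | hj
      · have e := h.line_unique hA.left hA.right hA.ne hM hL hAM hRM hAL hRL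
        exact e ▸ hEM hbE
      · have h3 := h.inf_cw hj hbE (mem_cw.2 ⟨h.adj_le_ws hE.2.1.symm hbE, fun u hu => hub u hu⟩)
        rw [h3]
        exact one_mem _
    two := two }

end TF

end Cfsg.Agent.Omega.NO3S.MidB

end

section


/-!
# TYPE N is impossible, K-free: (2) (DIST) (bb OMEGA #18317, TCARD 5 #19054, part B)

`h : TF S P V Z`.

* `TF.exists_jo_dist` : something is joined to `A` at `R`;
* `TF.exists_moved` : `1 ≠ α ∈ A` is moved by some `U_X`, `X ~ R`;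
* `exists_conj_of_max` : a 2-subgroup of maximal order of `E` contains a conjugate of every 2-element of `E`;
* `TF.dist` : `JSym → JVal → JDist`.
-/

set_option autoImplicit false
set_option linter.unusedSectionVars false

namespace Cfsg.Agent.Omega.NO3S.MidB

open Subgroup Cfsg.Agent.Omega.NO3S.PT Cfsg.Agent.Omega.NoFF.Basic Cfsg.Agent.ZN
open Cfsg.Agent.Omega.NO3S.MidQ (Adj Com Cr UU Jo le_UU isCj_iff UU_cj)
open scoped Pointwise

variable {G : Type*} [Group G] {V Z X Y R L A C : Subgroup G}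

/-- a 2-subgroup `T` of maximal order of `E` contains a conjugate (in `E`) of every 2-element of `E` -/
theorem exists_conj_of_max [Finite G] {E T : Subgroup G} (hT : IsPGroup 2 T) (hTE : T ≤ E)
    (hmax : ∀ D : Subgroup G, IsPGroup 2 D → D ≤ E → Nat.card D ≤ Nat.card T) {t : G} (ht : TwoEl t) (htE : t ∈ E) :
    ∃ e ∈ E, e⁻¹ * t * e ∈ T := by
  have : Fact (Nat.Prime 2) := ⟨Nat.prime_two⟩
  obtain ⟨Q, hQ⟩ := (hT.comap_subtype (K := E)).exists_le_sylow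
  have hTQ : T = (Q : Subgroup E).map E.subtype := by
    refine Subgroup.eq_of_le_of_card_ge ?_ ?_
    · intro x hx
      exact ⟨⟨x, hTE hx⟩, hQ (show (⟨x, hTE hx⟩ : E) ∈ T.comap E.subtype from hx), rfl⟩
    · exact hmax _ (Q.isPGroup'.map _) (map_subtype_le _)
  obtain ⟨Q', hQ'⟩ := (ht.isPGroup.comap_subtype (K := E)).exists_le_sylow
  obtain ⟨e, he⟩ := MulAction.exists_smul_eq E Q Q'
  refine ⟨e, e.2, ?_⟩
  have h1 : (⟨t, htE⟩ : E) ∈ Q' := hQ' (show (⟨t, htE⟩ : E) ∈ (zpowers t).comap E.subtype from mem_zpowers t)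
  rw [← he] at h1
  have h2 : (⟨t, htE⟩ : E) ∈ ((e • Q : Sylow 2 E) : Subgroup E) := h1
  rw [Sylow.coe_subgroup_smul] at h2
  rw [Subgroup.mem_pointwise_smul_iff_inv_smul_mem] at h2
  have h3 : e⁻¹ * (⟨t, htE⟩ : E) * e ∈ (Q : Subgroup E) := by
    have h4 : (MulAut.conj e)⁻¹ • (⟨t, htE⟩ : E) = e⁻¹ * (⟨t, htE⟩ : E) * e := by
      rw [← map_inv, MulAut.smul_def, MulAut.conj_apply, inv_inv]
    rwa [← h4]
  rw [hTQ]
  exact ⟨_, h3, rfl⟩

namespace TF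

variable [Finite G] {S : Sylow 2 G} {P : Subgroup G} (h : TF S P V Z)
include h

/-- something is joined to `A` at `R` -/
theorem exists_jo_dist (hA : Adj V Z A R) : ∃ X, Jo V Z R A X := by
  by_contra hcon
  push Not at hcon
  obtain ⟨B, hB⟩ := h.exists_crit hA.symm
  have h0 : R ≤ centralizer ((UU V Z A : Subgroup G) : Set G) :=
    le_centralizer_iff.1 (h.UU_le_cent_adj hA.symm)
  have h1 : ws V R ≤ centralizer ((UU V Z A : Subgroup G) : Set G) := by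
    refine h.ws_le_of hA.right h0 fun X hX => ?_
    by_contra h2
    exact hcon X ⟨hA, hX, h2⟩
  exact hB.ne (h1.trans (centralizer_le (le_UU hB.r.symm)))

/-- `1 ≠ α ∈ A` is moved by some `U_X` -/
theorem exists_moved (hs : JSym V Z) (hA : Adj V Z A R) {α : G} (hα : α ∈ A) (hα1 : α ≠ 1) :
    ∃ X, Adj V Z X R ∧ ∃ u ∈ UU V Z X, u * α ≠ α * u := by
  by_contra hcon
  push Not at hcon
  obtain ⟨X, hX⟩ := h.exists_jo_dist hA
  have h1 := hs _ _ _ hX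
  refine h1.mv fun a ha => mem_centralizer_iff.2 fun u hu => ?_
  exact h.t3 hA.symm (h.twoEl_UU hu)
    (fun y hy => (mem_centralizer_iff.1 (h.UU_le_cent_adj h1.l.symm hu) y hy).symm) hα hα1 (hcon X h1.l u hu) a ha

/-- **(2) (DIST)** -/
theorem dist (hs : JSym V Z) (hv : JVal V Z) : JDist V Z := by
  intro R A C hA hC α hα γ hγ hu
  have hR := hA.right
  have hαW : α ∈ ws V R := h.adj_le_ws hA.symm hα
  have hγW : γ ∈ ws V R := h.adj_le_ws hC.symm hγ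
  by_cases hα1 : α = 1
  · subst hα1
    by_cases hγ1 : γ = 1
    · rw [hγ1, one_mul]; exact one_mem _
    · exfalso
      obtain ⟨X, hX, u, huX, hne⟩ := h.exists_moved hs hC hγ hγ1
      have := hu X hX u huX
      rw [one_mul] at this
      exact hne this
  by_cases hγ1 : γ = 1
  · subst hγ1
    exfalso
    obtain ⟨X, hX, u, huX, hne⟩ := h.exists_moved hs hA hα hα1
    have := hu X hX u huX
    rw [mul_one] at this
    exact hne this
  -- (i)
  have hi : ∀ X, Adj V Z X R → ∀ g ∈ UU V Z X, g * γ = γ * g → g * α = α * g := by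
    intro X hX g hg h1
    have h2 := hu X hX g hg
    have h3 : g * α * γ = α * g * γ := by
      rw [mul_assoc, h2, mul_assoc, mul_assoc, ← h1]
    exact mul_right_cancel h3
  -- (ii)
  obtain ⟨X, hX⟩ := h.exists_jo_dist hA
  have hXA := hs _ _ _ hX
  have hXC : Jo V Z R X C := by
    refine ⟨hX.r, hC, fun hle => ?_⟩
    refine hXA.mv fun a ha => mem_centralizer_iff.2 fun u huX => ?_
    have h1 : u * γ = γ * u := mem_centralizer_iff.1 (hle hγ) u huX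
    exact h.t3 hA.symm (h.twoEl_UU huX)
      (fun y hy => (mem_centralizer_iff.1 (h.UU_le_cent_adj hX.r.symm huX) y hy).symm) hα hα1
      (hi X hX.r u huX h1) a ha
  have hCX := hs _ _ _ hXC
  obtain ⟨ξ, hξ, hξ1⟩ := h.pt_ne_bot hX.r.left
  have hξW : ξ ∈ ws V R := h.adj_le_ws hX.r.symm hξ
  obtain ⟨τ, hτ, hτξ⟩ := hv R A X hX ξ hξ hξ1 α hα
  obtain ⟨τ', hτ', hτξ'⟩ := hv R C X hCX ξ hξ hξ1 γ hγ
  have hτ'γ : τ' * γ = γ * τ' := (mem_centralizer_iff.1 (h.UU_le_cent_pt hC.left hτ') γ hγ).symm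
  have hτ'α := hi C hC τ' hτ' hτ'γ
  -- `t = τ' τ`
  set u0 := α * γ with hu0
  have hαγ : α * γ = γ * α := h.ws_comm hR hαW hγW
  have hu0W : u0 ∈ ws V R := mul_mem hαW hγW
  have hu0sq : u0 * u0 = 1 := h.ws_sq hR hu0W
  have ht1 : (τ' * τ) * ξ * (τ' * τ)⁻¹ = u0 * ξ := by
    have h1 : τ * ξ * τ⁻¹ = α * ξ := by rw [← hτξ]; group
    have h2 : τ' * ξ * τ'⁻¹ = γ * ξ := by rw [← hτξ']; group
    calc (τ' * τ) * ξ * (τ' * τ)⁻¹ = τ' * (τ * ξ * τ⁻¹) * τ'⁻¹ := by group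
      _ = τ' * α * τ'⁻¹ * (τ' * ξ * τ'⁻¹) := by rw [h1]; group
      _ = α * (γ * ξ) := by rw [hτ'α, mul_inv_cancel_right, h2]
      _ = u0 * ξ := by rw [hu0, mul_assoc]
  have htR : τ' * τ ∈ centralizer (R : Set G) :=
    mul_mem (h.UU_le_cent_adj hC.symm hτ') (h.UU_le_cent_adj hA.symm hτ)
  -- `R0`
  let R0 : Subgroup G :=
    { carrier := {w | w ∈ ws V R ∧ ∀ Y, Adj V Z Y R → ∀ u ∈ UU V Z Y, u * w = w * u}
      one_mem' := ⟨one_mem _, fun _ _ u _ => by rw [mul_one, one_mul]⟩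
      mul_mem' := by
        rintro a b ⟨ha, ha'⟩ ⟨hb, hb'⟩
        exact ⟨mul_mem ha hb, fun Y hY u hu => by rw [← mul_assoc, ha' Y hY u hu, mul_assoc, hb' Y hY u hu, mul_assoc]⟩
      inv_mem' := by
        rintro a ⟨ha, ha'⟩
        exact ⟨inv_mem ha, fun Y hY u hu => by
          rw [mul_inv_eq_iff_eq_mul, mul_assoc, ha' Y hY u hu, inv_mul_cancel_left]⟩ }
  have hR0W : R0 ≤ ws V R := fun w hw => hw.1
  have hR0N : ∀ g ∈ centralizer (R : Set G), ∀ w ∈ R0, g * w * g⁻¹ ∈ R0 := by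
    intro g hg w hw
    have hgR : PT.cj g R = R := cj_eq_iff.2 (centralizer_le_normalizer _ hg)
    refine ⟨(mem_normalizer_iff.1 (normalizer_le_ws V R (centralizer_le_normalizer _ hg)) w).1 hw.1,
      fun Y hY u hu => ?_⟩
    have h1 : Adj V Z (PT.cj g⁻¹ Y) R := by
      have h2 := hY.cj g⁻¹
      rwa [show PT.cj g⁻¹ R = R by rw [← hgR, cj_cj, inv_mul_cancel, cj_one, hgR]] at h2
    have h3 : g⁻¹ * u * g ∈ UU V Z (PT.cj g⁻¹ Y) := by
      rw [UU_cj]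
      have := conj_mem_cj (g := g⁻¹) hu
      rwa [inv_inv] at this
    have h4 := hw.2 _ h1 _ h3
    calc u * (g * w * g⁻¹) = g * ((g⁻¹ * u * g) * w) * g⁻¹ := by group
      _ = g * w * g⁻¹ * u := by rw [h4]; group
  have hu0R0 : u0 ∈ R0 := ⟨hu0W, hu⟩
  -- `E`
  let E : Subgroup G :=
    { carrier := {g | g ∈ centralizer (R : Set G) ∧ g * ξ * g⁻¹ * ξ⁻¹ ∈ R0}
      one_mem' := ⟨one_mem _, by simp only [one_mul, inv_one, mul_one, mul_inv_cancel]; exact one_mem _⟩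
      mul_mem' := by
        rintro a b ⟨ha, ha'⟩ ⟨hb, hb'⟩
        refine ⟨mul_mem ha hb, ?_⟩
        have e : a * b * ξ * (a * b)⁻¹ * ξ⁻¹ = a * (b * ξ * b⁻¹ * ξ⁻¹) * a⁻¹ * (a * ξ * a⁻¹ * ξ⁻¹) := by group
        rw [e]
        exact mul_mem (hR0N a ha _ hb') ha'
      inv_mem' := by
        rintro a ⟨ha, ha'⟩
        refine ⟨inv_mem ha, ?_⟩
        have e : a⁻¹ * ξ * a⁻¹⁻¹ * ξ⁻¹ = a⁻¹ * (a * ξ * a⁻¹ * ξ⁻¹)⁻¹ * a⁻¹⁻¹ := by group
        rw [e]
        exact hR0N a⁻¹ (inv_mem ha) _ (inv_mem ha') }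
  -- an odd power
  obtain ⟨m, hm, ht2⟩ := exists_odd_pow (τ' * τ)
  set t := (τ' * τ) ^ m with ht
  have hcomm0 : ∀ w ∈ R0, (τ' * τ) * w = w * (τ' * τ) := fun w hw => by
    rw [mul_assoc, hw.2 A hA τ hτ, ← mul_assoc, hw.2 C hC τ' hτ', mul_assoc]
  have hcomm : ∀ w ∈ R0, t * w = w * t := fun w hw =>
    (Commute.pow_left (hcomm0 w hw : Commute (τ' * τ) w) m).eq
  have hpow : ∀ n : ℕ, (τ' * τ) ^ n * ξ * ((τ' * τ) ^ n)⁻¹ = u0 ^ n * ξ := by
    intro n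
    induction n with
    | zero => simp
    | succ n ih =>
      have h1 : (τ' * τ) * u0 ^ n = u0 ^ n * (τ' * τ) :=
        (Commute.pow_right (hcomm0 u0 hu0R0 : Commute (τ' * τ) u0) n).eq
      calc (τ' * τ) ^ (n + 1) * ξ * ((τ' * τ) ^ (n + 1))⁻¹
          = (τ' * τ) * ((τ' * τ) ^ n * ξ * ((τ' * τ) ^ n)⁻¹) * (τ' * τ)⁻¹ := by
            rw [pow_succ' (τ' * τ) n, mul_inv_rev]
            simp only [mul_assoc]
        _ = (τ' * τ) * u0 ^ n * ξ * (τ' * τ)⁻¹ := by rw [ih]; simp only [mul_assoc]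
        _ = u0 ^ n * ((τ' * τ) * ξ * (τ' * τ)⁻¹) := by rw [h1]; simp only [mul_assoc]
        _ = u0 ^ (n + 1) * ξ := by rw [ht1, pow_succ]; simp only [mul_assoc]
  have htξ : t * ξ * t⁻¹ = u0 * ξ := by
    rw [ht, hpow m]
    obtain ⟨k, hk⟩ := hm
    rw [hk, pow_succ, pow_mul, pow_two, hu0sq, one_pow, one_mul]
  have htE : t ∈ E := by
    refine ⟨pow_mem htR m, ?_⟩
    rw [htξ, mul_inv_cancel_right]
    exact hu0R0
  -- the flag
  obtain ⟨L, hL, hXL, hRL⟩ := hX.r.line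
  obtain ⟨T, Q, h'⟩ := h.flag hR hL hRL
  have hT0E : (T : Subgroup G) ⊓ centralizer (R : Set G) ≤ E := by
    intro s hs
    refine ⟨hs.2, ?_⟩
    have h1 := h'.pl.act s hs ξ (hXL hξ)
    exact ⟨h.pt_le_ws hR h1, fun Y hY u hu => (mem_centralizer_iff.1 (h.UU_le_cent_adj hY.symm hu) _ h1).symm⟩
  obtain ⟨e, he, heT⟩ := exists_conj_of_max (T.isPGroup'.to_le inf_le_left) hT0E (fun D hD hDE => by
    obtain ⟨m, -, hm⟩ := h'.pl.exists_le_conjB (H := normalizer (R : Set G)) h'.pl.SN le_rfl hD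
      (fun d hd => centralizer_le_normalizer _ (hDE hd).1) (fun d hd => (hDE hd).1)
    exact (Subgroup.card_le_of_le hm).trans (card_cj m _).le) ht2 htE
  -- `w = [e, ξ]`
  set w := e * ξ * e⁻¹ * ξ⁻¹ with hw
  have hwR0 : w ∈ R0 := he.2
  have h1 := h'.pl.act _ heT ξ (hXL hξ)
  have h2 : e * ((e⁻¹ * t * e) * ξ * (e⁻¹ * t * e)⁻¹ * ξ⁻¹) * e⁻¹ ∈ R := by
    rw [← mem_centralizer_iff.1 he.1 _ h1, mul_inv_cancel_right]
    exact h1
  have h3 : e * ((e⁻¹ * t * e) * ξ * (e⁻¹ * t * e)⁻¹ * ξ⁻¹) * e⁻¹ = u0 := by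
    have h4 : e * ξ * e⁻¹ = w * ξ := by rw [hw]; group
    have h5 : w * u0 = u0 * w := h.ws_comm hR (hR0W hwR0) hu0W
    calc e * ((e⁻¹ * t * e) * ξ * (e⁻¹ * t * e)⁻¹ * ξ⁻¹) * e⁻¹
        = t * (e * ξ * e⁻¹) * t⁻¹ * (e * ξ * e⁻¹)⁻¹ := by group
      _ = t * w * ξ * t⁻¹ * (w * ξ)⁻¹ := by rw [h4]; group
      _ = w * (t * ξ * t⁻¹) * ξ⁻¹ * w⁻¹ := by rw [hcomm w hwR0]; group
      _ = w * u0 * w⁻¹ := by rw [htξ]; group
      _ = u0 := by rw [h5, mul_inv_cancel_right]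
  rwa [h3] at h2

end TF

end Cfsg.Agent.Omega.NO3S.MidB

end

end
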